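import Cfsg.Agent.Lib.Forms.Max.TwoGroup.Double
import Cfsg.Agent.Lib.Classical.QuadClass

/-!
# Conjugacy of systems of monomials

Systems with isometric forms are conjugate up to signs (up to fourth roots of unity when only the alternating forms
agree). The alternating form is determined by the number of vectors, the quadratic form by that and the type, and an
invariant sesquilinear matrix is determined up to a scalar.
-/

set_option autoImplicit false
set_option linter.unusedSectionVars false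

namespace Cfsg.Agent.Forms.Max.TwoGroup

open Matrix Module

/-- a bilinear form whose symmetrisation is a given alternating form -/
theorem exists_half {A : Type*} [AddCommGroup A] [Module (ZMod 2) A] [Finite A]
    (δ : LinearMap.BilinForm (ZMod 2) A) (hsymm : ∀ a b, δ a b = δ b a) (halt : ∀ a, δ a a = 0) :
    ∃ η : LinearMap.BilinForm (ZMod 2) A, ∀ a b, η a b + η b a = δ a b := by
  classical
  haveI : Module.Finite (ZMod 2) A := Module.Finite.of_finite
  let b := Module.finBasis (ZMod 2) A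
  let η : LinearMap.BilinForm (ZMod 2) A :=
    Matrix.toBilin b (Matrix.of fun i j => if i < j then δ (b i) (b j) else 0)
  have hη : ∀ i j, η (b i) (b j) = if i < j then δ (b i) (b j) else 0 := fun i j => by
    have h := congrFun (congrFun (LinearMap.BilinForm.toMatrix_toBilin b
      (Matrix.of fun i j => if i < j then δ (b i) (b j) else 0)) i) j
    rw [BilinForm.toMatrix_apply] at h
    exact h
  have h : η + LinearMap.BilinForm.flipHom η = δ := by
    refine LinearMap.BilinForm.ext_basis b fun i j => ?_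
    show η (b i) (b j) + η (b j) (b i) = δ (b i) (b j)
    rw [hη, hη]
    rcases lt_trichotomy i j with h | h | h
    · rw [if_pos h, if_neg h.le.not_gt, add_zero]
    · subst h; rw [if_neg (lt_irrefl i), add_zero, halt]
    · rw [if_neg h.le.not_gt, if_pos h, zero_add, hsymm]
  exact ⟨η, fun x y => LinearMap.congr_fun (LinearMap.congr_fun h x) y⟩

theorem sgn_map {F K : Type*} [Field F] [Field K] (f : F →+* K) (a : ZMod 2) : f (sgn F a) = sgn K a := by
  rcases z2_cases a with rfl | rfl <;> simp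

theorem two_z2 : (2 : ZMod 2) = 0 := rfl

namespace Sys

variable {A A' ι ι' F : Type*} [AddCommGroup A] [Module (ZMod 2) A] [Fintype A] [AddCommGroup A']
  [Module (ZMod 2) A'] [Fintype A'] [Field F] [Fintype ι] [DecidableEq ι] [Fintype ι'] [DecidableEq ι']

/-- renaming of the vectors -/
def comap (S : Sys A' ι F) (φ : A ≃ₗ[ZMod 2] A') : Sys A ι F where
  e a := S.e (φ a)
  β := S.β.compl₁₂ φ.toLinearMap φ.toLinearMap
  two_ne := S.two_ne
  card_ne := S.card_ne
  e_zero := by rw [map_zero, S.e_zero]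
  e_mul a b := by rw [S.e_mul, map_add]; rfl
  trace_eq a ha := S.trace_eq _ fun h => ha (φ.injective (h.trans (map_zero φ).symm))
  card_eq := by rw [← S.card_eq]; exact Fintype.card_congr φ.toEquiv
  nondeg a ha := φ.injective (by
    rw [map_zero]
    exact S.nondeg _ fun b => by simpa using ha (φ.symm b))

theorem comap_e (S : Sys A' ι F) (φ : A ≃ₗ[ZMod 2] A') (a : A) : (S.comap φ).e a = S.e (φ a) := rfl

theorem comap_q (S : Sys A' ι F) (φ : A ≃ₗ[ZMod 2] A') (a : A) : (S.comap φ).q a = S.q (φ a) := rfl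

theorem comap_ω (S : Sys A' ι F) (φ : A ≃ₗ[ZMod 2] A') (a b : A) :
    (S.comap φ).ω a b = S.ω (φ a) (φ b) := rfl

/-- renaming of the matrix entries -/
def reindex (S : Sys A ι' F) (ε : ι ≃ ι') : Sys A ι F where
  e a := (S.e a).submatrix ε ε
  β := S.β
  two_ne := S.two_ne
  card_ne := by rw [Fintype.card_congr ε]; exact S.card_ne
  e_zero := by rw [S.e_zero, Matrix.submatrix_one_equiv]
  e_mul a b := by
    rw [Matrix.submatrix_mul_equiv, S.e_mul, Matrix.submatrix_smul, Pi.smul_apply, Pi.smul_apply]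
  trace_eq a ha := by
    rw [← S.trace_eq a ha]
    exact ε.sum_comp fun i => S.e a i i
  card_eq := by rw [S.card_eq, Fintype.card_congr ε]
  nondeg := S.nondeg

theorem reindex_e (S : Sys A ι' F) (ε : ι ≃ ι') (a : A) : (S.reindex ε).e a = (S.e a).submatrix ε ε := rfl

theorem reindex_q (S : Sys A ι' F) (ε : ι ≃ ι') (a : A) : (S.reindex ε).q a = S.q a := rfl

theorem reindex_ω (S : Sys A ι' F) (ε : ι ≃ ι') (a b : A) : (S.reindex ε).ω a b = S.ω a b := rfl

/-! ### The intertwiner -/

theorem exists_factor (S T : Sys A ι F) (hω : ∀ a b, S.ω a b = T.ω a b)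
    (hq : (∀ a, S.q a = T.q a) ∨ ∃ i : F, i * i = -1) :
    ∃ c : A → F, (∀ a, c a ^ 4 = 1) ∧ ((∀ a, S.q a = T.q a) → ∀ a, c a * c a = 1) ∧
      ∀ a b, c a * c b * sgn F (T.β a b) = sgn F (S.β a b) * c (a + b) := by
  set δ := S.β + T.β with hδ
  have hδs : ∀ a b, δ a b = δ b a := fun a b => by
    have e := hω a b
    simp only [ω_apply] at e
    simp only [hδ, LinearMap.add_apply]
    linear_combination e + (T.β a b - S.β b a) * two_z2
  by_cases hq' : ∀ a, S.q a = T.q a
  · have halt : ∀ a, δ a a = 0 := fun a => by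
      show S.q a + T.q a = 0
      rw [hq', CharTwo.add_self_eq_zero]
    obtain ⟨η, hη⟩ := exists_half δ hδs halt
    refine ⟨fun a => sgn F (η a a), fun a => ?_, fun _ a => sgn_mul_self _, fun a b => ?_⟩
    · linear_combination (sgn F (η a a) * sgn F (η a a) + 1) * sgn_mul_self (F := F) (η a a)
    · rw [← sgn_add, ← sgn_add, ← sgn_add]
      congr 1
      have e := hη a b
      simp only [hδ, LinearMap.add_apply] at e
      simp only [map_add, LinearMap.add_apply]
      linear_combination -e - S.β a b * two_z2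
  · obtain ⟨i, hi⟩ := hq.resolve_left hq'
    let l : A →ₗ[ZMod 2] ZMod 2 := (AddMonoidHom.mk' (fun a => δ a a) fun a b => by
      simp only [map_add, LinearMap.add_apply, hδs b a]
      linear_combination δ a b * two_z2).toZModLinearMap 2
    have hl : ∀ a, l a = δ a a := fun a => rfl
    let δ' : LinearMap.BilinForm (ZMod 2) A := δ + (LinearMap.mul (ZMod 2) (ZMod 2)).compl₁₂ l l
    have hδ' : ∀ a b, δ' a b = δ a b + l a * l b := fun a b => rfl
    obtain ⟨η, hη⟩ := exists_half δ' (fun a b => by rw [hδ', hδ', hδs a b, mul_comm]) fun a => by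
      rw [hδ', ← hl]
      rcases z2_cases (l a) with h | h <;> rw [h] <;> decide
    let f : ZMod 2 → F := fun x => if x = 0 then 1 else i
    have hf : ∀ x y, f x * f y = sgn F (x * y) * f (x + y) := fun x y => by
      rcases z2_cases x with rfl | rfl <;> rcases z2_cases y with rfl | rfl <;>
        simp [f, hi, show (1 : ZMod 2) + 1 = 0 from rfl]
    have hf2 : ∀ x, f x * f x = sgn F x := fun x => by
      rcases z2_cases x with rfl | rfl <;> simp [f, hi]
    refine ⟨fun a => f (l a) * sgn F (η a a), fun a => ?_, fun h => absurd h hq', fun a b => ?_⟩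
    · rw [show ∀ x y : F, (x * y) ^ 4 = (x * x) * (x * x) * ((y * y) * (y * y)) from fun x y => by ring, hf2,
        sgn_mul_self, sgn_mul_self, one_mul, one_mul]
    · have key : l a * l b + η a a + η b b + T.β a b = S.β a b + η (a + b) (a + b) := by
        have e := hη a b
        simp only [hδ', hδ, LinearMap.add_apply] at e
        simp only [map_add, LinearMap.add_apply]
        linear_combination -e - S.β a b * two_z2
      have e := congrArg (sgn F) key
      rw [sgn_add, sgn_add, sgn_add, sgn_add] at e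
      show f (l a) * _ * (f (l b) * _) * _ = _ * (f (l (a + b)) * _)
      rw [map_add l]
      have e' := hf (l a) (l b)
      linear_combination (sgn F (η a a) * sgn F (η b b) * sgn F (T.β a b)) * e' + f (l a + l b) * e

/-- systems with the same forms are conjugate -/
theorem exists_intertwiner (S T : Sys A ι F) (hω : ∀ a b, S.ω a b = T.ω a b)
    (hq : (∀ a, S.q a = T.q a) ∨ ∃ i : F, i * i = -1) :
    ∃ (g : GL ι F) (c : A → F), (∀ a, c a ^ 4 = 1) ∧ ((∀ a, S.q a = T.q a) → ∀ a, c a * c a = 1) ∧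
      ∀ a, (g : Matrix ι ι F) * S.e a = c a • (T.e a * (g : Matrix ι ι F)) := by
  classical
  obtain ⟨c, hc4, hc2, hc⟩ := exists_factor S T hω hq
  let P : Matrix ι ι F → Matrix ι ι F := fun X => ∑ a, (sgn F (S.q a) * c a) • (T.e a * X * S.e a)
  have hP : ∀ X b, P X * S.e b = c b • (T.e b * P X) := by
    intro X b
    simp only [P, Finset.sum_mul, Finset.mul_sum, Finset.smul_sum]
    rw [← Equiv.sum_comp (Equiv.addRight b) fun a => (sgn F (S.q a) * c a) • (T.e a * X * S.e a) * S.e b]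
    refine Finset.sum_congr rfl fun a _ => ?_
    simp only [Equiv.coe_addRight, Matrix.smul_mul, Matrix.mul_smul, smul_smul]
    rw [mul_assoc (T.e (a + b) * X), S.e_mul, Matrix.mul_smul, add_assoc, add_self_zero, add_zero, ← mul_assoc (T.e b),
      ← mul_assoc (T.e b), T.e_mul, Matrix.smul_mul, Matrix.smul_mul, add_comm b a, smul_smul, smul_smul]
    congr 1
    have hq1 : S.q (a + b) + S.β (a + b) b = S.q a + S.β b a := by
      simp only [q, map_add, LinearMap.add_apply]
      linear_combination (S.β a b + S.β b b) * two_z2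
    have e := congrArg (sgn F) hq1
    rw [sgn_add, sgn_add] at e
    have hc' := hc b a
    rw [add_comm b a] at hc'
    linear_combination c (a + b) * e - sgn F (S.q a) * hc'
  obtain ⟨X, hX⟩ : ∃ X, P X ≠ 0 := by
    by_contra hc'
    push Not at hc'
    haveI := S.nonempty
    have hne : c 0 ≠ 0 := fun h => by simpa [h] using hc4 0
    have hzero : ∀ i j, T.e 0 i j = 0 := by
      intro i j
      have hcomb : ∑ a, (sgn F (S.q a) * c a * T.e a i j) • S.e a = 0 := by
        ext k l
        have e := congrFun (congrFun (hc' (Matrix.single j k 1)) i) l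
        simp only [P, Matrix.sum_apply, Matrix.smul_apply, smul_eq_mul, Matrix.zero_apply] at e
        simp only [Matrix.sum_apply, Matrix.smul_apply, smul_eq_mul, Matrix.zero_apply]
        rw [← e]
        refine Finset.sum_congr rfl fun a _ => ?_
        rw [Matrix.mul_apply, Finset.sum_eq_single k (fun b _ hb => by
          rw [Matrix.mul_apply, Finset.sum_eq_single j (fun d _ hd => by simp [Ne.symm hd]) (by simp)]
          simp [Ne.symm hb]) (by simp)]
        rw [Matrix.mul_apply, Finset.sum_eq_single j (fun d _ hd => by simp [Ne.symm hd]) (by simp)]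
        simp [mul_assoc]
      have := Fintype.linearIndependent_iff.1 S.indep _ hcomb 0
      simpa [S.q_zero, hne] using this
    obtain ⟨i₀⟩ := S.nonempty
    have := hzero i₀ i₀
    rw [T.e_zero] at this
    simp at this
  have hinj : Function.Injective (P X).mulVec := by
    refine (injective_iff_map_eq_zero (Matrix.toLin' (P X))).2 fun x hx => ?_
    by_contra hx0
    rw [Matrix.toLin'_apply] at hx
    have hall : ∀ Y : Matrix ι ι F, P X *ᵥ (Y *ᵥ x) = 0 := by
      intro Y
      obtain ⟨co, rfl⟩ := (Submodule.mem_span_range_iff_exists_fun F).1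
        (S.span_top ▸ Submodule.mem_top : Y ∈ Submodule.span F (Set.range S.e))
      simp [Matrix.sum_mulVec, Matrix.mulVec_sum, Matrix.mulVec_smul, Matrix.smul_mulVec, hP,
        ← Matrix.mulVec_mulVec (v := x) (M := T.e _), Matrix.mulVec_mulVec x (P X), hx]
    refine hX ?_
    obtain ⟨j, hj⟩ := Function.ne_iff.1 hx0
    refine Matrix.ext_iff_mulVec.2 fun y => ?_
    have hy := hall (Matrix.vecMulVec y (Pi.single j (x j)⁻¹))
    rw [Matrix.vecMulVec_mulVec, single_dotProduct, inv_mul_cancel₀ hj, MulOpposite.op_one, one_smul] at hy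
    rw [hy, Matrix.zero_mulVec]
  refine ⟨(Matrix.mulVec_injective_iff_isUnit.1 hinj).unit, c, hc4, hc2, fun a => ?_⟩
  rw [IsUnit.unit_spec]
  exact hP X a

/-- systems on different index sets with isometric forms are conjugate -/
theorem exists_conj (S : Sys A ι F) (S' : Sys A' ι' F) (φ : A ≃ₗ[ZMod 2] A') (ε : ι ≃ ι')
    (hω : ∀ a b, S'.ω (φ a) (φ b) = S.ω a b)
    (hq : (∀ a, S'.q (φ a) = S.q a) ∨ ∃ i : F, i * i = -1) :
    ∃ (g : GL ι F) (c : A → F), (∀ a, c a ^ 4 = 1) ∧ ((∀ a, S'.q (φ a) = S.q a) → ∀ a, c a * c a = 1) ∧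
      ∀ a, (g : Matrix ι ι F) * S.e a = c a • ((S'.e (φ a)).submatrix ε ε * (g : Matrix ι ι F)) := by
  obtain ⟨g, c, h4, h2, h⟩ := exists_intertwiner S ((S'.comap φ).reindex ε) (fun a b => (hω a b).symm)
    (hq.imp_left fun h a => (h a).symm)
  exact ⟨g, c, h4, fun hh => h2 fun a => (hh a).symm, h⟩

/-- `Φ` is determined up to a scalar by the monomials -/
theorem form_unique (S : Sys A ι F) {σ : F →+* F} {Φ Ψ : Matrix ι ι F} (hΦ : IsUnit Φ.det)
    (hu : ∀ a, S.u a ∈ isoGrp σ Φ) (hu' : ∀ a, S.u a ∈ isoGrp σ Ψ) : ∃ l : F, Ψ = l • Φ := by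
  obtain ⟨l, hl⟩ := S.scalar_of_comm (X := Φ⁻¹ * Ψ) fun a => by
    have h1 := mem_isoGrp.1 (hu a)
    have h2 := mem_isoGrp.1 (hu' a)
    rw [u_val] at h1 h2
    have hE : IsUnit (((S.e a).map σ)ᵀ).det := by
      have := congrArg Matrix.det h1
      rw [Matrix.det_mul, Matrix.det_mul] at this
      exact isUnit_iff_ne_zero.2 fun h0 => hΦ.ne_zero (by rw [← this, h0, zero_mul, zero_mul])
    have e1 : Φ⁻¹ * ((S.e a).map σ)ᵀ * Φ * S.e a = 1 := by
      rw [mul_assoc Φ⁻¹, mul_assoc, h1, Matrix.nonsing_inv_mul _ hΦ]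
    have e2 : S.e a * (Φ⁻¹ * ((S.e a).map σ)ᵀ * Φ) = 1 := mul_eq_one_comm.1 e1
    calc Φ⁻¹ * Ψ * S.e a
        = (S.e a * (Φ⁻¹ * ((S.e a).map σ)ᵀ * Φ)) * (Φ⁻¹ * Ψ * S.e a) := by rw [e2, one_mul]
      _ = S.e a * (Φ⁻¹ * (((S.e a).map σ)ᵀ * (Φ * Φ⁻¹) * Ψ * S.e a)) := by simp only [mul_assoc]
      _ = S.e a * (Φ⁻¹ * Ψ) := by rw [Matrix.mul_nonsing_inv _ hΦ, mul_one, h2]
  refine ⟨l, ?_⟩
  have := congrArg (Φ * ·) hl
  simp only [← mul_assoc, Matrix.mul_nonsing_inv _ hΦ, one_mul, Matrix.mul_smul, mul_one] at this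
  exact this

theorem conj_adjoint {σ : F →+* F} {E G T Φ' : Matrix ι ι F} {c : F} (hc : σ c * c = 1)
    (hg : G * E = c • (T * G)) (hT : (T.map σ)ᵀ * Φ' * T = Φ') :
    (E.map σ)ᵀ * ((G.map σ)ᵀ * Φ' * G) * E = (G.map σ)ᵀ * Φ' * G := by
  calc (E.map σ)ᵀ * ((G.map σ)ᵀ * Φ' * G) * E = ((G * E).map σ)ᵀ * Φ' * (G * E) := by
        rw [map_mul', Matrix.transpose_mul]; simp only [mul_assoc]
    _ = (σ c * c) • ((G.map σ)ᵀ * ((T.map σ)ᵀ * Φ' * T) * G) := by
        rw [hg, map_smul', map_mul', Matrix.transpose_smul, Matrix.transpose_mul, Matrix.smul_mul, Matrix.smul_mul,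
          Matrix.mul_smul, smul_smul]
        simp only [mul_assoc]
    _ = _ := by rw [hc, one_smul, hT]

/-- the form carried by an intertwiner is an invariant form up to a scalar -/
theorem form_conj (S : Sys A ι F) (T : Sys A ι F) {σ : F →+* F} {Φ Φ' : Matrix ι ι F} (hΦ : IsUnit Φ.det)
    (hΦ' : IsUnit Φ'.det) (hu : ∀ a, S.u a ∈ isoGrp σ Φ) (hu' : ∀ a, T.u a ∈ isoGrp σ Φ') {g : GL ι F} {c : A → F}
    (hc : ∀ a, σ (c a) * c a = 1)
    (hg : ∀ a, (g : Matrix ι ι F) * S.e a = c a • (T.e a * (g : Matrix ι ι F))) :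
    ∃ l : F, l ≠ 0 ∧ ((g : Matrix ι ι F).map σ)ᵀ * Φ' * (g : Matrix ι ι F) = l • Φ := by
  obtain ⟨l, hl⟩ := S.form_unique hΦ hu (Ψ := ((g : Matrix ι ι F).map σ)ᵀ * Φ' * (g : Matrix ι ι F)) fun a => by
    have h2 := mem_isoGrp.1 (hu' a)
    rw [u_val] at h2
    refine mem_isoGrp.2 ?_
    rw [u_val]
    exact conj_adjoint (E := S.e a) (G := (g : Matrix ι ι F)) (T := T.e a) (hc a) (hg a) h2
  refine ⟨l, fun h0 => ?_, hl⟩
  haveI := S.nonempty
  have hg1 : IsUnit (g : Matrix ι ι F).det := (Matrix.isUnit_iff_isUnit_det _).1 g.isUnit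
  rw [h0, zero_smul] at hl
  have := congrArg Matrix.det hl
  rw [Matrix.det_mul, Matrix.det_mul, Matrix.det_transpose, ← RingHom.mapMatrix_apply, ← RingHom.map_det,
    Matrix.det_zero] at this
  exact mul_ne_zero (mul_ne_zero ((RingHom.isUnit_map σ hg1).ne_zero) hΦ'.ne_zero) hg1.ne_zero this

/-! ### The forms -/

/-- plus type: a totally singular subspace of half dimension -/
def Plus (S : Sys A ι F) : Prop :=
  ∃ U : Submodule (ZMod 2) A, (∀ u ∈ U, S.q u = 0) ∧ 2 * finrank (ZMod 2) U = finrank (ZMod 2) A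

/-- the quadratic form as a quadratic form -/
noncomputable def quad (S : Sys A ι F) : QuadraticForm (ZMod 2) A := LinearMap.BilinMap.toQuadraticMap S.β

theorem quad_apply (S : Sys A ι F) (a : A) : S.quad a = S.q a := rfl

theorem quad_nondeg (S : Sys A ι F) : (QuadraticMap.polarBilin S.quad).Nondegenerate := by
  have h : ∀ a b, QuadraticMap.polarBilin S.quad a b = S.ω a b := fun a b => by
    rw [QuadraticMap.polarBilin_apply_apply, QuadraticMap.polar, quad_apply, quad_apply, quad_apply, q_add]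
    ring
  exact ⟨fun a ha => S.ω_nondeg fun b => (h a b).symm.trans (ha b),
    fun b hb => S.ω_nondeg fun a => ((S.ω_comm b a).trans (h a b).symm).trans (hb a)⟩

theorem exists_finrank (S : Sys A ι F) : ∃ m, finrank (ZMod 2) A = 2 * m := by
  haveI : Module.Finite (ZMod 2) A := Module.Finite.of_finite
  refine Cfsg.Agent.Forms.Bases.even_finrank_of_alt S.ω (fun a => S.ω_self a) ?_
  exact ⟨fun a ha => S.ω_nondeg ha, fun b hb => S.ω_nondeg fun a => (S.ω_comm b a).trans (hb a)⟩

theorem finrank_eq_of_card (h : Fintype.card A = Fintype.card A') :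
    finrank (ZMod 2) A = finrank (ZMod 2) A' := by
  haveI : Module.Finite (ZMod 2) A := Module.Finite.of_finite
  haveI : Module.Finite (ZMod 2) A' := Module.Finite.of_finite
  rw [← Nat.card_eq_fintype_card, ← Nat.card_eq_fintype_card, Module.natCard_eq_pow_finrank (K := ZMod 2) (V := A),
    Module.natCard_eq_pow_finrank (K := ZMod 2) (V := A'), Nat.card_zmod] at h
  exact Nat.pow_right_injective le_rfl h

/-- the alternating form depends on the number of vectors only -/
theorem exists_ω_equiv (S : Sys A ι F) (S' : Sys A' ι' F) (h : Fintype.card A = Fintype.card A') :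
    ∃ φ : A ≃ₗ[ZMod 2] A', ∀ a b, S'.ω (φ a) (φ b) = S.ω a b := by
  haveI : Module.Finite (ZMod 2) A := Module.Finite.of_finite
  haveI : Module.Finite (ZMod 2) A' := Module.Finite.of_finite
  obtain ⟨m, hm⟩ := S.exists_finrank
  obtain ⟨b, b1, b2, b3⟩ := Cfsg.Agent.Forms.Bases.exists_sympBasis S.ω (fun a => S.ω_self a)
    ⟨fun a ha => S.ω_nondeg ha, fun b hb => S.ω_nondeg fun a => (S.ω_comm b a).trans (hb a)⟩ hm
  obtain ⟨b', c1, c2, c3⟩ := Cfsg.Agent.Forms.Bases.exists_sympBasis S'.ω (fun a => S'.ω_self a)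
    ⟨fun a ha => S'.ω_nondeg ha, fun b hb => S'.ω_nondeg fun a => (S'.ω_comm b a).trans (hb a)⟩
    ((finrank_eq_of_card h).symm.trans hm)
  refine ⟨b.equiv b' (Equiv.refl _), fun x y => ?_⟩
  have key : S'.ω.compl₁₂ (b.equiv b' (Equiv.refl _)).toLinearMap (b.equiv b' (Equiv.refl _)).toLinearMap = S.ω := by
    refine LinearMap.BilinForm.ext_basis b fun i j => ?_
    simp only [LinearMap.compl₁₂_apply, LinearEquiv.coe_coe, Module.Basis.equiv_apply, Equiv.refl_apply]
    rcases i with i | i <;> rcases j with j | j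
    · rw [c2, b2]
    · rw [c1, b1]
    · rw [S'.ω_comm, S.ω_comm, c1, b1]
    · rw [c3, b3]
  exact LinearMap.congr_fun (LinearMap.congr_fun key x) y

theorem classify (S : Sys A ι F) : ∃ m, finrank (ZMod 2) A = 2 * m ∧
    ((S.Plus ∧ ∃ e : A ≃ₗ[ZMod 2] (Fin m ⊕ Fin m → ZMod 2), ∀ x, Forms.PlusStd.plusQ (ZMod 2) m (e x) = S.q x) ∨
    (¬ S.Plus ∧ 1 ≤ m ∧ ∃ (ζ : ZMod 2) (e : A ≃ₗ[ZMod 2] ((Fin (m - 1) ⊕ Fin (m - 1)) ⊕ Fin 2 → ZMod 2)),
      (∀ t : ZMod 2, t ^ 2 + t + ζ ≠ 0) ∧
      ∀ x, Classical.OrthForms.minQ (ZMod 2) (m - 1) 1 ζ (e x) = S.q x)) := by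
  haveI : Module.Finite (ZMod 2) A := Module.Finite.of_finite
  obtain ⟨m, hm⟩ := S.exists_finrank
  refine ⟨m, hm, ?_⟩
  rcases Classical.QuadClass.classify_even m hm S.quad S.quad_nondeg with ⟨e, he⟩ | ⟨hm1, ζ, e, hζ, he⟩
  · refine Or.inl ⟨?_, e, he⟩
    let inl : (Fin m → ZMod 2) →ₗ[ZMod 2] (Fin m ⊕ Fin m → ZMod 2) :=
      { toFun := fun x => Sum.elim x 0
        map_add' := fun x y => funext fun i => by cases i <;> simp
        map_smul' := fun c x => funext fun i => by cases i <;> simp }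
    have hi : Function.Injective (e.symm.toLinearMap.comp inl) := fun x y h => funext fun i =>
      congrFun (e.symm.injective h) (Sum.inl i)
    refine ⟨LinearMap.range (e.symm.toLinearMap.comp inl), ?_, ?_⟩
    · rintro _ ⟨x, rfl⟩
      rw [← quad_apply, ← he, LinearMap.comp_apply, LinearEquiv.coe_coe, e.apply_symm_apply, Forms.PlusStd.plusQ_apply]
      simp [inl, Cfsg.quadFormPlus]
    · rw [LinearMap.finrank_range_of_inj hi, hm]; simp
  · refine Or.inr ⟨?_, hm1, ζ, e, hζ, he⟩
    rintro ⟨U, hU, hd⟩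
    have := Classical.QuadClass.finrank_le_of_minus (Classical.QuadClass.aniso_one hζ) (U.map e.toLinearMap) (by
      rintro _ ⟨u, hu, rfl⟩
      rw [LinearEquiv.coe_coe, he]
      exact hU u hu)
    rw [LinearEquiv.finrank_map_eq] at this
    omega

/-- the quadratic form depends on the number of vectors and the type only -/
theorem exists_q_equiv (S : Sys A ι F) (S' : Sys A' ι' F) (h : Fintype.card A = Fintype.card A')
    (ht : S.Plus ↔ S'.Plus) :
    ∃ φ : A ≃ₗ[ZMod 2] A', (∀ a, S'.q (φ a) = S.q a) ∧ ∀ a b, S'.ω (φ a) (φ b) = S.ω a b := by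
  suffices ∃ φ : A ≃ₗ[ZMod 2] A', ∀ a, S'.q (φ a) = S.q a by
    obtain ⟨φ, hφ⟩ := this
    refine ⟨φ, hφ, fun a b => ?_⟩
    have e := hφ (a + b)
    rw [map_add, q_add, q_add, hφ, hφ] at e
    exact add_left_cancel e
  obtain ⟨m, hm, h1⟩ := S.classify
  obtain ⟨m', hm', h1'⟩ := S'.classify
  obtain rfl : m' = m := by rw [finrank_eq_of_card h] at hm; omega
  rcases h1 with ⟨hp, e, he⟩ | ⟨hp, -, ζ, e, hζ, he⟩ <;>
    rcases h1' with ⟨hp', e', he'⟩ | ⟨hp', -, ζ', e', hζ', he'⟩
  · exact ⟨e.trans e'.symm, fun x => by rw [← he', LinearEquiv.trans_apply, e'.apply_symm_apply, he]⟩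
  · exact absurd (ht.1 hp) hp'
  · exact absurd (ht.2 hp') hp
  · obtain ⟨d, hd⟩ := Classical.QuadClass.minQ_isometric (m' - 1) hζ' hζ
    exact ⟨e.trans (d.trans e'.symm), fun x => by
      rw [← he', LinearEquiv.trans_apply, LinearEquiv.trans_apply, e'.apply_symm_apply, hd, he]⟩

/-- conjugacy of systems with as many vectors and the same type -/
theorem exists_conj_of_type (S : Sys A ι F) (S' : Sys A' ι' F) (ε : ι ≃ ι') (ht : S.Plus ↔ S'.Plus) :
    ∃ (φ : A ≃ₗ[ZMod 2] A') (g : GL ι F) (c : A → F), (∀ a, S'.q (φ a) = S.q a) ∧ (∀ a, c a * c a = 1) ∧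
      ∀ a, (g : Matrix ι ι F) * S.e a = c a • ((S'.e (φ a)).submatrix ε ε * (g : Matrix ι ι F)) := by
  obtain ⟨φ, hq, hω⟩ := S.exists_q_equiv S' (by rw [S.card_eq, S'.card_eq, Fintype.card_congr ε]) ht
  obtain ⟨g, c, -, h2, h⟩ := S.exists_conj S' φ ε hω (Or.inl hq)
  exact ⟨φ, g, c, hq, h2 hq, h⟩

/-- conjugacy of systems with as many vectors over a field with a square root of `-1` -/
theorem exists_conj_of_sq (S : Sys A ι F) (S' : Sys A' ι' F) (ε : ι ≃ ι') {i : F} (hi : i * i = -1) :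
    ∃ (φ : A ≃ₗ[ZMod 2] A') (g : GL ι F) (c : A → F), (∀ a b, S'.ω (φ a) (φ b) = S.ω a b) ∧ (∀ a, c a ^ 4 = 1) ∧
      ∀ a, (g : Matrix ι ι F) * S.e a = c a • ((S'.e (φ a)).submatrix ε ε * (g : Matrix ι ι F)) := by
  obtain ⟨φ, hω⟩ := S.exists_ω_equiv S' (by rw [S.card_eq, S'.card_eq, Fintype.card_congr ε])
  obtain ⟨g, c, h4, -, h⟩ := S.exists_conj S' φ ε hω (Or.inr ⟨i, hi⟩)
  exact ⟨φ, g, c, hω, h4, h⟩

/-! ### The type of a product -/

/-- the sum of the signs of the squares -/
def gauss (S : Sys A ι F) : ℚ := ∑ a, sgn ℚ (S.q a)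

theorem gauss_of_plus (S : Sys A ι F) (h : S.Plus) : 0 < S.gauss := by
  classical
  haveI : Module.Finite (ZMod 2) A := Module.Finite.of_finite
  obtain ⟨U, hU, hd⟩ := h
  have hω : ∀ u ∈ U, ∀ v ∈ U, S.ω u v = 0 := fun u hu v hv => by
    have e := hU (u + v) (U.add_mem hu hv)
    rwa [q_add, hU u hu, hU v hv, zero_add, zero_add] at e
  have hnd : LinearMap.BilinForm.Nondegenerate S.ω :=
    ⟨fun a ha => S.ω_nondeg ha, fun b hb => S.ω_nondeg fun a => (S.ω_comm b a).trans (hb a)⟩
  have hperp : LinearMap.BilinForm.orthogonal S.ω U = U := by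
    refine (Submodule.eq_of_le_of_finrank_le (fun u hu => LinearMap.BilinForm.mem_orthogonal_iff.2
      fun v hv => hω v hv u hu) ?_).symm
    rw [LinearMap.BilinForm.finrank_orthogonal hnd]
    omega
  have hchar : ∀ a, ∑ u : U, sgn ℚ (S.ω a (u : A)) = if a ∈ U then (Fintype.card U : ℚ) else 0 := by
    intro a
    by_cases ha : a ∈ U
    · rw [if_pos ha, Finset.sum_congr rfl (g := fun _ => (1 : ℚ)) fun u _ => by
        rw [hω a ha u u.2, sgn_zero]]
      simp
    · rw [if_neg ha]
      obtain ⟨u₀, hu₀⟩ : ∃ u₀ : U, S.ω a (u₀ : A) = 1 := by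
        by_contra hc
        push Not at hc
        refine ha (hperp ▸ LinearMap.BilinForm.mem_orthogonal_iff.2 fun u hu => ?_)
        show S.ω u a = 0
        rw [S.ω_comm]
        exact (z2_cases _).resolve_right (hc ⟨u, hu⟩)
      have e := Equiv.sum_comp (Equiv.addRight u₀) fun u : U => sgn ℚ (S.ω a (u : A))
      simp only [Equiv.coe_addRight, Submodule.coe_add, map_add, sgn_add, hu₀, sgn_one, mul_neg, mul_one,
        Finset.sum_neg_distrib] at e
      linarith
  have h1 : ∀ u : U, ∑ a, sgn ℚ (S.q (a + u)) = S.gauss := fun u =>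
    Equiv.sum_comp (Equiv.addRight (u : A)) fun a => sgn ℚ (S.q a)
  have h2 : (Fintype.card U : ℚ) * S.gauss = (Fintype.card U : ℚ) * Fintype.card U := by
    calc (Fintype.card U : ℚ) * S.gauss = ∑ u : U, ∑ a, sgn ℚ (S.q (a + u)) := by
          simp only [h1]; simp
      _ = ∑ a, sgn ℚ (S.q a) * ∑ u : U, sgn ℚ (S.ω a (u : A)) := by
          rw [Finset.sum_comm]
          refine Finset.sum_congr rfl fun a _ => ?_
          rw [Finset.mul_sum]
          refine Finset.sum_congr rfl fun u _ => ?_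
          rw [q_add, sgn_add, sgn_add, hU u u.2, sgn_zero, mul_one]
      _ = ∑ a : A, if a ∈ U then (Fintype.card U : ℚ) else 0 := Finset.sum_congr rfl fun a _ => by
          rw [hchar]
          split
          · rw [hU a ‹_›, sgn_zero, one_mul]
          · rw [mul_zero]
      _ = _ := by
          rw [← Finset.sum_filter]
          simp [Fintype.card_subtype]
  have hpos : (0 : ℚ) < Fintype.card U := by exact_mod_cast Fintype.card_pos
  rw [mul_left_cancel₀ hpos.ne' h2]
  exact hpos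

variable {A₂ : Type*} [AddCommGroup A₂] [Module (ZMod 2) A₂] [Fintype A₂]

theorem gauss_dbl (T : Sys A₂ (Fin 2) F) (S : Sys A ι F) : (dbl T S).gauss = T.gauss * S.gauss := by
  rw [gauss, gauss, gauss, Finset.sum_mul_sum, ← Finset.sum_product']
  exact Finset.sum_congr rfl fun p _ => by rw [dbl_q, sgn_add]

theorem plus_dbl (T : Sys A₂ (Fin 2) F) (S : Sys A ι F) (hT : T.Plus) (hS : S.Plus) : (dbl T S).Plus := by
  haveI : Module.Finite (ZMod 2) A := Module.Finite.of_finite
  haveI : Module.Finite (ZMod 2) A₂ := Module.Finite.of_finite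
  obtain ⟨U, hU, hUd⟩ := hT
  obtain ⟨V, hV, hVd⟩ := hS
  refine ⟨U.prod V, fun p hp => by rw [dbl_q, hU _ hp.1, hV _ hp.2, add_zero], ?_⟩
  have e : U.prod V = LinearMap.range (U.subtype.prodMap V.subtype) := by
    rw [LinearMap.range_prodMap, Submodule.range_subtype, Submodule.range_subtype]
  rw [e, LinearMap.finrank_range_of_inj (Subtype.val_injective.prodMap Subtype.val_injective),
    Module.finrank_prod, Module.finrank_prod]
  omega

theorem twoPlus_plus (h2 : (2 : F) ≠ 0) : (twoPlus h2).Plus := by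
  refine ⟨Submodule.span (ZMod 2) {((1 : ZMod 2), (0 : ZMod 2))}, fun u hu => ?_, ?_⟩
  · obtain ⟨r, rfl⟩ := Submodule.mem_span_singleton.1 hu
    rcases z2_cases r with rfl | rfl <;> simp [q, twoPlus, two, cocycle]
  · rw [finrank_span_singleton (by simp), Module.finrank_prod, Module.finrank_self]

theorem gauss_twoMinus (h2 : (2 : F) ≠ 0) (a b : F) (h : a * a + b * b = -1) :
    (twoMinus h2 a b h).gauss = -2 := by
  have h01 : (Finset.univ : Finset (ZMod 2)) = {0, 1} := by decide
  rw [gauss, Fintype.sum_prod_type, h01]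
  simp [q, twoMinus, two, cocycle, sgn, show (1 : ZMod 2) + 1 + 1 = 1 from rfl, show (3 : ZMod 2) = 1 from rfl]
  norm_num

/-- quaternions times plus type is of minus type -/
theorem not_plus_dbl (h2 : (2 : F) ≠ 0) (a b : F) (h : a * a + b * b = -1) (S : Sys A ι F) (hS : S.Plus) :
    ¬ (dbl (twoMinus h2 a b h) S).Plus := fun hc => by
  have e := gauss_of_plus _ hc
  rw [gauss_dbl, gauss_twoMinus] at e
  have := gauss_of_plus _ hS
  linarith

theorem not_plus_twoMinus (h2 : (2 : F) ≠ 0) (a b : F) (h : a * a + b * b = -1) :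
    ¬ (twoMinus h2 a b h).Plus := fun hc => by
  have e := gauss_of_plus _ hc
  rw [gauss_twoMinus] at e
  linarith

end Sys

end Cfsg.Agent.Forms.Max.TwoGroup
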