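import Cfsg.Prelude.Def_GeometricClasses
import Cfsg.Agent.InvChar.Symplectic
import Cfsg.Agent.Lib.Forms.Max.TwoGroup.Conj

/-!
# The system of monomials of an absolutely irreducible 2-group of symplectic type

Commutators and squares are `±1`, so ordered products of representatives of a basis of `R / Z(R)` form a system on
the same index set; the number of entries follows from absolute irreducibility by averaging.
-/

set_option autoImplicit false
set_option linter.unusedSectionVars false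

namespace Cfsg.Agent.Forms.Max.TwoGroup

open Matrix Module

/-- ordered products of powers -/
def mono {M : Type*} [Monoid M] {k : ℕ} (g : Fin k → M) (a : Fin k → ZMod 2) : M :=
  (List.ofFn fun i => g i ^ (a i).val).prod

section mono

variable {M : Type*} [Monoid M]

theorem mono_succ {k : ℕ} (g : Fin (k + 1) → M) (a : Fin (k + 1) → ZMod 2) :
    mono g a = g 0 ^ (a 0).val * mono (g ∘ Fin.succ) (a ∘ Fin.succ) := by
  rw [mono, List.ofFn_succ, List.prod_cons]; rfl

theorem mono_zero {k : ℕ} (g : Fin k → M) : mono g 0 = 1 := by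
  refine List.prod_eq_one fun x hx => ?_
  obtain ⟨i, rfl⟩ := List.mem_ofFn.1 hx
  simp

theorem map_mono {N : Type*} [Monoid N] (f : M →* N) {k : ℕ} (g : Fin k → M) (a : Fin k → ZMod 2) :
    f (mono g a) = mono (f ∘ g) a := by
  rw [mono, mono, map_list_prod, List.map_ofFn]
  simp only [Function.comp_def, map_pow]

end mono

variable {ι : Type} {F : Type*} [Field F] [Fintype ι] [DecidableEq ι]

theorem mono_comm (x : Matrix ι ι F) : ∀ {k : ℕ} (g : Fin k → Matrix ι ι F) (κ : Fin k → ZMod 2),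
    (∀ i, x * g i = sgn F (κ i) • (g i * x)) →
    ∀ a, x * mono g a = sgn F (∑ i, a i * κ i) • (mono g a * x) := by
  intro k
  induction k with
  | zero => intro g κ _ a; simp [mono]
  | succ k ih =>
    intro g κ h a
    have ih' := ih (g ∘ Fin.succ) (κ ∘ Fin.succ) (fun i => h i.succ) (a ∘ Fin.succ)
    rw [mono_succ, Fin.sum_univ_succ, sgn_add, mul_assoc (g 0 ^ _)]
    rcases z2_cases (a 0) with h0 | h0
    · rw [h0, ZMod.val_zero, pow_zero, one_mul, one_mul, zero_mul, sgn_zero, one_mul]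
      exact ih'
    · rw [h0, ZMod.val_one, pow_one, one_mul, ← mul_assoc, h 0, Matrix.smul_mul, mul_assoc, ih', Matrix.mul_smul,
        smul_smul]
      rfl

/-- signed commutation and signed squares give a bilinear cocycle -/
theorem exists_cocycle : ∀ {k : ℕ} (g : Fin k → Matrix ι ι F),
    (∀ i, ∃ x : ZMod 2, g i * g i = sgn F x • (1 : Matrix ι ι F)) →
    (∀ i j, ∃ x : ZMod 2, g i * g j = sgn F x • (g j * g i)) →
    ∃ β : LinearMap.BilinForm (ZMod 2) (Fin k → ZMod 2),
      ∀ a b, mono g a * mono g b = sgn F (β a b) • mono g (a + b) := by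
  intro k
  induction k with
  | zero => intro g _ _; exact ⟨0, fun a b => by simp [mono]⟩
  | succ k ih =>
    intro g hsq hcomm
    obtain ⟨β', hβ'⟩ := ih (g ∘ Fin.succ) (fun i => hsq i.succ) fun i j => hcomm i.succ j.succ
    obtain ⟨s, hs⟩ := hsq 0
    choose κ hκ using fun i : Fin k => hcomm 0 i.succ
    let t : (Fin (k + 1) → ZMod 2) →ₗ[ZMod 2] (Fin k → ZMod 2) := LinearMap.funLeft (ZMod 2) (ZMod 2) Fin.succ
    let p : (Fin (k + 1) → ZMod 2) →ₗ[ZMod 2] ZMod 2 := LinearMap.proj 0
    let κl : (Fin k → ZMod 2) →ₗ[ZMod 2] ZMod 2 := ∑ i, κ i • LinearMap.proj i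
    let μ := LinearMap.mul (ZMod 2) (ZMod 2)
    refine ⟨s • μ.compl₁₂ p p + μ.compl₁₂ (κl.comp t) p + β'.compl₁₂ t t, fun a b => ?_⟩
    have hval : (s • μ.compl₁₂ p p + μ.compl₁₂ (κl.comp t) p + β'.compl₁₂ t t) a b =
        s * (a 0 * b 0) + (∑ i, a i.succ * κ i) * b 0 + β' (a ∘ Fin.succ) (b ∘ Fin.succ) := by
      simp [μ, p, κl, t, LinearMap.funLeft, mul_comm, Function.comp_def]
      rw [Finset.mul_sum]
      exact Finset.sum_congr rfl fun _ _ => by ring
    rw [hval, mono_succ g a, mono_succ g b, mono_succ g (a + b)]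
    set A := mono (g ∘ Fin.succ) (a ∘ Fin.succ)
    set B := mono (g ∘ Fin.succ) (b ∘ Fin.succ)
    have hA : g 0 * A = sgn F (∑ i, a i.succ * κ i) • (A * g 0) := mono_comm (g 0) _ κ hκ _
    have hA' : A * g 0 = sgn F (∑ i, a i.succ * κ i) • (g 0 * A) := by
      rw [hA, smul_smul, sgn_mul_self, one_smul]
    have hmove : A * g 0 ^ (b 0).val = sgn F ((∑ i, a i.succ * κ i) * b 0) • (g 0 ^ (b 0).val * A) := by
      rcases z2_cases (b 0) with h | h <;> rw [h]
      · simp
      · rw [ZMod.val_one, pow_one, mul_one]; exact hA'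
    have hpow : g 0 ^ (a 0).val * g 0 ^ (b 0).val = sgn F (s * (a 0 * b 0)) • g 0 ^ (a 0 + b 0).val := by
      rcases z2_cases (a 0) with h | h <;> rcases z2_cases (b 0) with h' | h' <;> rw [h, h'] <;>
        simp [show (1 : ZMod 2) + 1 = 0 from rfl, hs, ZMod.val_one]
    calc g 0 ^ (a 0).val * A * (g 0 ^ (b 0).val * B)
        = g 0 ^ (a 0).val * (A * g 0 ^ (b 0).val) * B := by simp only [mul_assoc]
      _ = sgn F ((∑ i, a i.succ * κ i) * b 0) • ((g 0 ^ (a 0).val * g 0 ^ (b 0).val) * (A * B)) := by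
          rw [hmove, Matrix.mul_smul, Matrix.smul_mul]; simp only [mul_assoc]
      _ = _ := by
          rw [hpow, hβ', Matrix.smul_mul, Matrix.mul_smul, smul_smul, smul_smul, sgn_add, sgn_add]
          congr 1
          ring

theorem smul_one_inj' [Nonempty ι] {a b : F} (h : a • (1 : Matrix ι ι F) = b • (1 : Matrix ι ι F)) : a = b := by
  obtain ⟨i⟩ := ‹Nonempty ι›
  simpa using congrFun (congrFun h i) i

theorem nonempty_of_ne_bot {R : Subgroup (GL ι F)} (h : R ≠ ⊥) : Nonempty ι := by
  by_contra hc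
  haveI := not_nonempty_iff.1 hc
  exact h ((Subgroup.eq_bot_iff_forall _).2 fun g _ => Units.ext (Matrix.ext fun i => isEmptyElim i))

variable [Finite F]

/-- the system of monomials of a 2-group of symplectic type -/
theorem exists_sys (h2 : (2 : F) ≠ 0) {R : Subgroup (GL ι F)} (hRs : Cfsg.Geo.IsSymplecticTypeGroup 2 R)
    (hRi : Cfsg.Geo.ActsAbsolutelyIrreducibly (Cfsg.Geo.matrixSet R)) (hne : R ≠ ⊥) :
    ∃ (k : ℕ) (S : Sys (Fin k → ZMod 2) ι F), (∀ a, S.u a ∈ R) ∧
      Nat.card R = Nat.card (Subgroup.center R) * 2 ^ k ∧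
      (∀ z : Subgroup.center R, ∃ c : F, c ^ 4 = 1 ∧ (((z : R) : GL ι F) : Matrix ι ι F) = c • (1 : Matrix ι ι F)) ∧
      (-1 : GL ι F) ∈ R ∧
      ∀ g ∈ R, ∃ (a : Fin k → ZMod 2) (z : Subgroup.center R), g = ((z : R) : GL ι F) * S.u a := by
  classical
  haveI : Fintype F := Fintype.ofFinite F
  haveI := nonempty_of_ne_bot hne
  haveI : Fact (Nat.Prime 2) := ⟨Nat.prime_two⟩
  -- central elements are scalars
  have hscal : ∀ X : Matrix ι ι F, (∀ g ∈ R, X * (g : Matrix ι ι F) = (g : Matrix ι ι F) * X) →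
      ∃ c : F, X = c • (1 : Matrix ι ι F) := fun X hX => hRi.2 X (by rintro _ ⟨g, hg, rfl⟩; exact hX g hg)
  have h4 : ∀ a : R, a ^ 4 = 1 := fun a => by
    have h := Monoid.pow_exponent_eq_one a
    rwa [hRs.exponent_eq, show 2 * Nat.gcd 2 2 = 4 from rfl] at h
  have hcen : ∀ z : Subgroup.center R,
      ∃ c : F, c ^ 4 = 1 ∧ (((z : R) : GL ι F) : Matrix ι ι F) = c • (1 : Matrix ι ι F) := fun z => by
    obtain ⟨c, hc⟩ := hscal _ fun g hg => congrArg (fun x : R => ((x : GL ι F) : Matrix ι ι F))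
      (Subgroup.mem_center_iff.1 z.2 ⟨g, hg⟩).symm
    refine ⟨c, smul_one_inj' (ι := ι) ?_, hc⟩
    have h := congrArg (fun x : R => ((x : GL ι F) : Matrix ι ι F)) (h4 (z : R))
    simp only [Subgroup.coe_pow, Units.val_pow_eq_pow_val, hc, Subgroup.coe_one, Units.val_one] at h
    rw [smul_pow, one_pow] at h
    rwa [one_smul]
  -- the central involution
  haveI : Nontrivial R := (Subgroup.nontrivial_iff_ne_bot R).2 hne
  haveI := hRs.pGroup.center_nontrivial
  obtain ⟨z₀, hz₀⟩ := exists_prime_orderOf_dvd_card' (G := Subgroup.center R) 2 (by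
    obtain ⟨k, hk0, hk⟩ := ((hRs.pGroup.to_subgroup (Subgroup.center R)).nontrivial_iff_card).1 inferInstance
    rw [hk]; exact dvd_pow_self 2 hk0.ne')
  have hval : ((z₀ : R) : GL ι F) = -1 := by
    obtain ⟨c, -, hc⟩ := hcen z₀
    have h := congrArg (fun x : Subgroup.center R => (((x : R) : GL ι F) : Matrix ι ι F)) (pow_orderOf_eq_one z₀)
    simp only [hz₀, Subgroup.coe_pow, Subgroup.coe_one, Units.val_pow_eq_pow_val, Units.val_one, hc] at h
    rw [smul_pow, one_pow] at h
    have hcc : c * c = 1 := by rw [← pow_two]; exact smul_one_inj' (h.trans (one_smul F _).symm)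
    refine Units.ext ?_
    rcases mul_self_eq_one_iff.1 hcc with rfl | rfl
    · exfalso
      have h1 : z₀ = 1 := Subtype.ext (Subtype.ext (Units.ext (by rw [hc, one_smul]; rfl)))
      rw [h1, orderOf_one] at hz₀
      exact absurd hz₀ (by norm_num)
    · rw [hc, neg_one_smul, Units.val_neg, Units.val_one]
  have hneg : (-1 : GL ι F) ∈ R := hval ▸ (z₀ : R).2
  have hzo : orderOf (z₀ : R) = 2 := (Subgroup.orderOf_coe z₀).trans hz₀
  have hfacts := InvChar.Symplectic.commutator_facts (T := R) ⟨hRs.pGroup, hRs.cyclic_of_characteristic⟩ h4 z₀.2 hzo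
  have hcomm : ∀ g h : R, ∃ x : ZMod 2, ((g : GL ι F) : Matrix ι ι F) * ((h : GL ι F) : Matrix ι ι F) =
      sgn F x • (((h : GL ι F) : Matrix ι ι F) * ((g : GL ι F) : Matrix ι ι F)) := fun g h => by
    have e : ∀ y : R, g * h * g⁻¹ * h⁻¹ = y → ((g : GL ι F) : Matrix ι ι F) * ((h : GL ι F) : Matrix ι ι F) =
        ((y : GL ι F) : Matrix ι ι F) * (((h : GL ι F) : Matrix ι ι F) * ((g : GL ι F) : Matrix ι ι F)) := by
      intro y hy
      have : g * h = y * (h * g) := by rw [← hy]; group
      exact congrArg (fun x : R => ((x : GL ι F) : Matrix ι ι F)) this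
    rcases hfacts g h with h' | h'
    · exact ⟨0, by rw [e _ h', sgn_zero, one_smul]; simp⟩
    · exact ⟨1, by rw [e _ h', hval, sgn_one, neg_one_smul, Units.val_neg, Units.val_one, neg_one_mul]⟩
  have hsq : ∀ g : R, ∃ x : ZMod 2,
      ((g : GL ι F) : Matrix ι ι F) * ((g : GL ι F) : Matrix ι ι F) = sgn F x • (1 : Matrix ι ι F) := fun g => by
    obtain ⟨c, hc⟩ := hscal (((g : GL ι F) : Matrix ι ι F) * ((g : GL ι F) : Matrix ι ι F)) fun h hh => by
      obtain ⟨x, hx⟩ := hcomm g ⟨h, hh⟩
      rw [mul_assoc, hx, Matrix.mul_smul, ← mul_assoc, hx, Matrix.smul_mul, smul_smul, sgn_mul_self, one_smul,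
        mul_assoc]
    have hcc : c * c = 1 := by
      refine smul_one_inj' (ι := ι) ?_
      have h := congrArg (fun x : R => ((x : GL ι F) : Matrix ι ι F)) (h4 g)
      simp only [Subgroup.coe_pow, Units.val_pow_eq_pow_val, Subgroup.coe_one, Units.val_one] at h
      rw [show 4 = 2 * 2 from rfl, pow_mul, pow_two, pow_two, hc, Matrix.smul_mul, one_mul, smul_smul] at h
      rwa [one_smul]
    rcases mul_self_eq_one_iff.1 hcc with rfl | rfl
    · exact ⟨0, by rw [hc, sgn_zero]⟩
    · exact ⟨1, by rw [hc, sgn_one]⟩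
  -- the elementary abelian quotient
  let Q := R ⧸ Subgroup.center R
  have hQc : ∀ x y : Q, x * y = y * x := fun x y => by
    obtain ⟨g, rfl⟩ := QuotientGroup.mk_surjective x
    obtain ⟨h, rfl⟩ := QuotientGroup.mk_surjective y
    rw [← QuotientGroup.mk_mul, ← QuotientGroup.mk_mul, QuotientGroup.eq]
    refine Subgroup.mem_center_iff.2 fun w => Subtype.ext (Units.ext ?_)
    obtain ⟨x, hx⟩ := hcomm g h
    have hx' : (((g * h)⁻¹ * (h * g) : R) : GL ι F).val = sgn F x • (1 : Matrix ι ι F) := by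
      have e : ((g : GL ι F) * (h : GL ι F)).val * (sgn F x • (1 : Matrix ι ι F)) = ((h : GL ι F) * (g : GL ι F)).val := by
        rw [Units.val_mul, Units.val_mul, hx, Matrix.mul_smul, mul_one, smul_smul, sgn_mul_self, one_smul]
      simp only [Subgroup.coe_mul, Subgroup.coe_inv, Units.val_mul] at e ⊢
      rw [← e, ← mul_assoc, ← Units.val_mul, ← Units.val_mul, inv_mul_cancel, Units.val_one, one_mul]
    show (w : GL ι F).val * (((g * h)⁻¹ * (h * g) : R) : GL ι F).val =
      (((g * h)⁻¹ * (h * g) : R) : GL ι F).val * (w : GL ι F).val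
    rw [hx']; simp
  letI : CommGroup Q := { (inferInstance : Group Q) with mul_comm := hQc }
  have hQ2 : ∀ x : Additive Q, 2 • x = 0 := fun x => by
    obtain ⟨g, hg⟩ := QuotientGroup.mk_surjective (Additive.toMul x)
    refine Additive.toMul.injective ?_
    rw [toMul_nsmul, toMul_zero, ← hg, ← QuotientGroup.mk_pow, QuotientGroup.eq_one_iff]
    refine Subgroup.mem_center_iff.2 fun w => Subtype.ext (Units.ext ?_)
    obtain ⟨x, hx⟩ := hsq g
    show (w : GL ι F).val * ((g ^ 2 : R) : GL ι F).val = ((g ^ 2 : R) : GL ι F).val * (w : GL ι F).val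
    rw [Subgroup.coe_pow, Units.val_pow_eq_pow_val, pow_two, hx]; simp
  letI : Module (ZMod 2) (Additive Q) := AddCommGroup.zmodModule hQ2
  haveI : Finite (Additive Q) := inferInstanceAs (Finite Q)
  haveI : Module.Finite (ZMod 2) (Additive Q) := Module.Finite.of_finite
  let bas := Module.finBasis (ZMod 2) (Additive Q)
  set k := Module.finrank (ZMod 2) (Additive Q)
  choose rep hrep using fun i : Fin k => QuotientGroup.mk_surjective (Additive.toMul (bas i))
  let M : (Fin k → ZMod 2) → R := fun a => mono rep a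
  have hcls : ∀ a, (Additive.ofMul (QuotientGroup.mk (M a)) : Additive Q) = ∑ i, a i • bas i := by
    intro a
    show Additive.ofMul ((QuotientGroup.mk' (Subgroup.center R)) (mono rep a)) = _
    rw [map_mono, mono, ofMul_list_prod, List.map_ofFn, List.sum_ofFn]
    refine Finset.sum_congr rfl fun i _ => ?_
    show Additive.ofMul ((QuotientGroup.mk (rep i) : Q) ^ (a i).val) = _
    rw [hrep, ofMul_pow, ofMul_toMul, ← Nat.cast_smul_eq_nsmul (ZMod 2), ZMod.natCast_val, ZMod.cast_id]
  let E : R →* Matrix ι ι F := (Units.coeHom _).comp R.subtype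
  let e : (Fin k → ZMod 2) → Matrix ι ι F := fun a => mono (E ∘ rep) a
  have heM : ∀ a, e a = ((M a : GL ι F) : Matrix ι ι F) := fun a => (map_mono E rep a).symm
  obtain ⟨β, hβ⟩ := exists_cocycle (E ∘ rep) (fun i => hsq _) fun i j => hcomm _ _
  have hdec : ∀ g ∈ R, ∃ (a : Fin k → ZMod 2) (z : Subgroup.center R), g = ((z : R) : GL ι F) * (M a : GL ι F) := by
    intro g hg
    obtain ⟨c, hc⟩ := (Submodule.mem_span_range_iff_exists_fun (ZMod 2)).1
      (bas.span_eq ▸ Submodule.mem_top : (Additive.ofMul (QuotientGroup.mk (⟨g, hg⟩ : R)) : Additive Q) ∈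
        Submodule.span (ZMod 2) (Set.range bas))
    rw [← hcls c] at hc
    have hmem := QuotientGroup.eq.1 (Additive.ofMul.injective hc)
    refine ⟨c, ⟨_, hmem⟩, ?_⟩
    have h := Subgroup.mem_center_iff.1 hmem (M c)
    have h' : (⟨g, hg⟩ : R) = (M c)⁻¹ * ⟨g, hg⟩ * M c := by rw [← h, mul_inv_cancel_left]
    exact congrArg Subtype.val h'
  -- trace zero away from the centre
  have htr : ∀ a, a ≠ 0 → Matrix.trace (e a) = 0 := by
    intro a ha
    have hnc : M a ∉ Subgroup.center R := fun h => by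
      refine ha ?_
      have h0 := (hcls a).symm.trans (by rw [(QuotientGroup.eq_one_iff _).2 h])
      exact funext fun i => Fintype.linearIndependent_iff.1 bas.linearIndependent a h0 i
    obtain ⟨w, hw⟩ : ∃ w : R, w * M a ≠ M a * w := by
      by_contra hc
      push Not at hc
      exact hnc (Subgroup.mem_center_iff.2 hc)
    obtain ⟨x, hx⟩ := hcomm w (M a)
    rcases z2_cases x with rfl | rfl
    · exact absurd (Subtype.ext (Units.ext (by simpa using hx))) hw
    · rw [sgn_one, neg_one_smul] at hx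
      have e' : e a = -(((w : GL ι F) : Matrix ι ι F) * e a * (((w : GL ι F)⁻¹ : GL ι F) : Matrix ι ι F)) := by
        rw [heM, hx, neg_mul, neg_neg, mul_assoc, ← Units.val_mul, mul_inv_cancel, Units.val_one, mul_one]
      have h3 := congrArg Matrix.trace e'
      rw [Matrix.trace_neg, Matrix.trace_units_conj] at h3
      exact (mul_eq_zero.1 (show (2 : F) * Matrix.trace (e a) = 0 by linear_combination h3)).resolve_left h2
  have hnd : ∀ a, (∀ b, β a b + β b a = 0) → a = 0 := by
    intro a ha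
    by_contra ha0
    have hcm : ∀ b, e a * e b = e b * e a := fun b => by
      rw [hβ, hβ, add_comm b a, eq_of_add_zero (ha b)]
    obtain ⟨c, hc⟩ := hscal (e a) fun g hg => by
      obtain ⟨b, z, rfl⟩ := hdec g hg
      obtain ⟨d, -, hd⟩ := hcen z
      rw [Units.val_mul, hd, ← heM, Matrix.smul_mul, one_mul, Matrix.mul_smul, Matrix.smul_mul, hcm]
    have hnc : M a ∈ Subgroup.center R := Subgroup.mem_center_iff.2 fun w => Subtype.ext (Units.ext (by
      show (w : GL ι F).val * (M a : GL ι F).val = (M a : GL ι F).val * (w : GL ι F).val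
      rw [← heM, hc]; simp))
    have h0 := (hcls a).symm.trans (by rw [(QuotientGroup.eq_one_iff _).2 hnc])
    exact ha0 (funext fun i => Fintype.linearIndependent_iff.1 bas.linearIndependent a h0 i)
  -- the averaging operator
  let V : (Fin k → ZMod 2) → GL ι F := fun a => (M a : GL ι F)
  let P : Matrix ι ι F → Matrix ι ι F := fun X => ∑ a, (V a : Matrix ι ι F) * X * ((V a)⁻¹ : GL ι F)
  have hPc : ∀ X b, (V b : Matrix ι ι F) * P X = P X * (V b : Matrix ι ι F) := by
    intro X b
    simp only [P, Finset.mul_sum, Finset.sum_mul]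
    rw [← Equiv.sum_comp (Equiv.addLeft b) fun a => (V a : Matrix ι ι F) * X * ((V a)⁻¹ : GL ι F) * (V b : Matrix ι ι F)]
    refine Finset.sum_congr rfl fun a _ => ?_
    have h1 : (V b : Matrix ι ι F) * (V a : Matrix ι ι F) = sgn F (β b a) • (V (b + a) : Matrix ι ι F) := by
      show ((M b : GL ι F) : Matrix ι ι F) * ((M a : GL ι F) : Matrix ι ι F) = _ • ((M (b + a) : GL ι F) : Matrix ι ι F)
      rw [← heM, ← heM, ← heM]
      exact hβ b a
    have h3 : (((V (b + a))⁻¹ : GL ι F) : Matrix ι ι F) * (V b : Matrix ι ι F) =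
        sgn F (β b a) • (((V a)⁻¹ : GL ι F) : Matrix ι ι F) := by
      calc _ = (((V (b + a))⁻¹ : GL ι F) : Matrix ι ι F) * ((V b : Matrix ι ι F) * (V a : Matrix ι ι F)) *
            (((V a)⁻¹ : GL ι F) : Matrix ι ι F) := by
            rw [mul_assoc, mul_assoc, ← Units.val_mul (V a), mul_inv_cancel, Units.val_one, mul_one]
        _ = _ := by rw [h1, Matrix.mul_smul, ← Units.val_mul, inv_mul_cancel, Units.val_one, Matrix.smul_mul, one_mul]
    simp only [Equiv.coe_addLeft]
    rw [mul_assoc, mul_assoc, mul_assoc, h3, ← mul_assoc, h1]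
    simp only [Matrix.smul_mul, Matrix.mul_smul, mul_assoc]
  have hPs : ∀ X, ∃ c : F, P X = c • (1 : Matrix ι ι F) := fun X => hscal _ fun g hg => by
    obtain ⟨b, z, rfl⟩ := hdec g hg
    obtain ⟨d, -, hd⟩ := hcen z
    rw [Units.val_mul, hd, Matrix.smul_mul, one_mul, Matrix.mul_smul, Matrix.smul_mul]
    exact congrArg (d • ·) (hPc X b).symm
  have hPtr : ∀ X, Matrix.trace (P X) = (2 : F) ^ k * Matrix.trace X := fun X => by
    show Matrix.trace (∑ a, (V a : Matrix ι ι F) * X * (((V a)⁻¹ : GL ι F) : Matrix ι ι F)) = _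
    rw [Matrix.trace_sum, Finset.sum_congr rfl fun a _ => Matrix.trace_units_conj (V a) X]
    simp [nsmul_eq_mul]
  have h2k : (2 : F) ^ k ≠ 0 := pow_ne_zero _ h2
  have hn : (Fintype.card ι : F) ≠ 0 := by
    intro h0
    obtain ⟨i⟩ := ‹Nonempty ι›
    obtain ⟨c, hc⟩ := hPs (Matrix.single i i 1)
    have h := hPtr (Matrix.single i i 1)
    rw [hc, Matrix.trace_smul, Matrix.trace_one, h0, smul_zero, Matrix.trace_single_eq_same, mul_one] at h
    exact h2k h.symm
  have hind : LinearIndependent F e := by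
    rw [Fintype.linearIndependent_iff]
    intro co hco a
    have := congrArg (fun X => Matrix.trace (e a * X)) hco
    simp only [Finset.mul_sum, Matrix.trace_sum, Matrix.mul_smul, Matrix.trace_smul, mul_zero, Matrix.trace_zero,
      smul_eq_mul, show ∀ a b, e a * e b = sgn F (β a b) • e (a + b) from hβ] at this
    rw [Finset.sum_eq_single a (fun b _ hb => by
      rw [htr _ (fun h => hb (eq_of_add_zero h).symm), mul_zero, mul_zero]) (by simp), add_self_zero,
      show e 0 = 1 from mono_zero _, Matrix.trace_one] at this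
    exact (mul_eq_zero.1 this).resolve_right (mul_ne_zero (sgn_ne_zero _) hn)
  have hspan : Submodule.span F (Set.range e) = ⊤ := by
    refine eq_top_iff.2 fun Y _ => ?_
    have key : (Fintype.card ι : F)⁻¹ * 2 ^ k ≠ 0 := mul_ne_zero (inv_ne_zero hn) h2k
    have hY : ∑ a, Matrix.trace ((((V a)⁻¹ : GL ι F) : Matrix ι ι F) * Y) • e a =
        ((Fintype.card ι : F)⁻¹ * 2 ^ k) • Y := by
      ext i j
      have hjl : ∀ p l, ∑ a, e a i j * (((V a)⁻¹ : GL ι F) : Matrix ι ι F) p l =
          if i = l ∧ j = p then (Fintype.card ι : F)⁻¹ * 2 ^ k else 0 := by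
        intro p l
        obtain ⟨c, hc⟩ := hPs (Matrix.single j p 1)
        have ht := hPtr (Matrix.single j p 1)
        rw [hc, Matrix.trace_smul, Matrix.trace_one, smul_eq_mul] at ht
        have hent : ∑ a, e a i j * (((V a)⁻¹ : GL ι F) : Matrix ι ι F) p l = c * (if i = l then 1 else 0) := by
          have h := congrFun (congrFun hc i) l
          simp only [P, Matrix.sum_apply, Matrix.smul_apply, smul_eq_mul, Matrix.one_apply] at h
          rw [← h]
          refine Finset.sum_congr rfl fun a _ => ?_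
          rw [Matrix.mul_apply, Finset.sum_eq_single p (fun b _ hb => by
            rw [Matrix.mul_apply, Finset.sum_eq_single j (fun d _ hd => by simp [Ne.symm hd]) (by simp)]
            simp [Ne.symm hb]) (by simp)]
          rw [Matrix.mul_apply, Finset.sum_eq_single j (fun d _ hd => by simp [Ne.symm hd]) (by simp)]
          simp [heM, V]
        rw [hent]
        by_cases hjp : j = p
        · subst hjp
          rw [Matrix.trace_single_eq_same, mul_one] at ht
          by_cases hil : i = l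
          · rw [if_pos hil, if_pos ⟨hil, rfl⟩, mul_one, ← ht, mul_comm c, inv_mul_cancel_left₀ hn]
          · rw [if_neg hil, if_neg fun h => hil h.1, mul_zero]
        · rw [Matrix.trace_single_eq_of_ne _ _ _ hjp, mul_zero] at ht
          rw [(mul_eq_zero.1 ht).resolve_right hn, zero_mul, if_neg fun h => hjp h.2]
      simp only [Matrix.sum_apply, Matrix.smul_apply, smul_eq_mul, Matrix.trace, Matrix.diag, Matrix.mul_apply,
        Finset.sum_mul]
      rw [Finset.sum_comm]
      calc ∑ p, ∑ a, ∑ l, (((V a)⁻¹ : GL ι F) : Matrix ι ι F) p l * Y l p * e a i j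
          = ∑ p, ∑ l, Y l p * ∑ a, e a i j * (((V a)⁻¹ : GL ι F) : Matrix ι ι F) p l := by
            refine Finset.sum_congr rfl fun p _ => ?_
            rw [Finset.sum_comm]
            refine Finset.sum_congr rfl fun l _ => ?_
            rw [Finset.mul_sum]
            exact Finset.sum_congr rfl fun a _ => by ring
        _ = _ := by
            simp only [hjl, mul_ite, mul_zero]
            rw [Finset.sum_eq_single j (fun p _ hp => Finset.sum_eq_zero fun l _ => if_neg fun h => hp h.2.symm)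
              (by simp), Finset.sum_eq_single i (fun l _ hl => if_neg fun h => hl h.1.symm) (by simp)]
            rw [if_pos ⟨rfl, rfl⟩, mul_comm]
    rw [← inv_smul_smul₀ key Y, ← hY]
    exact Submodule.smul_mem _ _ (Submodule.sum_mem _ fun a _ =>
      Submodule.smul_mem _ _ (Submodule.subset_span ⟨a, rfl⟩))
  have hcard : Fintype.card (Fin k → ZMod 2) = Fintype.card ι * Fintype.card ι := by
    have h := Module.finrank_eq_card_basis (Basis.mk hind hspan.ge)
    rw [Module.finrank_matrix, Module.finrank_self, mul_one] at h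
    exact h.symm
  let S : Sys (Fin k → ZMod 2) ι F :=
    { e := e
      β := β
      two_ne := h2
      card_ne := hn
      e_zero := mono_zero _
      e_mul := hβ
      trace_eq := htr
      card_eq := hcard
      nondeg := hnd }
  have hu : ∀ a, S.u a = (M a : GL ι F) := fun a => Units.ext (heM a)
  refine ⟨k, S, fun a => (hu a) ▸ (M a).2, ?_, hcen, hneg, fun g hg => ?_⟩
  · rw [Subgroup.card_eq_card_quotient_mul_card_subgroup (Subgroup.center R), mul_comm]
    congr 1
    show Nat.card (Additive Q) = _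
    rw [Module.natCard_eq_pow_finrank (K := ZMod 2) (V := Additive Q), Nat.card_zmod]
  · obtain ⟨a, z, h⟩ := hdec g hg
    exact ⟨a, z, by rw [hu]; exact h⟩

omit [Finite F] in
theorem smul_eq_one_of_sq {g : GL ι F} {a : F} (h : (g : Matrix ι ι F) = a • (1 : Matrix ι ι F)) (h1 : a = 1) :
    g = 1 := Units.ext (by rw [h, h1, one_smul]; rfl)

/-- extraspecial: centre of order two -/
theorem exists_sys_two (h2 : (2 : F) ≠ 0) {R : Subgroup (GL ι F)} (hRs : Cfsg.Geo.IsSymplecticTypeGroup 2 R)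
    (hRi : Cfsg.Geo.ActsAbsolutelyIrreducibly (Cfsg.Geo.matrixSet R)) {m : ℕ} (hR : Nat.card R = 2 ^ (1 + 2 * m))
    (hZ : Nat.card (Subgroup.center R) = 2) :
    ∃ S : Sys (Fin (2 * m) → ZMod 2) ι F, Fintype.card ι = 2 ^ m ∧ (∀ a, S.u a ∈ R) ∧ (-1 : GL ι F) ∈ R ∧
      (∀ g ∈ R, ∃ (a : Fin (2 * m) → ZMod 2) (c : F), c * c = 1 ∧ (g : Matrix ι ι F) = c • S.e a) ∧
      (∀ (a : Fin (2 * m) → ZMod 2) (c : F), c * c = 1 → ∃ g ∈ R, (g : Matrix ι ι F) = c • S.e a) := by
  classical
  have hne : R ≠ ⊥ := fun h => by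
    rw [h, Subgroup.card_bot] at hR
    exact absurd hR (Nat.one_lt_two_pow (by omega)).ne
  haveI := nonempty_of_ne_bot hne
  obtain ⟨k, S, hu, hk, hcen, hneg, hdec⟩ := exists_sys h2 hRs hRi hne
  rw [hR, hZ, add_comm, pow_succ'] at hk
  obtain rfl : 2 * m = k := Nat.pow_right_injective le_rfl (Nat.eq_of_mul_eq_mul_left two_pos hk)
  have hn : Fintype.card ι = 2 ^ m := by
    have h := S.card_eq
    simp only [Fintype.card_fun, Fintype.card_fin, ZMod.card, two_mul, pow_add] at h
    exact (Nat.mul_self_inj.1 h).symm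
  have hpm : ∀ z : Subgroup.center R, ((z : R) : GL ι F) = 1 ∨ ((z : R) : GL ι F) = -1 := by
    intro z
    haveI : Finite (Subgroup.center R) := inferInstance
    haveI : Fintype (Subgroup.center R) := Fintype.ofFinite _
    by_contra hc
    push Not at hc
    let n : Subgroup.center R := ⟨⟨-1, hneg⟩, Subgroup.mem_center_iff.2 fun w => Subtype.ext (by simp)⟩
    have hne1 : n ≠ 1 := fun h => by
      have h' := congrArg (fun x : Subgroup.center R => (((x : R) : GL ι F) : Matrix ι ι F)) h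
      simp [n] at h'
      obtain ⟨i⟩ := ‹Nonempty ι›
      have := congrFun (congrFun h' i) i
      simp at this
      exact h2 (by linear_combination -this)
    have hsub : ({1, n, z} : Finset (Subgroup.center R)).card ≤ 2 := by
      have := Finset.card_le_univ ({1, n, z} : Finset (Subgroup.center R))
      rwa [← Nat.card_eq_fintype_card, hZ] at this
    rw [Finset.card_insert_of_notMem, Finset.card_pair] at hsub
    · omega
    · rintro rfl; exact hc.2 rfl
    · simp only [Finset.mem_insert, Finset.mem_singleton, not_or]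
      exact ⟨hne1.symm, fun h => hc.1 (by rw [← h]; rfl)⟩
  refine ⟨S, hn, hu, hneg, fun g hg => ?_, fun a c hc => ?_⟩
  · obtain ⟨a, z, rfl⟩ := hdec g hg
    rcases hpm z with h | h <;> rw [h]
    · exact ⟨a, 1, mul_one 1, by rw [one_mul, one_smul]; rfl⟩
    · exact ⟨a, -1, by ring, by rw [Units.val_mul, Units.val_neg, Units.val_one, neg_one_mul, neg_one_smul]; rfl⟩
  · rcases mul_self_eq_one_iff.1 hc with rfl | rfl
    · exact ⟨S.u a, hu a, by rw [one_smul]; rfl⟩
    · exact ⟨-1 * S.u a, mul_mem hneg (hu a),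
        by rw [Units.val_mul, Units.val_neg, Units.val_one, neg_one_mul, neg_one_smul]; rfl⟩

/-- centre of order four -/
theorem exists_sys_four (h2 : (2 : F) ≠ 0) {R : Subgroup (GL ι F)} (hRs : Cfsg.Geo.IsSymplecticTypeGroup 2 R)
    (hRi : Cfsg.Geo.ActsAbsolutelyIrreducibly (Cfsg.Geo.matrixSet R)) {m : ℕ} (hR : Nat.card R = 2 ^ (2 + 2 * m))
    (hZ : Nat.card (Subgroup.center R) = 4) :
    ∃ (S : Sys (Fin (2 * m) → ZMod 2) ι F) (i : F), i * i = -1 ∧ Fintype.card ι = 2 ^ m ∧ (∀ a, S.u a ∈ R) ∧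
      (∀ g ∈ R, ∃ (a : Fin (2 * m) → ZMod 2) (c : F), c ^ 4 = 1 ∧ (g : Matrix ι ι F) = c • S.e a) ∧
      (∀ (a : Fin (2 * m) → ZMod 2) (c : F), c ^ 4 = 1 → ∃ g ∈ R, (g : Matrix ι ι F) = c • S.e a) := by
  classical
  have hne : R ≠ ⊥ := fun h => by
    rw [h, Subgroup.card_bot] at hR
    exact absurd hR (Nat.one_lt_two_pow (by omega)).ne
  haveI := nonempty_of_ne_bot hne
  obtain ⟨k, S, hu, hk, hcen, hneg, hdec⟩ := exists_sys h2 hRs hRi hne
  rw [hR, hZ, pow_add] at hk
  obtain rfl : 2 * m = k := Nat.pow_right_injective le_rfl (Nat.eq_of_mul_eq_mul_left (by norm_num) hk)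
  have hn : Fintype.card ι = 2 ^ m := by
    have h := S.card_eq
    simp only [Fintype.card_fun, Fintype.card_fin, ZMod.card, two_mul, pow_add] at h
    exact (Nat.mul_self_inj.1 h).symm
  haveI : Fintype (Subgroup.center R) := Fintype.ofFinite _
  choose χ hχ4 hχ using hcen
  have hχinj : Function.Injective χ := fun a b h =>
    Subtype.ext (Subtype.ext (Units.ext (by rw [hχ, hχ, h])))
  obtain ⟨z, hz⟩ : ∃ z, χ z * χ z = -1 := by
    by_contra hcon
    push Not at hcon
    have hsub : Finset.univ.image χ ⊆ ({1, -1} : Finset F) := fun c hc => by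
      obtain ⟨z, -, rfl⟩ := Finset.mem_image.1 hc
      rcases mul_self_eq_one_iff.1 (show (χ z * χ z) * (χ z * χ z) = 1 by linear_combination hχ4 z) with h' | h'
      · rcases mul_self_eq_one_iff.1 h' with e | e <;> simp [e]
      · exact absurd h' (hcon z)
    have h1 := Finset.card_le_card hsub
    rw [Finset.card_image_of_injective _ hχinj, Finset.card_univ, ← Nat.card_eq_fintype_card, hZ] at h1
    exact absurd (h1.trans Finset.card_le_two) (by norm_num)
  refine ⟨S, χ z, hz, hn, hu, fun g hg => ?_, fun a c hc => ?_⟩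
  · obtain ⟨a, w, rfl⟩ := hdec g hg
    exact ⟨a, χ w, hχ4 w, by rw [Units.val_mul, hχ, Matrix.smul_mul, one_mul]; rfl⟩
  · have hz' : ∀ s : F, (∃ g ∈ R, (g : Matrix ι ι F) = s • (1 : Matrix ι ι F)) →
        ∃ g ∈ R, (g : Matrix ι ι F) = s • S.e a := fun s ⟨g, hg, e⟩ =>
      ⟨g * S.u a, mul_mem hg (hu a), by rw [Units.val_mul, e, Matrix.smul_mul, one_mul]; rfl⟩
    refine hz' c ?_
    rcases mul_self_eq_one_iff.1 (show c * c * (c * c) = 1 by linear_combination hc) with h | h
    · rcases mul_self_eq_one_iff.1 h with rfl | rfl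
      · exact ⟨1, one_mem _, by simp⟩
      · exact ⟨-1, hneg, by simp⟩
    · rcases mul_self_eq_mul_self_iff.1 (h.trans hz.symm) with rfl | rfl
      · exact ⟨_, (z : R).2, hχ z⟩
      · exact ⟨-1 * ((z : R) : GL ι F), mul_mem hneg (z : R).2,
          by rw [Units.val_mul, Units.val_neg, Units.val_one, neg_one_mul, hχ, neg_smul]⟩

variable {m : ℕ} {R : Subgroup (GL ι F)}

/-- minus type gives a form of minus type -/
theorem not_plus_of_minus (S : Sys (Fin (2 * m) → ZMod 2) ι F) (hneg : (-1 : GL ι F) ∈ R)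
    (hu : ∀ a, S.u a ∈ R) (h : Cfsg.Geo.IsOfMinusType m R) : ¬ S.Plus := by
  classical
  rintro ⟨U, hU, hd⟩
  let sg : ZMod 2 → GL ι F := fun x => if x = 0 then 1 else -1
  have hsg : ∀ x, (sg x : Matrix ι ι F) = sgn F x • (1 : Matrix ι ι F) := fun x => by
    rcases z2_cases x with rfl | rfl <;> simp [sg]
  have hsgR : ∀ x, sg x ∈ R := fun x => by
    rcases z2_cases x with rfl | rfl <;> simp [sg, hneg, one_mem]
  let f : ZMod 2 × U → R := fun p => ⟨sg p.1 * S.u (p.2 : Fin (2 * m) → ZMod 2), mul_mem (hsgR _) (hu _)⟩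
  have hfv : ∀ p, ((f p : GL ι F) : Matrix ι ι F) = sgn F p.1 • S.e (p.2 : Fin (2 * m) → ZMod 2) := fun p => by
    simp only [f, Units.val_mul, hsg, Matrix.smul_mul, one_mul, Sys.u_val]
  have hmul : ∀ p p', f p * f p' =
      f (p.1 + p'.1 + S.β (p.2 : Fin (2 * m) → ZMod 2) (p'.2 : Fin (2 * m) → ZMod 2), p.2 + p'.2) := by
    intro p p'
    refine Subtype.ext (Units.ext ?_)
    rw [Subgroup.coe_mul, Units.val_mul, hfv, hfv, hfv, Matrix.smul_mul, Matrix.mul_smul, smul_smul, S.e_mul,
      smul_smul, ← sgn_add, ← sgn_add]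
    rfl
  have hinj : Function.Injective f := fun p p' e => by
    have e' := congrArg (fun x : R => ((x : GL ι F) : Matrix ι ι F)) e
    rw [hfv, hfv] at e'
    obtain ⟨h1, h2⟩ := S.smul_e_inj (sgn_ne_zero _) e'
    exact Prod.ext (sgn_inj S.two_ne h2) (Subtype.ext h1)
  have h0 : f (0, 0) = 1 := Subtype.ext (Units.ext (by rw [hfv]; simp [S.e_zero]))
  have hq : ∀ u ∈ U, S.β u u = 0 := hU
  have hω : ∀ u ∈ U, ∀ v ∈ U, S.β u v = S.β v u := fun u hu v hv => by
    have e := hU (u + v) (U.add_mem hu hv)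
    rw [S.q_add, hU u hu, hU v hv, zero_add, zero_add, Sys.ω_apply] at e
    exact eq_of_add_zero e
  have hsq : ∀ p, f p * f p = 1 := fun p => by
    rw [hmul, hq _ p.2.2, add_zero, CharTwo.add_self_eq_zero, add_self_zero, h0]
  let A : Subgroup R :=
    { carrier := Set.range f
      one_mem' := ⟨_, h0⟩
      mul_mem' := by rintro _ _ ⟨p, rfl⟩ ⟨p', rfl⟩; exact ⟨_, (hmul p p').symm⟩
      inv_mem' := by rintro _ ⟨p, rfl⟩; exact ⟨p, (inv_eq_of_mul_eq_one_right (hsq p)).symm⟩ }
  have hlt := h A ⟨⟨fun x y => by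
    obtain ⟨_, p, rfl⟩ := x
    obtain ⟨_, p', rfl⟩ := y
    refine Subtype.ext ?_
    show f p * f p' = f p' * f p
    rw [hmul, hmul, hω _ p.2.2 _ p'.2.2, add_comm p.1, add_comm p.2]⟩⟩ (by rintro _ ⟨p, rfl⟩; exact hsq p)
  have hcA : Nat.card A = 2 ^ (m + 1) := by
    rw [show Nat.card A = Nat.card (Set.range f) from rfl, Nat.card_range_of_injective hinj, Nat.card_prod,
      Nat.card_zmod, Module.natCard_eq_pow_finrank (K := ZMod 2) (V := U), Nat.card_zmod, pow_succ, mul_comm]
    simp only [Module.finrank_fintype_fun_eq_card, Fintype.card_fin] at hd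
    congr 2
    omega
  omega

/-- plus type gives a form of plus type -/
theorem plus_of_plus (S : Sys (Fin (2 * m) → ZMod 2) ι F)
    (hdec : ∀ g ∈ R, ∃ (a : Fin (2 * m) → ZMod 2) (c : F), c * c = 1 ∧ (g : Matrix ι ι F) = c • S.e a)
    (h : Cfsg.Geo.IsOfPlusType m R) : S.Plus := by
  classical
  haveI := S.nonempty
  obtain ⟨A, hA, hsq, hcard⟩ := h
  choose a c hc hac using fun x : A => hdec ((x : R) : GL ι F) (x : R).2
  have hc0 : ∀ x, c x ≠ 0 := fun x e => by simpa [e] using hc x
  have hprod : ∀ x y : A, a (x * y) = a x + a y := fun x y => by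
    have e : ((((x * y : A) : R) : GL ι F) : Matrix ι ι F) =
        (((x : R) : GL ι F) : Matrix ι ι F) * (((y : R) : GL ι F) : Matrix ι ι F) := by
      rw [Subgroup.coe_mul, Subgroup.coe_mul, Units.val_mul]
    rw [hac, hac, hac, Matrix.smul_mul, Matrix.mul_smul, smul_smul, S.e_mul, smul_smul] at e
    exact (S.smul_e_inj (hc0 _) e).1
  have hone : a 1 = 0 := by
    have e := hprod 1 1
    rw [one_mul] at e
    rw [e, add_self_zero]
  have hU : ∀ x, S.q (a x) = 0 := fun x => by
    have e := congrArg (fun r : R => ((r : GL ι F) : Matrix ι ι F)) (hsq x x.2)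
    simp only [Subgroup.coe_mul, Units.val_mul, Subgroup.coe_one, Units.val_one, hac, Matrix.smul_mul, Matrix.mul_smul,
      smul_smul, S.e_sq, hc, one_mul] at e
    refine sgn_inj S.two_ne ((smul_one_inj' (ι := ι) (a := sgn F (S.q (a x))) (b := 1) ?_).trans sgn_zero.symm)
    rw [← mul_assoc, hc, one_mul] at e
    rw [e, one_smul]
  let U : Submodule (ZMod 2) (Fin (2 * m) → ZMod 2) :=
    AddSubgroup.toZModSubmodule 2
      { carrier := Set.range a
        zero_mem' := ⟨1, hone⟩
        add_mem' := by rintro _ _ ⟨x, rfl⟩ ⟨y, rfl⟩; exact ⟨x * y, hprod x y⟩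
        neg_mem' := by
          rintro _ ⟨x, rfl⟩
          exact ⟨x, (neg_eq_of_add_eq_zero_left (add_self_zero (a x))).symm⟩ }
  have hUq : ∀ u ∈ U, S.q u = 0 := by rintro _ ⟨x, rfl⟩; exact hU x
  refine ⟨U, hUq, le_antisymm (Classical.QuadClass.two_mul_finrank_le S.quad S.quad_nondeg U hUq) ?_⟩
  -- the fibres of `a` have at most two elements
  have hfib : Function.Injective fun x : A => (a x, decide (c x = 1)) := fun x y e => by
    simp only [Prod.mk.injEq, decide_eq_decide] at e
    have hcc : c x = c y := by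
      rcases mul_self_eq_one_iff.1 (hc x) with h | h <;> rcases mul_self_eq_one_iff.1 (hc y) with h' | h' <;>
        rw [h, h'] at e ⊢
      · exact (e.2.1 rfl).symm
      · exact e.2.2 rfl
    exact Subtype.ext (Subtype.ext (Units.ext (by rw [hac, hac, e.1, hcc])))
  let F' : A → U × Bool := fun x => (⟨a x, x, rfl⟩, decide (c x = 1))
  have hF' : Function.Injective F' := fun x y e => hfib (by
    simp only [F', Prod.mk.injEq, Subtype.mk.injEq] at e
    exact Prod.ext (congrArg Subtype.val e.1) e.2)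
  have h1 := Nat.card_le_card_of_injective F' hF'
  rw [hcard, Nat.card_prod, Nat.card_eq_fintype_card (α := Bool), Fintype.card_bool,
    Module.natCard_eq_pow_finrank (K := ZMod 2) (V := U), Nat.card_zmod, ← pow_succ] at h1
  have := (Nat.pow_le_pow_iff_right (by norm_num : 1 < 2)).1 h1
  simp only [Module.finrank_fintype_fun_eq_card, Fintype.card_fin]
  omega

omit [Finite F] in
/-- membership in the normaliser is tested on the monomials -/
theorem mem_normalizer_of [Finite F] {A : Type*} [AddCommGroup A] [Module (ZMod 2) A] [Fintype A] (S : Sys A ι F)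
    (hu : ∀ a, S.u a ∈ R) (hdec : ∀ g ∈ R, ∃ (a : A) (c : F), (g : Matrix ι ι F) = c • S.e a) {g : GL ι F}
    (h : ∀ a, g * S.u a * g⁻¹ ∈ R) : g ∈ Cfsg.Geo.subgroupNormalizer R := by
  have hle : ∀ x ∈ R, g * x * g⁻¹ ∈ R := by
    intro x hx
    obtain ⟨a, c, hc⟩ := hdec x hx
    have hs : ((x * (S.u a)⁻¹ : GL ι F) : Matrix ι ι F) = c • (1 : Matrix ι ι F) := by
      rw [Units.val_mul, hc, Matrix.smul_mul]
      exact congrArg (c • ·) (Units.mul_inv (S.u a))
    have hcomm : g * (x * (S.u a)⁻¹) = x * (S.u a)⁻¹ * g :=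
      Units.ext (by rw [Units.val_mul g, Units.val_mul _ g, hs]; simp)
    have e : g * x * g⁻¹ = (x * (S.u a)⁻¹) * (g * S.u a * g⁻¹) := by
      calc g * x * g⁻¹ = g * (x * (S.u a)⁻¹) * S.u a * g⁻¹ := by group
        _ = _ := by rw [hcomm]; group
    rw [e]
    exact mul_mem (mul_mem hx (inv_mem (hu a))) (h a)
  haveI : Finite R := inferInstance
  let φ : R → R := fun x => ⟨g * x * g⁻¹, hle x x.2⟩
  have hφ : Function.Surjective φ := Finite.surjective_of_injective fun x y e => Subtype.ext (by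
    simpa [φ] using congrArg Subtype.val e)
  refine Subgroup.mem_normalizer_iff.2 fun x => ⟨hle x, fun hx => ?_⟩
  obtain ⟨y, hy⟩ := hφ ⟨_, hx⟩
  have e : g * (y : GL ι F) * g⁻¹ = g * x * g⁻¹ := congrArg Subtype.val hy
  have := mul_left_cancel (mul_right_cancel e)
  rw [← this]
  exact y.2

omit [Finite F] in
/-- elements of the normaliser permute the lines of the monomials -/
theorem norm_of_mem_normalizer {A : Type*} [AddCommGroup A] [Module (ZMod 2) A] [Fintype A] (S : Sys A ι F)
    (hu : ∀ a, S.u a ∈ R) (hdec : ∀ g ∈ R, ∃ (a : A) (c : F), (g : Matrix ι ι F) = c • S.e a) {g : GL ι F}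
    (h : g ∈ Cfsg.Geo.subgroupNormalizer R) : S.Norm g := fun a => by
  obtain ⟨b, c, e⟩ := hdec _ ((Subgroup.mem_normalizer_iff.1 h (S.u a)).1 (hu a))
  refine ⟨b, c, ?_⟩
  rw [← Matrix.smul_mul, ← e, Units.val_mul, Units.val_mul, Sys.u_val, mul_assoc (_ * S.e a), ← Units.val_mul g⁻¹,
    inv_mul_cancel, Units.val_one, mul_one]

omit [Finite F] in
theorem Sys.Carries.pow_four {A : Type*} [AddCommGroup A] [Module (ZMod 2) A] [Fintype A] {S : Sys A ι F}
    {g : GL ι F} {a b : A} {c : F}
    (h : (g : Matrix ι ι F) * S.e a = c • (S.e b * (g : Matrix ι ι F))) : c ^ 4 = 1 := by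
  haveI := S.nonempty
  have e : sgn F (S.q a) • (g : Matrix ι ι F) = (c * c * sgn F (S.q b)) • (g : Matrix ι ι F) := by
    calc sgn F (S.q a) • (g : Matrix ι ι F) = (g : Matrix ι ι F) * (S.e a * S.e a) := by
          rw [S.e_sq, Matrix.mul_smul, mul_one]
      _ = c • (S.e b * ((g : Matrix ι ι F) * S.e a)) := by
          conv_lhs => rw [← mul_assoc, h, Matrix.smul_mul, mul_assoc]
      _ = _ := by rw [h, Matrix.mul_smul, smul_smul, ← mul_assoc, S.e_sq, Matrix.smul_mul, one_mul, smul_smul]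
  have e' := smul_left_injective F (Units.ne_zero g) e
  linear_combination (-(sgn F (S.q a)) - c * c * sgn F (S.q b)) * e' + (1 : F) * sgn_mul_self (F := F) (S.q a) -
    c ^ 4 * sgn_mul_self (F := F) (S.q b)

/-- with centre of order four the normaliser is the normaliser of the lines -/
theorem normalizer_eq_four {A : Type*} [AddCommGroup A] [Module (ZMod 2) A] [Fintype A] (S : Sys A ι F)
    (hu : ∀ a, S.u a ∈ R) (hdec : ∀ g ∈ R, ∃ (a : A) (c : F), (g : Matrix ι ι F) = c • S.e a)
    (hall : ∀ (a : A) (c : F), c ^ 4 = 1 → ∃ g ∈ R, (g : Matrix ι ι F) = c • S.e a) :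
    Cfsg.Geo.subgroupNormalizer R = S.norm := by
  refine le_antisymm (fun g hg => norm_of_mem_normalizer S hu hdec hg) fun g hg => mem_normalizer_of S hu hdec fun a => ?_
  obtain ⟨b, c, e⟩ := hg a
  obtain ⟨x, hx, hxe⟩ := hall b c (Sys.Carries.pow_four e)
  convert hx using 1
  refine Units.ext ?_
  rw [Units.val_mul, Units.val_mul, Sys.u_val, e, Matrix.smul_mul, mul_assoc, ← Units.val_mul g, mul_inv_cancel,
    Units.val_one, mul_one, hxe]

/-- with centre of order two the isometries normalising `R` are those permuting the lines -/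
theorem mem_normalizer_iff_two {A : Type*} [AddCommGroup A] [Module (ZMod 2) A] [Fintype A] (S : Sys A ι F)
    (hu : ∀ a, S.u a ∈ R) (hdec : ∀ g ∈ R, ∃ (a : A) (c : F), (g : Matrix ι ι F) = c • S.e a)
    (hall : ∀ (a : A) (c : F), c * c = 1 → ∃ g ∈ R, (g : Matrix ι ι F) = c • S.e a)
    {Φ : Matrix ι ι F} (hΦ : Φ ≠ 0) (hiso : R ≤ isoGrp (RingHom.id F) Φ) {g : GL ι F}
    (hg : g ∈ isoGrp (RingHom.id F) Φ) : g ∈ Cfsg.Geo.subgroupNormalizer R ↔ S.Norm g := by
  refine ⟨norm_of_mem_normalizer S hu hdec, fun hN => mem_normalizer_of S hu hdec fun a => ?_⟩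
  obtain ⟨b, c, e⟩ := hN a
  have hev : ((g * S.u a * g⁻¹ : GL ι F) : Matrix ι ι F) = c • S.e b := by
    rw [Units.val_mul, Units.val_mul, Sys.u_val, e, Matrix.smul_mul, mul_assoc, ← Units.val_mul g, mul_inv_cancel,
      Units.val_one, mul_one]
  have h1 := mem_isoGrp.1 (mul_mem (mul_mem hg (hiso (hu a))) (inv_mem hg))
  have h2 := mem_isoGrp.1 (hiso (hu b))
  rw [hev] at h1
  rw [Sys.u_val] at h2
  rw [map_smul', RingHom.id_apply, Matrix.transpose_smul, Matrix.smul_mul, Matrix.smul_mul, Matrix.mul_smul, h2,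
    smul_smul] at h1
  obtain ⟨x, hx, hxe⟩ := hall b c (smul_left_injective F hΦ (h1.trans (one_smul F Φ).symm))
  convert hx using 1
  exact Units.ext (hev.trans hxe.symm)

end Cfsg.Agent.Forms.Max.TwoGroup
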