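import Cfsg.Agent.Lib.Forms.Max.TwoGroup.Kind
import Cfsg.Agent.Lib.Forms.Max.TwoGroup.Conj
import Cfsg.Agent.Lib.Forms.Max.TwoGroup.Extract
import Cfsg.Agent.Lib.Forms.Max.SU4.SympType
import Cfsg.Agent.Lib.Forms.Max.SL4.SympTypeMax

/-!
# The complex kind with two qubits

An overgroup of the normalising isometries meets the determinant one isometries in everything or inside the
normaliser (maximality of the normalisers of `4 ∘ 2^{1+4}` in degree four); in the second case it normalises, since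
the conjugates of the monomials act on the vectors as commuting involutions normalised by enough transvection
commutators.
-/

set_option autoImplicit false
set_option linter.unusedSectionVars false

namespace Cfsg.Agent.Forms.Max.TwoGroup

open Matrix

/-- a commuting family of additive involutions fixes a non-zero vector -/
theorem exists_common_fixed {A J : Type*} [AddCommGroup A] [Module (ZMod 2) A] [Fintype A] (γ : J → A → A)
    (hadd : ∀ a x y, γ a (x + y) = γ a x + γ a y) (hinv : ∀ a x, γ a (γ a x) = x)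
    (hcomm : ∀ a b x, γ a (γ b x) = γ b (γ a x)) {x₀ : A} (hx₀ : x₀ ≠ 0) (s : Finset J) :
    ∃ x : A, x ≠ 0 ∧ ∀ a ∈ s, γ a x = x := by
  classical
  induction s using Finset.induction_on with
  | empty => exact ⟨x₀, hx₀, by simp⟩
  | @insert a s _ ih =>
    obtain ⟨x, hx, hfix⟩ := ih
    by_cases h : γ a x = x
    · exact ⟨x, hx, fun b hb => (Finset.mem_insert.1 hb).elim (fun e => e ▸ h) (hfix b)⟩
    · refine ⟨x + γ a x, fun e => h (eq_of_add_zero e).symm, fun b hb => ?_⟩
      rcases Finset.mem_insert.1 hb with rfl | hb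
      · rw [hadd, hinv, add_comm]
      · rw [hadd, hcomm, hfix b hb]

namespace Sys

section small

variable {A ι F : Type*} [AddCommGroup A] [Module (ZMod 2) A] [Fintype A] [Field F] [Fintype F] [Fintype ι]
  [DecidableEq ι] {S : Sys A ι F} {σ : F →+* F} {Φ : Matrix ι ι F}

theorem img_of_smul_e {g : GL ι F} {c : F} {v : A} (h : (g : Matrix ι ι F) = c • S.e v) :
    S.Norm g ∧ ∀ a, S.img g a = a := by
  have e : ∀ a, (g : Matrix ι ι F) * S.e a = sgn F (S.ω v a) • (S.e a * (g : Matrix ι ι F)) := fun a => by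
    rw [h, Matrix.smul_mul, S.e_comm, Matrix.mul_smul, smul_comm]
  exact ⟨fun a => ⟨a, _, e a⟩, fun a => img_eq (e a)⟩

/-- if the determinant one part normalises then the overgroup normalises -/
theorem le_norm_of_big (hk : Cx σ Φ) (hu : ∀ a, S.u a ∈ isoGrp σ Φ) {H : Subgroup (GL ι F)}
    (hge : isoGrp σ Φ ⊓ S.norm ≤ H) (hle : H ≤ isoGrp σ Φ) (hsmall : H ⊓ big σ Φ ≤ S.norm) : H ≤ S.norm := by
  classical
  intro h hh
  have := S.nonempty
  -- conjugation keeps the determinant one part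
  have hconj : ∀ k ∈ H, ∀ y ∈ H ⊓ big σ Φ, k * y * k⁻¹ ∈ H ⊓ big σ Φ := fun k hkH y hy =>
    ⟨H.mul_mem (H.mul_mem hkH hy.1) (H.inv_mem hkH), mem_big.2
      ⟨(isoGrp σ Φ).mul_mem ((isoGrp σ Φ).mul_mem (hle hkH) (mem_big.1 hy.2).1)
        ((isoGrp σ Φ).inv_mem (hle hkH)),
      by rw [Units.val_mul, Units.val_mul, Matrix.det_units_conj]; exact (mem_big.1 hy.2).2⟩⟩
  choose μ g hgb hge' hμ using fun a : {a : A // a ≠ 0} => S.exists_big_e hk hu a.2
  have hgN : ∀ a, S.Norm (g a) := fun a => (img_of_smul_e (hge' a)).1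
  have hgH : ∀ a, g a ∈ H ⊓ big σ Φ := fun a => ⟨hge ⟨(mem_big.1 (hgb a)).1, hgN a⟩, hgb a⟩
  have hμ0 : ∀ a, μ a ≠ 0 := fun a h0 => by rcases hμ a with e | e <;> simp [h0] at e
  set x : {a : A // a ≠ 0} → GL ι F := fun a => h * g a * h⁻¹ with hx
  have hxN : ∀ a, S.Norm (x a) := fun a => hsmall (hconj h hh _ (hgH a))
  -- the conjugates have commuting involutory images
  have himg : ∀ (a b : {a : A // a ≠ 0}) (z : A), S.img (x a) (S.img (x b) z) = S.img (x a * x b) z := fun a b z =>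
    (img_mul (hxN a) (hxN b) z).symm
  have hscalar : ∀ {y y' : GL ι F}, S.Norm y' → ∀ (c : F), c ≠ 0 → (y : Matrix ι ι F) = c • (y' : Matrix ι ι F) →
      ∀ z, S.img y z = S.img y' z := fun {y y'} hy' c hc e z => by
    rw [show y = scal (Units.mk0 c hc) y' from Units.ext (by simpa using e), S.img_scal hy']
  have hsq : ∀ a z, S.img (x a) (S.img (x a) z) = z := fun a z => by
    rw [himg]
    refine (hscalar (y' := 1) Norm.one (μ a * μ a * sgn F (S.q a.1))
      (mul_ne_zero (mul_ne_zero (hμ0 a) (hμ0 a)) (sgn_ne_zero _)) ?_ z).trans (img_one z)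
    rw [hx, show h * g a * h⁻¹ * (h * g a * h⁻¹) = h * (g a * g a) * h⁻¹ by group, Units.val_mul, Units.val_mul,
      Units.val_mul (g a), hge']
    simp only [Matrix.smul_mul, Matrix.mul_smul, smul_smul, S.e_sq, mul_one, Units.mul_inv, Units.val_one, mul_assoc]
  have hswap : ∀ a b z, S.img (x a) (S.img (x b) z) = S.img (x b) (S.img (x a) z) := fun a b z => by
    rw [himg, himg]
    refine hscalar ((hxN b).mul (hxN a)) (sgn F (S.ω a.1 b.1)) (sgn_ne_zero _) ?_ z
    have e : ∀ a b, x a * x b = h * (g a * g b) * h⁻¹ := fun a b => by rw [hx]; group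
    rw [e, e]
    simp only [Units.val_mul, hge', Matrix.smul_mul, Matrix.mul_smul, smul_smul]
    rw [S.e_comm a.1 b.1]
    simp only [Matrix.smul_mul, Matrix.mul_smul, smul_smul]
    congr 1
    ring
  -- their common fixed space is invariant under the images of the determinant one part
  have hinv : ∀ y ∈ H ⊓ big σ Φ, ∀ z, (∀ a, S.img (x a) z = z) → ∀ a, S.img (x a) (S.img y z) = S.img y z := by
    intro y hy z hz a
    have hyN : S.Norm y := hsmall hy
    have hy' : h⁻¹ * y * h ∈ H ⊓ big σ Φ := by simpa using hconj h⁻¹ (H.inv_mem hh) y hy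
    have hy'N : S.Norm (h⁻¹ * y * h)⁻¹ := (hsmall hy').inv
    obtain ⟨c, hc, e⟩ := hy'N.img_spec a.1
    set w := S.img (h⁻¹ * y * h)⁻¹ a.1 with hw
    have hw0 : w ≠ 0 := fun h0 => a.2 (hy'N.img_inj (by rw [← hw, h0, hy'N.img_zero]))
    have key : x a * y = y * (h * ((h⁻¹ * y * h)⁻¹ * g a * (h⁻¹ * y * h)) * h⁻¹) := by rw [hx]; group
    have hinner : (((h⁻¹ * y * h)⁻¹ * g a * (h⁻¹ * y * h) : GL ι F) : Matrix ι ι F) =
        (μ a * c / μ ⟨w, hw0⟩) • (g ⟨w, hw0⟩ : Matrix ι ι F) := by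
      rw [Units.val_mul, Units.val_mul, hge', Matrix.mul_smul, e, smul_smul, Matrix.smul_mul, mul_assoc,
        ← Units.val_mul, inv_mul_cancel, Units.val_one, mul_one, hge', smul_smul, div_mul_cancel₀ _ (hμ0 _)]
    rw [← img_mul (hxN a) hyN, key]
    have hk' : ((h * ((h⁻¹ * y * h)⁻¹ * g a * (h⁻¹ * y * h)) * h⁻¹ : GL ι F) : Matrix ι ι F) =
        (μ a * c / μ ⟨w, hw0⟩) • (x ⟨w, hw0⟩ : Matrix ι ι F) := by
      rw [Units.val_mul, Units.val_mul, hinner, hx]
      simp only [Units.val_mul, Matrix.mul_smul, Matrix.smul_mul]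
    have hne : μ a * c / μ ⟨w, hw0⟩ ≠ 0 := div_ne_zero (mul_ne_zero (hμ0 a) hc) (hμ0 _)
    generalize hX : h * ((h⁻¹ * y * h)⁻¹ * g a * (h⁻¹ * y * h)) * h⁻¹ = X at hk'
    have hXN : S.Norm X := by
      rw [show X = scal (Units.mk0 _ hne) (x ⟨w, hw0⟩) from Units.ext (by simpa using hk')]
      exact S.norm_scal (hxN _) _
    rw [img_mul hyN hXN, hscalar (hxN _) _ hne hk', hz]
  -- it contains commutators of transvection lifts, hence is everything
  have hfix : ∀ a z, S.img (x a) z = z := by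
    rcases subsingleton_or_nontrivial A with hA | hA
    · exact fun a => absurd (Subsingleton.elim a.1 0) a.2
    obtain ⟨x₀, hx₀⟩ := exists_ne (0 : A)
    obtain ⟨a₀, ha₀, hU⟩ := exists_common_fixed (fun a => S.img (x a)) (fun a => (hxN a).img_add) hsq hswap hx₀
      Finset.univ
    have hU₀ : ∀ a, S.img (x a) a₀ = a₀ := fun a => hU a (Finset.mem_univ _)
    have hperp : ∀ b, S.ω a₀ b = 1 → ∀ a, S.img (x a) b = b := by
      intro b hb a
      obtain ⟨t, ht, -, himgt⟩ := S.exists_τ_lift hk hu a₀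
      obtain ⟨r, hr, -, himgr⟩ := S.exists_τ_lift hk hu b
      have hrinv : ∀ z, S.img r⁻¹ z = S.τ b z := fun z => by
        have hzz : z = S.img r (S.τ b z) := by rw [himgr, τ_τ]
        conv_lhs => rw [hzz]
        rw [← img_mul hr.2.inv hr.2, inv_mul_cancel, img_one]
      have htinv : ∀ z, S.img t⁻¹ z = S.τ a₀ z := fun z => by
        have hzz : z = S.img t (S.τ a₀ z) := by rw [himgt, τ_τ]
        conv_lhs => rw [hzz]
        rw [← img_mul ht.2.inv ht.2, inv_mul_cancel, img_one]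
      have hy : t * r * t⁻¹ * r⁻¹ ∈ H ⊓ big σ Φ := by
        refine ⟨H.mul_mem (H.mul_mem (H.mul_mem (hge ht) (hge hr)) (H.inv_mem (hge ht))) (H.inv_mem (hge hr)),
          mem_big.2 ⟨?_, ?_⟩⟩
        · exact (isoGrp σ Φ).mul_mem ((isoGrp σ Φ).mul_mem ((isoGrp σ Φ).mul_mem ht.1 hr.1)
            ((isoGrp σ Φ).inv_mem ht.1)) ((isoGrp σ Φ).inv_mem hr.1)
        · have : Matrix.GeneralLinearGroup.det (t * r * t⁻¹ * r⁻¹) = 1 := by
            simp only [map_mul, map_inv, mul_inv_cancel_comm, mul_inv_cancel]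
          exact congrArg Units.val this
      have himgy : S.img (t * r * t⁻¹ * r⁻¹) a₀ = a₀ + b := by
        rw [img_mul ((ht.2.mul hr.2).mul ht.2.inv) hr.2.inv, img_mul (ht.2.mul hr.2) ht.2.inv,
          img_mul ht.2 hr.2, hrinv, htinv, himgr, himgt]
        simp only [τ, map_add, S.ω_self, hb, S.ω_comm b a₀, one_smul, zero_smul, add_zero, zero_add,
          show (1 : ZMod 2) + 1 = 0 from rfl, add_assoc, add_self_zero]
      have hab := hinv _ hy a₀ hU₀ a
      rw [himgy, (hxN a).img_add, hU₀] at hab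
      exact add_left_cancel hab
    intro a z
    rcases z2_cases (S.ω a₀ z) with hz | hz
    · obtain ⟨b, hb⟩ := S.exists_ω_one ha₀
      have e := hperp (z + b) (by rw [map_add, hz, hb, zero_add]) a
      rw [(hxN a).img_add, hperp b hb] at e
      exact add_right_cancel e
    · exact hperp z hz a
  intro a
  by_cases ha : a = 0
  · exact ⟨0, 1, by rw [ha, S.e_zero, one_smul, one_mul, mul_one]⟩
  obtain ⟨v, c, -, hv⟩ := (hxN ⟨a, ha⟩).eq_e (hfix ⟨a, ha⟩)
  refine ⟨v, c / μ ⟨a, ha⟩, ?_⟩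
  have h1 : ((x ⟨a, ha⟩ * h : GL ι F) : Matrix ι ι F) = (c • S.e v) * (h : Matrix ι ι F) := by
    rw [Units.val_mul, hv]
  rw [hx, inv_mul_cancel_right, Units.val_mul, hge', Matrix.mul_smul, Matrix.smul_mul] at h1
  have h2 := congrArg (fun M : Matrix ι ι F => (μ ⟨a, ha⟩)⁻¹ • M) h1
  simp only [smul_smul, inv_mul_cancel₀ (hμ0 _), one_smul] at h2
  rw [h2, div_eq_inv_mul]

end small

section group

variable {A F : Type*} [AddCommGroup A] [Module (ZMod 2) A] [Fintype A] [Field F] {ι : Type} [Fintype ι]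
  [DecidableEq ι] (S : Sys A ι F)

theorem sgn_pow_four (s : ZMod 2) : (sgn F s) ^ 4 = 1 := by
  rw [show (4 : ℕ) = 2 + 2 by rfl, pow_add, sq, sgn_mul_self, one_mul]

/-- the monomials up to fourth roots of unity -/
def monoGrp : Subgroup (GL ι F) where
  carrier := {g | ∃ (a : A) (c : F), c ^ 4 = 1 ∧ (g : Matrix ι ι F) = c • S.e a}
  one_mem' := ⟨0, 1, one_pow 4, by rw [S.e_zero, one_smul, Units.val_one]⟩
  mul_mem' := by
    rintro g h ⟨a, c, hc, hg⟩ ⟨b, d, hd, hh⟩
    refine ⟨a + b, c * d * sgn F (S.β a b), by rw [mul_pow, mul_pow, hc, hd, sgn_pow_four, one_mul, one_mul], ?_⟩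
    rw [Units.val_mul, hg, hh, Matrix.smul_mul, Matrix.mul_smul, S.e_mul, smul_smul, smul_smul, mul_assoc]
  inv_mem' := by
    rintro g ⟨a, c, hc, hg⟩
    have hc0 : c ≠ 0 := fun h => by simp [h] at hc
    refine ⟨a, c⁻¹ * sgn F (S.q a), by rw [mul_pow, inv_pow, hc, sgn_pow_four, inv_one, one_mul], ?_⟩
    have e : g = scal (Units.mk0 c hc0) (S.u a) := Units.ext (by rw [scal_val, u_val, hg, Units.val_mk0])
    rw [e]
    show (((Units.mk0 c hc0)⁻¹ : Fˣ) : F) • ((S.u a)⁻¹ : GL ι F).val = _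
    rw [u_inv_val, smul_smul, Units.val_inv_eq_inv_val, Units.val_mk0]

theorem mem_monoGrp {g : GL ι F} :
    g ∈ S.monoGrp ↔ ∃ (a : A) (c : F), c ^ 4 = 1 ∧ (g : Matrix ι ι F) = c • S.e a := Iff.rfl

theorem u_monoGrp (a : A) : S.u a ∈ S.monoGrp := ⟨a, 1, one_pow 4, by rw [u_val, one_smul]⟩

theorem dec_monoGrp : ∀ g ∈ S.monoGrp, ∃ (a : A) (c : F), (g : Matrix ι ι F) = c • S.e a :=
  fun _ ⟨a, c, _, h⟩ => ⟨a, c, h⟩

theorem all_monoGrp (a : A) (c : F) (hc : c ^ 4 = 1) : ∃ g ∈ S.monoGrp, (g : Matrix ι ι F) = c • S.e a := by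
  have hc0 : c ≠ 0 := fun h => by simp [h] at hc
  exact ⟨scal (Units.mk0 c hc0) (S.u a), ⟨a, c, hc, by simp⟩, by simp⟩

theorem pow_four_monoGrp (g : S.monoGrp) : g ^ 4 = 1 := by
  obtain ⟨a, c, hc, hg⟩ := g.2
  refine Subtype.ext (Units.ext ?_)
  rw [SubgroupClass.coe_pow, Units.val_pow_eq_pow_val, hg, smul_pow, hc, one_smul, show (4 : ℕ) = 2 + 2 by rfl, pow_add,
    sq, S.e_sq, Matrix.smul_mul, one_mul, smul_smul, sgn_mul_self, one_smul]
  rfl

theorem card_monoGrp [Fintype F] {i : F} (hi : i * i = -1) :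
    Nat.card S.monoGrp = 4 * Fintype.card A := by
  have h1 : (1 : F) ≠ -1 := fun e => S.two_ne (by linear_combination e)
  have hiro : IsPrimitiveRoot i 4 := by
    refine IsPrimitiveRoot.mk_of_lt i (by norm_num) (by linear_combination (i * i - 1) * hi) fun l hl hl4 e => ?_
    interval_cases l
    · rw [pow_one] at e; rw [e, one_mul] at hi; exact h1 hi
    · rw [sq, hi] at e; exact h1 e.symm
    · have e1 : i = -1 := by linear_combination i * hi - e
      rw [e1] at hi; exact h1 (by linear_combination hi)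
  have : NeZero 4 := ⟨by norm_num⟩
  have hcard : Nat.card (rootsOfUnity 4 F) = 4 := hiro.card_rootsOfUnity
  have hpow : ∀ c : rootsOfUnity 4 F, ((c : Fˣ) : F) ^ 4 = 1 := fun c => by
    rw [← Units.val_pow_eq_pow_val, (mem_rootsOfUnity _ _).1 c.2, Units.val_one]
  let φ : rootsOfUnity 4 F × A → S.monoGrp := fun p =>
    ⟨scal (p.1 : Fˣ) (S.u p.2), p.2, _, hpow p.1, by rw [scal_val, u_val]⟩
  have hφ : Function.Bijective φ := by
    refine ⟨fun p p' e => ?_, fun g => ?_⟩
    · have e' : ((p.1 : Fˣ) : F) • S.e p.2 = ((p'.1 : Fˣ) : F) • S.e p'.2 := by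
        simpa [φ] using congrArg (fun g : S.monoGrp => ((g : GL ι F) : Matrix ι ι F)) e
      obtain ⟨ea, ec⟩ := S.smul_e_inj (p.1 : Fˣ).ne_zero e'
      exact Prod.ext (Subtype.ext (Units.ext ec)) ea
    · obtain ⟨a, c, hc, hg⟩ := g.2
      have hc0 : c ≠ 0 := fun h => by simp [h] at hc
      exact ⟨(⟨Units.mk0 c hc0, (mem_rootsOfUnity _ _).2 (Units.ext (by simpa using hc))⟩, a),
        Subtype.ext (Units.ext (by simp [φ, hg]))⟩
  rw [← Nat.card_eq_of_bijective φ hφ, Nat.card_prod, hcard, Nat.card_eq_fintype_card]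

theorem mem_center_monoGrp {g : S.monoGrp} :
    g ∈ Subgroup.center S.monoGrp ↔ ∃ c : F, ((g : GL ι F) : Matrix ι ι F) = c • (1 : Matrix ι ι F) := by
  refine ⟨fun h => S.scalar_of_comm fun a => ?_, fun ⟨c, hc⟩ => Subgroup.mem_center_iff.2 fun x => ?_⟩
  · have e := Subgroup.mem_center_iff.1 h ⟨S.u a, S.u_monoGrp a⟩
    have e' := congrArg (fun z : S.monoGrp => ((z : GL ι F) : Matrix ι ι F)) e
    simpa using e'.symm
  · exact Subtype.ext (Units.ext (by simp [hc]))

theorem card_center_monoGrp [Fintype F] {i : F} (hi : i * i = -1) :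
    Nat.card (Subgroup.center S.monoGrp) = 4 := by
  have h4 : Nat.card S.monoGrp = 4 * Fintype.card A := S.card_monoGrp hi
  have := S.nonempty
  -- the map to the vector has the centre as its fibres
  let π : S.monoGrp → A := fun g => g.2.choose
  have hπ : ∀ g : S.monoGrp, ∃ c : F, ((g : GL ι F) : Matrix ι ι F) = c • S.e (π g) := fun g =>
    ⟨g.2.choose_spec.choose, g.2.choose_spec.choose_spec.2⟩
  have huniq : ∀ (g : S.monoGrp) (a : A) (c : F), ((g : GL ι F) : Matrix ι ι F) = c • S.e a → π g = a := by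
    intro g a c h
    obtain ⟨d, hd⟩ := hπ g
    have hd0 : d ≠ 0 := fun h0 => Units.ne_zero (g : GL ι F) (by rw [hd, h0, zero_smul])
    exact (S.smul_e_inj hd0 (hd.symm.trans h)).1
  let π' : S.monoGrp →* Multiplicative A :=
    { toFun := fun g => Multiplicative.ofAdd (π g)
      map_one' := by rw [huniq 1 0 1 (by simp [S.e_zero])]; rfl
      map_mul' := fun g h => by
        obtain ⟨c, hc⟩ := hπ g
        obtain ⟨d, hd⟩ := hπ h
        rw [huniq (g * h) (π g + π h) (c * d * sgn F (S.β (π g) (π h))) (by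
          rw [Subgroup.coe_mul, Units.val_mul, hc, hd, Matrix.smul_mul, Matrix.mul_smul, S.e_mul, smul_smul,
            smul_smul, mul_assoc])]
        rfl }
  have hker : π'.ker = Subgroup.center S.monoGrp := by
    ext g
    rw [MonoidHom.mem_ker, mem_center_monoGrp]
    refine ⟨fun h => ?_, fun ⟨c, hc⟩ => ?_⟩
    · obtain ⟨c, hc⟩ := hπ g
      rw [show π g = 0 from h, S.e_zero] at hc
      exact ⟨c, hc⟩
    · show Multiplicative.ofAdd (π g) = 1
      rw [huniq g 0 c (by rw [S.e_zero]; exact hc)]; rfl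
  have hsurj : Function.Surjective π' := fun a => ⟨⟨S.u a.toAdd, S.u_monoGrp _⟩, by
    show Multiplicative.ofAdd (π _) = a
    rw [huniq _ a.toAdd 1 (by rw [one_smul, u_val])]; rfl⟩
  have hidx := Subgroup.index_ker π'
  rw [MonoidHom.range_eq_top.2 hsurj, Subgroup.card_top, Nat.card_eq_fintype_card, Fintype.card_multiplicative, hker]
    at hidx
  have := Subgroup.card_mul_index (Subgroup.center S.monoGrp)
  rw [hidx, h4] at this
  exact Nat.eq_of_mul_eq_mul_right Fintype.card_pos this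

theorem absIrred_monoGrp : Cfsg.Geo.ActsAbsolutelyIrreducibly (Cfsg.Geo.matrixSet S.monoGrp) := by
  refine ⟨fun W hW => ?_, fun M hM => S.scalar_of_comm fun a => hM _ ⟨_, S.u_monoGrp a, rfl⟩⟩
  refine or_iff_not_imp_left.2 fun hne => ?_
  obtain ⟨w, hw, hw0⟩ := Submodule.exists_mem_ne_zero_of_ne_bot hne
  obtain ⟨j, hj⟩ := Function.ne_iff.1 hw0
  have hall : ∀ M : Matrix ι ι F, M.mulVec w ∈ W := fun M => by
    have hM : M ∈ Submodule.span F (Set.range S.e) := S.span_top ▸ trivial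
    obtain ⟨co, rfl⟩ := (Submodule.mem_span_range_iff_exists_fun F).1 hM
    rw [Matrix.sum_mulVec]
    refine W.sum_mem fun a _ => ?_
    rw [Matrix.smul_mulVec]
    refine W.smul_mem _ ?_
    have := hW (S.e a) ⟨_, S.u_monoGrp a, rfl⟩ (Submodule.mem_map_of_mem hw)
    simpa [Matrix.toLin'_apply] using this
  refine Submodule.eq_top_iff'.2 fun z => ?_
  have := hall (Matrix.vecMulVec z (Pi.single j (w j)⁻¹))
  rwa [Matrix.vecMulVec_mulVec, single_dotProduct, inv_mul_cancel₀ hj, MulOpposite.op_one, one_smul] at this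

/-- the monomials form a group of symplectic type -/
theorem sympType_monoGrp [Fintype F] {i : F} (hi : i * i = -1)
    (htrans : ∀ a b : A, a ≠ 0 → b ≠ 0 → ∃ n : GL ι F, S.Norm n ∧ S.img n a = b) :
    Cfsg.Geo.IsSymplecticTypeGroup 2 S.monoGrp where
  prime := Nat.prime_two
  pGroup := fun g => ⟨2, S.pow_four_monoGrp g⟩
  exponent_eq := by
    show Monoid.exponent S.monoGrp = 2 * Nat.gcd 2 2
    have hdvd : Monoid.exponent S.monoGrp ∣ 2 ^ 2 := Monoid.exponent_dvd_of_forall_pow_eq_one S.pow_four_monoGrp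
    obtain ⟨k, hk, e⟩ := (Nat.dvd_prime_pow Nat.prime_two).1 hdvd
    obtain ⟨g, hg, hge⟩ := S.all_monoGrp 0 i (by linear_combination (i * i - 1) * hi)
    have hne : (⟨g, hg⟩ : S.monoGrp) ^ 2 ≠ 1 := fun h => by
      have h' := congrArg (fun z : S.monoGrp => ((z : GL ι F) : Matrix ι ι F)) h
      simp only [SubgroupClass.coe_pow, Units.val_pow_eq_pow_val, hge, S.e_zero, smul_pow, one_pow, sq i, hi,
        OneMemClass.coe_one, Units.val_one] at h'
      have := S.nonempty
      obtain ⟨r⟩ := this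
      have h'' := congrFun (congrFun h' r) r
      simp at h''
      exact S.two_ne (by linear_combination -h'')
    rcases Nat.le_one_iff_eq_zero_or_eq_one.1 (show k - 1 ≤ 1 by omega) with h | h
    · refine absurd ?_ hne
      have hk1 : 2 ^ k ∣ 2 := by
        rcases (show k = 0 ∨ k = 1 by omega) with rfl | rfl <;> norm_num
      exact orderOf_dvd_iff_pow_eq_one.1 ((Monoid.order_dvd_exponent _).trans (e ▸ hk1))
    · rw [e, show k = 2 by omega]; rfl
  cyclic_of_characteristic := by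
    intro K hK hab
    -- the subgroup consists of scalars
    have hscal : ∀ g ∈ K, ∃ c : F, ((g : GL ι F) : Matrix ι ι F) = c • (1 : Matrix ι ι F) := by
      intro g hg
      obtain ⟨a, c, hc, hge⟩ := g.2
      by_cases ha : a = 0
      · exact ⟨c, by rw [hge, ha, S.e_zero]⟩
      exfalso
      obtain ⟨b, hb⟩ := S.exists_ω_one ha
      have hb0 : b ≠ 0 := fun h => by rw [h, map_zero] at hb; exact zero_ne_one hb
      obtain ⟨n, hn, hnb⟩ := htrans a b ha hb0
      have hnR : n ∈ Cfsg.Geo.subgroupNormalizer S.monoGrp := by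
        rw [normalizer_eq_four S S.u_monoGrp S.dec_monoGrp S.all_monoGrp]; exact hn
      let f : S.monoGrp ≃* S.monoGrp :=
        { toFun := fun z => ⟨n * z * n⁻¹, (Subgroup.mem_normalizer_iff.1 hnR _).1 z.2⟩
          invFun := fun z => ⟨n⁻¹ * z * n, (Subgroup.mem_normalizer_iff.1 hnR _).2 (by simp [mul_assoc])⟩
          left_inv := fun z => Subtype.ext (by simp [mul_assoc])
          right_inv := fun z => Subtype.ext (by simp [mul_assoc])
          map_mul' := fun z z' => Subtype.ext (by simp [mul_assoc]) }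
      have hfg : f g ∈ K := by
        rw [← Subgroup.characteristic_iff_comap_eq.1 hK f] at hg
        exact hg
      obtain ⟨k, hk, e⟩ := hn.img_spec a
      rw [hnb] at e
      have hfe : ((f g : GL ι F) : Matrix ι ι F) = (c * k) • S.e b := by
        show ((n * (g : GL ι F) * n⁻¹ : GL ι F) : Matrix ι ι F) = _
        rw [Units.val_mul, Units.val_mul, hge, Matrix.mul_smul, e, smul_smul, Matrix.smul_mul, mul_assoc,
          ← Units.val_mul, mul_inv_cancel, Units.val_one, mul_one]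
      have hc' := hab.is_comm.comm (⟨g, hg⟩ : K) ⟨f g, hfg⟩
      have h' := congrArg (fun z : K => (((z : S.monoGrp) : GL ι F) : Matrix ι ι F)) hc'
      simp only [Subgroup.coe_mul, Units.val_mul, hge, hfe, Matrix.smul_mul, Matrix.mul_smul, smul_smul] at h'
      rw [S.e_comm a b, hb, sgn_one, smul_smul] at h'
      have hck : c * k ≠ 0 := mul_ne_zero (fun h => by simp [h] at hc) hk
      have hc0 : c ≠ 0 := fun h => by simp [h] at hc
      rw [S.e_mul, smul_smul, smul_smul] at h'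
      have h'' := (S.smul_e_inj (by simp [hck, hc0, sgn_ne_zero]) h').2
      exact S.two_ne (mul_right_cancel₀ (mul_ne_zero (mul_ne_zero hck hc0) (sgn_ne_zero (F := F) (S.β b a)))
        (show (2 : F) * _ = 0 * _ by linear_combination -h''))
    obtain ⟨r⟩ := S.nonempty
    let f : K →* F :=
      { toFun := fun z => (((z : S.monoGrp) : GL ι F) : Matrix ι ι F) r r
        map_one' := by simp
        map_mul' := fun z z' => by
          obtain ⟨c, hc⟩ := hscal z z.2
          obtain ⟨d, hd⟩ := hscal z' z'.2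
          simp [hc, hd, mul_comm] }
    refine isCyclic_of_injective_ringHom f fun z z' e => ?_
    obtain ⟨c, hc⟩ := hscal z z.2
    obtain ⟨d, hd⟩ := hscal z' z'.2
    have : c = d := by simpa [f, hc, hd] using e
    exact Subtype.ext (Subtype.ext (Units.ext (by rw [hc, hd, this])))

end group

section four

variable {A F : Type*} [AddCommGroup A] [Module (ZMod 2) A] [Fintype A] [Field F] [Fintype F]

/-- maximality in degree four in the language of systems -/
theorem big_dich_four (S : Sys A (Fin 4) F) {σ : F →+* F} {Φ : Matrix (Fin 4) (Fin 4) F} (hk : Cx σ Φ)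
    (hu : ∀ a, S.u a ∈ isoGrp σ Φ) {M : Subgroup (GL (Fin 4) F)} (hM : S.norm ⊓ big σ Φ ≤ M)
    (hMK : M ≤ big σ Φ) : M = S.norm ⊓ big σ Φ ∨ M = big σ Φ := by
  obtain ⟨i, hi, hσi⟩ := hk.exists_i
  have hA : Fintype.card A = 16 := by rw [S.card_eq, Fintype.card_fin]
  have htrans : ∀ a b : A, a ≠ 0 → b ≠ 0 → ∃ n : GL (Fin 4) F, S.Norm n ∧ S.img n a = b := fun a b ha hb => by
    obtain ⟨n, hn, e⟩ := S.trans_cx hk hu ha hb
    exact ⟨n, hn.2, e⟩
  have hR := S.sympType_monoGrp hi htrans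
  have h64 : Nat.card S.monoGrp = 64 := by rw [S.card_monoGrp hi, hA]
  have hZ := S.card_center_monoGrp hi
  have hN := normalizer_eq_four S S.u_monoGrp S.dec_monoGrp S.all_monoGrp
  rcases hk with ⟨rfl, rfl, hp, hp4⟩ | ⟨rfl, p, hp, hp4, hF, hs⟩
  · have hbig : big (RingHom.id F) (0 : Matrix (Fin 4) (Fin 4) F) = Cfsg.Geo.specialLinear (Fin 4) F := by
      rw [big, isoGrp_zero, top_inf_eq]; rfl
    have : Fact (Fintype.card F).Prime := ⟨hp⟩
    have hchar : CharP F (Fintype.card F) := charP_of_card_eq_prime rfl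
    have hdata : Cfsg.Geo.IsLinearSymplecticTypeData 2 S.monoGrp :=
      { symplecticType := hR
        absIrred := S.absIrred_monoGrp
        field := ⟨Fintype.card F, 1, by omega,
          ⟨hp, hchar, (pow_one _).symm, by rw [hZ, pow_one]; omega, fun d hd hd1 => by omega⟩,
          Or.inr (Or.inl ⟨rfl, rfl, hZ, by simp, 2, by rw [h64]; rfl⟩)⟩ }
    have h := SL4.SympType.maximal (Fintype.card F) S.monoGrp hp rfl hp4 hdata
    rw [hN, ← hbig] at h
    exact h.2 M hM hMK
  · have hbig : big σ (1 : Matrix (Fin 4) (Fin 4) F) = Cfsg.GU 4 F p ⊓ Cfsg.Geo.specialLinear (Fin 4) F := by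
      have : isoGrp σ (1 : Matrix (Fin 4) (Fin 4) F) = Cfsg.GU 4 F p := by
        ext g
        rw [Cfsg.Agent.Classical.UnitaryConj.mem_GU_iff hF, mem_isoGrp, mul_one]
        rw [show ((g : Matrix (Fin 4) (Fin 4) F).map σ)ᵀ = Cfsg.Agent.Classical.UnitaryConj.adj hF (g : Matrix _ _ F) by
          ext r c; simp [Cfsg.Agent.Classical.UnitaryConj.adj, hs]]
      rw [big, this]; rfl
    have hRU : S.monoGrp ≤ Cfsg.GU 4 F p := by
      rintro g ⟨a, c, hc, hg⟩
      have hc0 : c ≠ 0 := fun h => by simp [h] at hc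
      have hgi : g ∈ isoGrp σ (1 : Matrix (Fin 4) (Fin 4) F) := by
        rw [show g = scal (Units.mk0 c hc0) (S.u a) from Units.ext (by simp [hg])]
        refine scal_mem_iso (hu a) (Or.inl ?_)
        show σ c * c = 1
        obtain ⟨m, hm⟩ : 4 ∣ p + 1 := ⟨p / 4 + 1, by omega⟩
        rw [hs, ← pow_succ, hm, pow_mul, hc, one_pow]
      rw [Cfsg.Agent.Classical.UnitaryConj.mem_GU_iff hF]
      rw [mem_isoGrp, mul_one] at hgi
      convert hgi using 2
      ext r c; simp [Cfsg.Agent.Classical.UnitaryConj.adj, hs]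
    have h := SU4.SympType.maximal hp hF hp4 hR S.absIrred_monoGrp hRU h64 hZ
    rw [hN, ← hbig] at h
    exact h.2 M hM hMK

/-- the induction base: two qubits -/
theorem dich_base {ι : Type*} [Fintype ι] [DecidableEq ι] (S : Sys A ι F) {σ : F →+* F} {Φ : Matrix ι ι F}
    (hk : Cx σ Φ) (hu : ∀ a, S.u a ∈ isoGrp σ Φ) (hA : Fintype.card A = 16) : S.Dich σ Φ := by
  intro H hge hle
  have hι : Fintype.card ι = 4 := Nat.pow_left_injective two_ne_zero (by
    show Fintype.card ι ^ 2 = 4 ^ 2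
    rw [sq, ← S.card_eq, hA])
  let e : ι ≃ Fin 4 := Fintype.equivFinOfCardEq hι
  let f := Matrix.reindexAlgEquiv F F e
  let ψ : GL ι F ≃* GL (Fin 4) F := Units.mapEquiv f.toMulEquiv
  have hψ : ∀ g, (ψ g : Matrix (Fin 4) (Fin 4) F) = f (g : Matrix ι ι F) := fun g => rfl
  have hmap : ∀ X : Matrix ι ι F, (f X).map σ = f (X.map σ) := fun X => rfl
  have htr : ∀ X : Matrix ι ι F, (f X)ᵀ = f Xᵀ := fun X => rfl
  have hiso : ∀ g, ψ g ∈ isoGrp σ (f Φ) ↔ g ∈ isoGrp σ Φ := fun g => by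
    rw [mem_isoGrp, mem_isoGrp, hψ, hmap, htr, ← map_mul, ← map_mul]
    exact f.injective.eq_iff
  have hnorm : ∀ g, (S.reindex e.symm).Norm (ψ g) ↔ S.Norm g := fun g => by
    refine forall_congr' fun a => exists_congr fun b => exists_congr fun c => ?_
    show f (g : Matrix ι ι F) * f (S.e a) = c • (f (S.e b) * f (g : Matrix ι ι F)) ↔ _
    rw [← map_mul, ← map_mul, ← map_smul]
    exact f.injective.eq_iff
  have hbig : ∀ g, ψ g ∈ big σ (f Φ) ↔ g ∈ big σ Φ := fun g => by
    rw [mem_big, mem_big, hiso, hψ]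
    exact and_congr_right' (by rw [show (f (g : Matrix ι ι F)).det = (g : Matrix ι ι F).det from
      Matrix.det_reindexAlgEquiv F F e _])
  have hk' : Cx σ (f Φ) := by
    rcases hk with ⟨h0, h⟩ | ⟨h0, h⟩
    · exact Or.inl ⟨by rw [h0, map_zero], h⟩
    · exact Or.inr ⟨by rw [h0, map_one], h⟩
  have hu' : ∀ a, (S.reindex e.symm).u a ∈ isoGrp σ (f Φ) := fun a => by
    rw [show (S.reindex e.symm).u a = ψ (S.u a) from Units.ext rfl, hiso]
    exact hu a
  have hM : (S.reindex e.symm).norm ⊓ big σ (f Φ) ≤ (H ⊓ big σ Φ).map ψ.toMonoidHom := fun y hy => by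
    obtain ⟨x, rfl⟩ := ψ.surjective y
    exact ⟨x, ⟨hge ⟨(mem_big.1 ((hbig x).1 hy.2)).1, (hnorm x).1 hy.1⟩, (hbig x).1 hy.2⟩, rfl⟩
  have hMK : (H ⊓ big σ Φ).map ψ.toMonoidHom ≤ big σ (f Φ) := by
    rintro _ ⟨x, hx, rfl⟩
    exact (hbig x).2 hx.2
  rcases (S.reindex e.symm).big_dich_four hk' hu' hM hMK with h | h
  · refine Or.inl (le_norm_of_big hk hu hge hle fun x hx => ?_)
    have hx' : ψ x ∈ (S.reindex e.symm).norm ⊓ big σ (f Φ) := h ▸ ⟨x, hx, rfl⟩
    exact (hnorm x).1 hx'.1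
  · refine Or.inr fun x hx => ?_
    obtain ⟨z, hz, he⟩ : ψ x ∈ (H ⊓ big σ Φ).map ψ.toMonoidHom := h ▸ (hbig x).2 hx
    exact ψ.injective he ▸ hz.1

end four

end Sys

end Cfsg.Agent.Forms.Max.TwoGroup
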