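import Mathlib

/-!
# Systems of monomials of a 2-group of symplectic type

A system assigns an invertible matrix to each vector of a space over `ZMod 2`, multiplicatively up to the signs of a
bilinear cocycle `β` whose symmetrisation `ω` is non-degenerate, with as many vectors as matrix entries and trace
zero away from the origin. The normaliser is taken up to scalars.
-/

set_option autoImplicit false
set_option linter.unusedSectionVars false

namespace Cfsg.Agent.Forms.Max.TwoGroup

open Matrix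

theorem z2_cases (a : ZMod 2) : a = 0 ∨ a = 1 := by revert a; decide

/-- the sign of an element of `ZMod 2` -/
def sgn (F : Type*) [Field F] (a : ZMod 2) : F := if a = 0 then 1 else -1

section sign

variable {F : Type*} [Field F]

@[simp] theorem sgn_zero : sgn F 0 = 1 := if_pos rfl

@[simp] theorem sgn_one : sgn F 1 = -1 := if_neg one_ne_zero

theorem sgn_add (a b : ZMod 2) : sgn F (a + b) = sgn F a * sgn F b := by
  rcases z2_cases a with rfl | rfl <;> rcases z2_cases b with rfl | rfl <;>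
    simp [show (1 : ZMod 2) + 1 = 0 from rfl]

theorem sgn_mul_self (a : ZMod 2) : sgn F a * sgn F a = 1 := by
  rcases z2_cases a with rfl | rfl <;> simp

theorem sgn_ne_zero (a : ZMod 2) : sgn F a ≠ 0 := by
  rcases z2_cases a with rfl | rfl <;> simp

theorem sgn_inj (h2 : (2 : F) ≠ 0) {a b : ZMod 2} (h : sgn F a = sgn F b) : a = b := by
  rcases z2_cases a with rfl | rfl <;> rcases z2_cases b with rfl | rfl <;> simp at h ⊢
  · exact h2 (by linear_combination h)
  · exact h2 (by linear_combination -h)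

theorem inv_sgn (a : ZMod 2) : (sgn F a)⁻¹ = sgn F a := inv_eq_of_mul_eq_one_right (sgn_mul_self a)

end sign

/-- a system of monomials -/
structure Sys (A ι F : Type*) [AddCommGroup A] [Module (ZMod 2) A] [Fintype A] [Field F] [Fintype ι]
    [DecidableEq ι] where
  e : A → Matrix ι ι F
  β : LinearMap.BilinForm (ZMod 2) A
  two_ne : (2 : F) ≠ 0
  card_ne : (Fintype.card ι : F) ≠ 0
  e_zero : e 0 = 1
  e_mul : ∀ a b, e a * e b = sgn F (β a b) • e (a + b)
  trace_eq : ∀ a, a ≠ 0 → Matrix.trace (e a) = 0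
  card_eq : Fintype.card A = Fintype.card ι * Fintype.card ι
  nondeg : ∀ a, (∀ b, β a b + β b a = 0) → a = 0

variable {A ι F : Type*} [AddCommGroup A] [Module (ZMod 2) A] [Fintype A] [Field F] [Fintype ι] [DecidableEq ι]
  (S : Sys A ι F)

theorem add_self_zero (a : A) : a + a = 0 := by
  rw [← two_smul (ZMod 2) a, show (2 : ZMod 2) = 0 from rfl, zero_smul]

theorem eq_of_add_zero {a b : A} (h : a + b = 0) : a = b := by
  rw [eq_neg_of_add_eq_zero_left h, neg_eq_of_add_eq_zero_left (add_self_zero b)]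

theorem add_add_self (a b : A) : a + (a + b) = b := by rw [← add_assoc, add_self_zero, zero_add]

theorem z2_smul_cases (r : ZMod 2) (a : A) : r • a = if r = 0 then 0 else a := by
  rcases z2_cases r with rfl | rfl <;> simp

namespace Sys

/-- the alternating form -/
def ω : LinearMap.BilinForm (ZMod 2) A := S.β + LinearMap.BilinForm.flipHom (S.β)

theorem ω_apply (a b : A) : S.ω a b = S.β a b + S.β b a := rfl

theorem ω_self (a : A) : S.ω a a = 0 := by
  rw [ω_apply]; exact CharTwo.add_self_eq_zero _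

theorem ω_comm (a b : A) : S.ω a b = S.ω b a := by rw [ω_apply, ω_apply, add_comm]

theorem ω_nondeg {a : A} (h : ∀ b, S.ω a b = 0) : a = 0 := S.nondeg a fun b => h b

theorem exists_ω_one {a : A} (ha : a ≠ 0) : ∃ b, S.ω a b = 1 := by
  by_contra hc
  push Not at hc
  exact ha (S.ω_nondeg fun b => (z2_cases _).resolve_right (hc b))

/-- the quadratic form: the sign of the square -/
def q (a : A) : ZMod 2 := S.β a a

theorem q_add (a b : A) : S.q (a + b) = S.q a + S.q b + S.ω a b := by
  simp only [q, ω_apply, map_add, LinearMap.add_apply]; ring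

theorem q_zero : S.q 0 = 0 := by simp [q]

theorem e_sq (a : A) : S.e a * S.e a = sgn F (S.q a) • (1 : Matrix ι ι F) := by
  rw [S.e_mul, add_self_zero, S.e_zero]; rfl

theorem e_comm (a b : A) : S.e a * S.e b = sgn F (S.ω a b) • (S.e b * S.e a) := by
  rw [S.e_mul, S.e_mul, smul_smul, add_comm b a, ω_apply, sgn_add, mul_assoc, sgn_mul_self, mul_one]

/-- the unit -/
def u (a : A) : GL ι F where
  val := S.e a
  inv := sgn F (S.q a) • S.e a
  val_inv := by rw [Matrix.mul_smul, S.e_sq, smul_smul, sgn_mul_self, one_smul]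
  inv_val := by rw [Matrix.smul_mul, S.e_sq, smul_smul, sgn_mul_self, one_smul]

@[simp] theorem u_val (a : A) : (S.u a : Matrix ι ι F) = S.e a := rfl

theorem e_ne_zero (a : A) : S.e a ≠ 0 := fun h => by
  have h1 := S.e_sq a
  rw [h, zero_mul] at h1
  have h2 := congrArg Matrix.trace h1
  rw [Matrix.trace_zero, Matrix.trace_smul, Matrix.trace_one, smul_eq_mul] at h2
  exact mul_ne_zero (sgn_ne_zero _) S.card_ne h2.symm

theorem trace_mul_self (a : A) : Matrix.trace (S.e a * S.e a) = sgn F (S.q a) * (Fintype.card ι : F) := by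
  rw [S.e_sq, Matrix.trace_smul, Matrix.trace_one, smul_eq_mul]

theorem trace_mul_ne {a b : A} (h : a ≠ b) : Matrix.trace (S.e a * S.e b) = 0 := by
  rw [S.e_mul, Matrix.trace_smul, S.trace_eq _ fun h0 => h (eq_of_add_zero h0), smul_zero]

include S in
theorem nonempty : Nonempty ι := by
  by_contra h
  have := not_nonempty_iff.1 h
  exact S.card_ne (by simp)

theorem indep : LinearIndependent F S.e := by
  rw [Fintype.linearIndependent_iff]
  intro g hg a
  have := congrArg (fun M => Matrix.trace (S.e a * M)) hg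
  simp only [Finset.mul_sum, Matrix.trace_sum, Matrix.mul_smul, Matrix.trace_smul, mul_zero, Matrix.trace_zero,
    smul_eq_mul] at this
  rw [Finset.sum_eq_single a (fun b _ hb => by rw [S.trace_mul_ne (Ne.symm hb), mul_zero]) (by simp),
    S.trace_mul_self] at this
  exact (mul_eq_zero.1 this).resolve_right (mul_ne_zero (sgn_ne_zero _) S.card_ne)

/-- moving a monomial across a combination -/
theorem sum_mul_e (co : A → F) (a : A) :
    S.e a * ∑ x, co x • S.e x = (∑ x, (sgn F (S.ω a x) * co x) • S.e x) * S.e a := by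
  rw [Finset.mul_sum, Finset.sum_mul]
  refine Finset.sum_congr rfl fun x _ => ?_
  rw [Matrix.mul_smul, S.e_comm a x, Matrix.smul_mul, smul_smul, mul_comm]

theorem coef_eq {co : A → F} {X : Matrix ι ι F} (hX : ∑ x, co x • S.e x = X) {a : A} {c : F}
    (h : X * S.e a = c • (S.e a * X)) (x : A) : co x = c * (sgn F (S.ω a x) * co x) := by
  rw [← hX, S.sum_mul_e, ← Matrix.smul_mul, Finset.smul_sum] at h
  have h1 : ∑ x, co x • S.e x = ∑ x, (c * (sgn F (S.ω a x) * co x)) • S.e x :=
    (Units.mul_left_inj (S.u a)).1 (by simpa only [u_val, smul_smul] using h)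
  have h2 := Fintype.linearIndependent_iff.1 S.indep (fun x => co x - c * (sgn F (S.ω a x) * co x)) (by
    simp only [sub_smul, Finset.sum_sub_distrib, h1, sub_self]) x
  exact sub_eq_zero.1 h2

theorem span_top : Submodule.span F (Set.range S.e) = ⊤ := by
  refine S.indep.span_eq_top_of_card_eq_finrank' ?_
  rw [S.card_eq, Module.finrank_matrix, Module.finrank_self, mul_one]

theorem inj {a b : A} {c : F} (h : S.e a = c • S.e b) : a = b := by
  by_contra hne
  have := congrArg (fun M => Matrix.trace (S.e a * M)) h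
  simp only [Matrix.mul_smul, Matrix.trace_smul, S.trace_mul_self, S.trace_mul_ne hne, smul_zero] at this
  exact mul_ne_zero (sgn_ne_zero _) S.card_ne this

theorem smul_e_inj {a b : A} {c d : F} (hc : c ≠ 0) (h : c • S.e a = d • S.e b) : a = b ∧ c = d := by
  have e1 : S.e a = (c⁻¹ * d) • S.e b := by rw [← smul_smul, ← h, smul_smul, inv_mul_cancel₀ hc, one_smul]
  obtain rfl := S.inj e1
  refine ⟨rfl, ?_⟩
  by_contra hne
  have h0 : (c - d) • S.e a = 0 := by rw [sub_smul, h, sub_self]
  exact S.e_ne_zero a ((smul_eq_zero.1 h0).resolve_left (sub_ne_zero.2 hne))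

theorem scalar_of_comm {X : Matrix ι ι F} (h : ∀ a, X * S.e a = S.e a * X) :
    ∃ c : F, X = c • (1 : Matrix ι ι F) := by
  have hX : X ∈ Submodule.span F (Set.range S.e) := S.span_top ▸ trivial
  obtain ⟨g, hg⟩ := (Submodule.mem_span_range_iff_exists_fun F).1 hX
  refine ⟨g 0, ?_⟩
  have hz : ∀ b, b ≠ 0 → g b = 0 := by
    intro b hb
    obtain ⟨a, ha⟩ := S.exists_ω_one hb
    have h1 := S.coef_eq hg (c := 1) (by rw [one_smul]; exact h a) b
    rw [S.ω_comm a b, ha, sgn_one] at h1
    have h2 : (2 : F) * g b = 0 := by linear_combination h1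
    exact (mul_eq_zero.1 h2).resolve_left S.two_ne
  rw [← hg, Finset.sum_eq_single 0 (fun b _ hb => by rw [hz b hb, zero_smul]) (by simp), S.e_zero]

/-! ### The normaliser up to scalars -/

/-- `g` permutes the lines of the monomials -/
def Norm (g : GL ι F) : Prop := ∀ a, ∃ (b : A) (c : F), (g : Matrix ι ι F) * S.e a = c • (S.e b * (g : Matrix ι ι F))

theorem Norm.coef_ne {g : GL ι F} {a b : A} {c : F}
    (h : (g : Matrix ι ι F) * S.e a = c • (S.e b * (g : Matrix ι ι F))) : c ≠ 0 := by
  rintro rfl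
  rw [zero_smul] at h
  exact S.e_ne_zero a ((Units.mul_right_eq_zero g).1 h)

/-- the image of a vector -/
noncomputable def img (g : GL ι F) (a : A) : A := Classical.epsilon fun b =>
  ∃ c : F, (g : Matrix ι ι F) * S.e a = c • (S.e b * (g : Matrix ι ι F))

variable {S}

theorem Norm.img_spec {g : GL ι F} (hg : S.Norm g) (a : A) : ∃ c : F, c ≠ 0 ∧
    (g : Matrix ι ι F) * S.e a = c • (S.e (S.img g a) * (g : Matrix ι ι F)) := by
  obtain ⟨c, h⟩ := Classical.epsilon_spec (hg a) (p := fun b => ∃ c : F,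
    (g : Matrix ι ι F) * S.e a = c • (S.e b * (g : Matrix ι ι F)))
  exact ⟨c, Norm.coef_ne S h, h⟩

theorem img_eq {g : GL ι F} {a b : A} {c : F}
    (h : (g : Matrix ι ι F) * S.e a = c • (S.e b * (g : Matrix ι ι F))) : S.img g a = b := by
  obtain ⟨c', h'⟩ := Classical.epsilon_spec (p := fun b => ∃ c : F,
    (g : Matrix ι ι F) * S.e a = c • (S.e b * (g : Matrix ι ι F))) ⟨b, c, h⟩
  have e : c' • S.e (S.img g a) = c • S.e b := by
    refine (Units.mul_left_inj g).1 ?_
    rw [Matrix.smul_mul, Matrix.smul_mul]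
    exact h'.symm.trans h
  exact (S.smul_e_inj (Norm.coef_ne S h') e).1

theorem Norm.one : S.Norm 1 := fun a => ⟨a, 1, by simp⟩

theorem Norm.mul {g h : GL ι F} (hg : S.Norm g) (hh : S.Norm h) : S.Norm (g * h) := fun a => by
  obtain ⟨b, c, e⟩ := hh a
  obtain ⟨b', c', e'⟩ := hg b
  refine ⟨b', c * c', ?_⟩
  rw [Units.val_mul, mul_assoc, e, Matrix.mul_smul, ← mul_assoc, e', Matrix.smul_mul, smul_smul, mul_assoc]

theorem img_mul {g h : GL ι F} (hg : S.Norm g) (hh : S.Norm h) (a : A) :
    S.img (g * h) a = S.img g (S.img h a) := by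
  obtain ⟨c, -, e⟩ := hh.img_spec a
  obtain ⟨c', -, e'⟩ := hg.img_spec (S.img h a)
  refine img_eq (c := c * c') ?_
  rw [Units.val_mul, mul_assoc, e, Matrix.mul_smul, ← mul_assoc, e', Matrix.smul_mul, smul_smul, mul_assoc]

@[simp] theorem img_one (a : A) : S.img 1 a = a := img_eq (c := 1) (by simp)

theorem Norm.img_inj {g : GL ι F} (hg : S.Norm g) {a b : A} (h : S.img g a = S.img g b) : a = b := by
  obtain ⟨c, hc, e⟩ := hg.img_spec a
  obtain ⟨d, hd, e'⟩ := hg.img_spec b
  rw [← h] at e'
  have : d • S.e a = c • S.e b := by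
    refine (Units.mul_right_inj g).1 ?_
    rw [Matrix.mul_smul, Matrix.mul_smul, e, e', smul_smul, smul_smul, mul_comm]
  exact (S.smul_e_inj hd this).1

theorem Norm.inv {g : GL ι F} (hg : S.Norm g) : S.Norm g⁻¹ := fun b => by
  obtain ⟨a, rfl⟩ := (Finite.injective_iff_surjective.1 fun x y => hg.img_inj) b
  obtain ⟨c, hc, e⟩ := hg.img_spec a
  refine ⟨a, c⁻¹, ?_⟩
  have e1 : S.e (S.img g a) * (g : Matrix ι ι F) = c⁻¹ • ((g : Matrix ι ι F) * S.e a) := by
    rw [e, smul_smul, inv_mul_cancel₀ hc, one_smul]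
  calc (↑g⁻¹ : Matrix ι ι F) * S.e (S.img g a)
      = (↑g⁻¹ : Matrix ι ι F) * (S.e (S.img g a) * (g : Matrix ι ι F)) * (↑g⁻¹ : Matrix ι ι F) := by
        rw [mul_assoc, mul_assoc (S.e _), ← Units.val_mul, mul_inv_cancel, Units.val_one, mul_one]
    _ = _ := by
      rw [e1, Matrix.mul_smul, Matrix.smul_mul, ← mul_assoc, ← Units.val_mul, inv_mul_cancel, Units.val_one, one_mul]

variable (S)

/-- the normaliser up to scalars, as a subgroup -/
def norm : Subgroup (GL ι F) where
  carrier := {g | S.Norm g}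
  one_mem' := Norm.one
  mul_mem' := Norm.mul
  inv_mem' := Norm.inv

theorem mem_norm {g : GL ι F} : g ∈ S.norm ↔ S.Norm g := Iff.rfl

theorem u_mul_e (v a : A) : (S.u v : Matrix ι ι F) * S.e a = sgn F (S.ω v a) • (S.e a * (S.u v : Matrix ι ι F)) :=
  S.e_comm v a

theorem u_mem (v : A) : S.Norm (S.u v) := fun a => ⟨a, _, S.u_mul_e v a⟩

theorem img_u (v a : A) : S.img (S.u v) a = a := img_eq (S.u_mul_e v a)

variable {S}

theorem Norm.img_add {g : GL ι F} (hg : S.Norm g) (a b : A) : S.img g (a + b) = S.img g a + S.img g b := by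
  obtain ⟨c, -, e⟩ := hg.img_spec a
  obtain ⟨d, -, e'⟩ := hg.img_spec b
  refine img_eq (c := sgn F (S.β a b) * (c * d) * sgn F (S.β (S.img g a) (S.img g b))) ?_
  have h0 : S.e (a + b) = sgn F (S.β a b) • (S.e a * S.e b) := by
    rw [S.e_mul, smul_smul, sgn_mul_self, one_smul]
  rw [h0, Matrix.mul_smul, ← mul_assoc, e, Matrix.smul_mul, mul_assoc, e', Matrix.mul_smul, ← mul_assoc, S.e_mul,
    Matrix.smul_mul, smul_smul, smul_smul, smul_smul]
  congr 1
  ring

theorem Norm.img_zero {g : GL ι F} (hg : S.Norm g) : S.img g 0 = 0 := by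
  have := hg.img_add 0 0
  rwa [add_zero, left_eq_add] at this

theorem Norm.img_ω {g : GL ι F} (hg : S.Norm g) (a b : A) : S.ω (S.img g a) (S.img g b) = S.ω a b := by
  obtain ⟨c, hc, e⟩ := hg.img_spec a
  obtain ⟨d, hd, e'⟩ := hg.img_spec b
  have h1 : (g : Matrix ι ι F) * (S.e a * S.e b) = (c * d) • (S.e (S.img g a) * S.e (S.img g b) * g) := by
    rw [← mul_assoc, e, Matrix.smul_mul, mul_assoc, e', Matrix.mul_smul, smul_smul, ← mul_assoc]
  have h2 : (g : Matrix ι ι F) * (S.e b * S.e a) = (d * c) • (S.e (S.img g b) * S.e (S.img g a) * g) := by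
    rw [← mul_assoc, e', Matrix.smul_mul, mul_assoc, e, Matrix.mul_smul, smul_smul, ← mul_assoc]
  rw [S.e_comm a b, Matrix.mul_smul, h2, S.e_comm (S.img g a), Matrix.smul_mul, smul_smul, smul_smul] at h1
  by_contra hne
  have h3 : sgn F (S.ω a b) * (d * c) - c * d * sgn F (S.ω (S.img g a) (S.img g b)) = 0 := by
    refine (smul_eq_zero.1 (show _ • (S.e (S.img g b) * S.e (S.img g a) * (g : Matrix ι ι F)) = 0 by
      rw [sub_smul, h1, sub_self])).resolve_right ?_
    intro h0
    rw [S.e_mul, Matrix.smul_mul, smul_eq_zero] at h0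
    exact S.e_ne_zero _ ((Units.mul_left_eq_zero g).1 (h0.resolve_left (sgn_ne_zero _)))
  refine hne (sgn_inj S.two_ne (mul_left_cancel₀ (mul_ne_zero hc hd) ?_))
  linear_combination -h3

/-- an element with trivial image is a monomial up to a scalar -/
theorem Norm.eq_e {g : GL ι F} (hg : S.Norm g) (h : ∀ a, S.img g a = a) :
    ∃ (v : A) (c : F), c ≠ 0 ∧ (g : Matrix ι ι F) = c • S.e v := by
  have hX : (g : Matrix ι ι F) ∈ Submodule.span F (Set.range S.e) := S.span_top ▸ trivial
  obtain ⟨co, hco⟩ := (Submodule.mem_span_range_iff_exists_fun F).1 hX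
  obtain ⟨v, hv⟩ : ∃ v, co v ≠ 0 := by
    have := S.nonempty
    by_contra hc
    push Not at hc
    exact g.ne_zero (by rw [← hco]; simp [hc])
  refine ⟨v, co v, hv, ?_⟩
  have hz : ∀ w, w ≠ v → co w = 0 := by
    intro w hw
    by_contra hne
    obtain ⟨a, ha⟩ := S.exists_ω_one (show w + v ≠ 0 from fun e => hw (eq_of_add_zero e))
    obtain ⟨c, -, e⟩ := hg.img_spec a
    rw [h a] at e
    have key : ∀ x, co x ≠ 0 → sgn F (S.ω x a) = c := by
      intro x hx
      have h1 : c * sgn F (S.ω a x) = 1 :=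
        mul_right_cancel₀ hx (by rw [one_mul, mul_assoc]; exact (S.coef_eq hco e x).symm)
      rw [S.ω_comm x a, ← mul_one (sgn F (S.ω a x)), ← h1, mul_comm c, ← mul_assoc, sgn_mul_self, one_mul]
    have e1 := key w hne
    rw [← key v hv] at e1
    have e2 := sgn_inj S.two_ne e1
    rw [map_add, LinearMap.add_apply, e2, CharTwo.add_self_eq_zero] at ha
    exact one_ne_zero ha.symm
  rw [← hco, Finset.sum_eq_single v (fun b _ hb => by rw [hz b hb, zero_smul]) (by simp)]

/-- the image as a linear map -/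
noncomputable def Norm.lin {g : GL ι F} (hg : S.Norm g) : A →ₗ[ZMod 2] A :=
  (AddMonoidHom.mk' (S.img g) hg.img_add).toZModLinearMap 2

@[simp] theorem Norm.lin_apply {g : GL ι F} (hg : S.Norm g) (a : A) : hg.lin a = S.img g a := rfl

end Sys

end Cfsg.Agent.Forms.Max.TwoGroup
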