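import Cfsg.Agent.Lib.Forms.Max.TwoGroup.Generators
import Cfsg.Prelude.Def_GeometricClasses

/-!
# Maximality in the complex kind from the dichotomy

The normalising isometries of determinant one form a maximal subgroup of the determinant one isometries from three
qubits on: adjoining the scalar isometries brings an overgroup into the range of the dichotomy.
-/

set_option autoImplicit false
set_option linter.unusedSectionVars false

namespace Cfsg.Agent.Forms.Max.TwoGroup

open Matrix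

variable {A ι F : Type*} [AddCommGroup A] [Module (ZMod 2) A] [Fintype A] [Field F] [Fintype F] [Fintype ι]
  [DecidableEq ι]

/-- the scalar isometries -/
def scalIso (σ : F →+* F) (Φ : Matrix ι ι F) : Subgroup (GL ι F) :=
  isoGrp σ Φ ⊓ (Units.map (Matrix.scalar ι : F →+* Matrix ι ι F).toMonoidHom).range

theorem mem_scalIso {σ : F →+* F} {Φ : Matrix ι ι F} {z : GL ι F} (hz : z ∈ isoGrp σ Φ) {c : F}
    (he : z.val = c • 1) : z ∈ scalIso σ Φ := by
  refine ⟨hz, ?_⟩
  rcases isEmpty_or_nonempty ι with h | h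
  · exact ⟨1, Units.ext (Subsingleton.elim _ _)⟩
  · have hc : c ≠ 0 := fun e => z.ne_zero (by rw [he, e, zero_smul])
    exact ⟨Units.mk0 c hc, Units.ext (by rw [he]; simp [smul_one_eq_diagonal])⟩

theorem scalIso_normal {σ : F →+* F} {Φ : Matrix ι ι F} {z : GL ι F} (hz : z ∈ scalIso σ Φ) (g : GL ι F) :
    g * z = z * g := by
  obtain ⟨c, rfl⟩ := (Subgroup.mem_inf.1 hz).2
  refine Units.ext ?_
  simp [← Matrix.smul_one_eq_diagonal]

namespace Sys

variable (S : Sys A ι F) {σ : F →+* F} {Φ : Matrix ι ι F}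

theorem scalIso_le_norm : scalIso σ Φ ≤ S.norm := fun _ hz a =>
  ⟨a, 1, by
    rw [one_smul, ← S.u_val a, ← Units.val_mul, ← Units.val_mul, scalIso_normal hz]⟩

/-- not all of the determinant one isometries normalise -/
theorem norm_inf_big_lt (hk : Cx σ Φ) (hu : ∀ a, S.u a ∈ isoGrp σ Φ) (hA : 16 ≤ Fintype.card A) :
    S.norm ⊓ big σ Φ < big σ Φ := by
  refine lt_of_le_of_ne inf_le_right fun heq => ?_
  have hle : big σ Φ ≤ S.norm := heq ▸ inf_le_left
  have hn : 3 ≤ Fintype.card ι := by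
    have := S.card_eq
    nlinarith
  -- the monomials up to scalars would contain every determinant one isometry
  let L : Subgroup (GL ι F) :=
    { carrier := {g | S.Norm g ∧ ∀ a, S.img g a = a}
      one_mem' := ⟨Norm.one, img_one⟩
      mul_mem' := fun hg hh => ⟨hg.1.mul hh.1, fun a => by rw [img_mul hg.1 hh.1, hh.2, hg.2]⟩
      inv_mem' := fun {g} hg => ⟨hg.1.inv, fun a => by
        conv_lhs => rw [← hg.2 a]
        rw [← img_mul hg.1.inv hg.1, inv_mul_cancel, img_one]⟩ }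
  obtain ⟨a, b, hab⟩ : ∃ a b, S.ω a b = 1 := by
    obtain ⟨a, ha⟩ := Fintype.exists_ne_of_one_lt_card (show 1 < Fintype.card A by omega) 0
    exact ⟨a, S.exists_ω_one ha⟩
  have ha0 : a ≠ 0 := fun e => by rw [e, map_zero, LinearMap.zero_apply] at hab; exact zero_ne_one hab
  obtain ⟨μ, x, hx, hxe, hμ⟩ := S.exists_big_e hk hu ha0
  have hxL : x ∈ L := by
    have e : ∀ z, x.val * S.e z = sgn F (S.ω a z) • (S.e z * x.val) := fun z => by
      rw [hxe, Matrix.smul_mul, S.e_comm, Matrix.mul_smul, smul_comm]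
    exact ⟨fun z => ⟨z, _, e z⟩, fun z => img_eq (e z)⟩
  have hbig : big σ Φ ≤ L := hk.big_le_of_normal hn L (fun g hg y hy => by
    have hgn : S.Norm g := hle hg
    refine ⟨(hgn.mul hy.1).mul hgn.inv, fun z => ?_⟩
    rw [img_mul (hgn.mul hy.1) hgn.inv, img_mul hgn hy.1, hy.2, ← img_mul hgn hgn.inv, mul_inv_cancel, img_one])
    hxL hx fun c => by
      rw [hxe]
      exact S.e_ne_scalar ha0 (fun e => by rw [e] at hμ; simp at hμ) c
  obtain ⟨g, hg, hgi⟩ := S.exists_adjacent hk hu hab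
  have h1 := (hbig hg.1).2 a
  rw [hgi] at h1
  simp only [τ, map_add, S.ω_self, S.ω_comm b a, hab, one_smul, zero_add] at h1
  refine ha0 ?_
  have h2 : a + b + a = a := h1
  rw [add_right_comm, add_self_zero, zero_add] at h2
  rw [← h2] at hab ⊢
  exact absurd (S.ω_self b ▸ hab) zero_ne_one

/-- maximality -/
theorem isMaximalIn_of_dich (hk : Cx σ Φ) (hu : ∀ a, S.u a ∈ isoGrp σ Φ) (hA : 64 ≤ Fintype.card A)
    (hD : S.Dich σ Φ) : Cfsg.Geo.IsMaximalIn (big σ Φ) (S.norm ⊓ big σ Φ) := by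
  refine ⟨S.norm_inf_big_lt hk hu (by omega), fun M hM hMK => ?_⟩
  -- adjoining the scalar isometries
  let H : Subgroup (GL ι F) :=
    { carrier := {g | ∃ m ∈ M, ∃ z ∈ scalIso σ Φ, g = m * z}
      one_mem' := ⟨1, M.one_mem, 1, Subgroup.one_mem _, (one_mul 1).symm⟩
      mul_mem' := by
        rintro _ _ ⟨m, hm, z, hz, rfl⟩ ⟨m', hm', z', hz', rfl⟩
        refine ⟨m * m', M.mul_mem hm hm', z * z', Subgroup.mul_mem _ hz hz', ?_⟩
        rw [mul_assoc, ← mul_assoc z, ← scalIso_normal hz, mul_assoc m' z, ← mul_assoc m m']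
      inv_mem' := by
        rintro _ ⟨m, hm, z, hz, rfl⟩
        exact ⟨m⁻¹, M.inv_mem hm, z⁻¹, Subgroup.inv_mem _ hz,
          by rw [_root_.mul_inv_rev, scalIso_normal (Subgroup.inv_mem _ hz)]⟩ }
  have hge : isoGrp σ Φ ⊓ S.norm ≤ H := fun g hg => by
    obtain ⟨b, z, c, hb, hz, hzc, rfl⟩ := S.exists_scal_of_norm hk hu hA hg
    exact ⟨b, hM ⟨hb.2, hb.1⟩, z, mem_scalIso hz hzc, rfl⟩
  have hle : H ≤ isoGrp σ Φ := by
    rintro _ ⟨m, hm, z, hz, rfl⟩
    exact Subgroup.mul_mem _ (mem_big.1 (hMK hm)).1 (Subgroup.mem_inf.1 hz).1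
  have hMH : M ≤ H := fun m hm => ⟨m, hm, 1, Subgroup.one_mem _, (mul_one m).symm⟩
  rcases hD H hge hle with h | h
  · exact Or.inl (le_antisymm (le_inf (hMH.trans h) hMK) hM)
  · refine Or.inr (le_antisymm hMK fun g hg => ?_)
    obtain ⟨m, hm, z, hz, rfl⟩ := h hg
    have hzb : z ∈ big σ Φ := by
      have := Subgroup.mul_mem _ (Subgroup.inv_mem _ (hMK hm)) hg
      rwa [inv_mul_cancel_left] at this
    exact M.mul_mem hm (hM ⟨S.scalIso_le_norm hz, hzb⟩)

end Sys

end Cfsg.Agent.Forms.Max.TwoGroup
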