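import Cfsg.Agent.Lib.Forms.Max.TwoGroup.Setting

/-!
# The centraliser condition controls the whole group

An element of `H` carrying one monomial into the normaliser normalises. With one pair involution this puts `H` into
the normaliser.
-/

set_option autoImplicit false
set_option linter.unusedSectionVars false

namespace Cfsg.Agent.Forms.Max.TwoGroup

open Matrix

namespace Sys

variable {A ι F : Type*} [AddCommGroup A] [Module (ZMod 2) A] [Fintype A] [Field F] [Fintype ι] [DecidableEq ι]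

/-- the conjugate of a monomial -/
def cj (S : Sys A ι F) (h : GL ι F) (b : A) : GL ι F := h * S.u b * h⁻¹

variable {S : Sys A ι F}

theorem carries_iff {g : GL ι F} {x y : A} {c : F} :
    S.Carries g x y c ↔ ((g * S.u x * g⁻¹ : GL ι F) : Matrix ι ι F) = c • S.e y := by
  show (g : Matrix ι ι F) * S.e x = c • (S.e y * (g : Matrix ι ι F)) ↔ _
  rw [Units.val_mul, Units.val_mul, u_val]
  constructor
  · intro h
    rw [h, Matrix.smul_mul, mul_assoc, ← Units.val_mul, mul_inv_cancel, Units.val_one, mul_one]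
  · intro h
    rw [← Matrix.smul_mul, ← h, mul_assoc _ _ (g : Matrix ι ι F), ← Units.val_mul, inv_mul_cancel, Units.val_one,
      mul_one]

theorem Carries.ne_zero {g : GL ι F} {x y : A} {c : F} (h : S.Carries g x y c) : c ≠ 0 := Norm.coef_ne S h

theorem Carries.mul {g k : GL ι F} {x y z : A} {c d : F} (h : S.Carries k x y c) (h' : S.Carries g y z d) :
    S.Carries (g * k) x z (c * d) := by
  show ((g * k : GL ι F) : Matrix ι ι F) * S.e x = _
  rw [Units.val_mul, mul_assoc, (show (k : Matrix ι ι F) * S.e x = _ from h), Matrix.mul_smul, ← mul_assoc,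
    (show (g : Matrix ι ι F) * S.e y = _ from h'), Matrix.smul_mul, smul_smul, mul_assoc]

theorem Carries.inv {g : GL ι F} {x y : A} {c : F} (h : S.Carries g x y c) : S.Carries g⁻¹ y x c⁻¹ := by
  have h1 := carries_iff.1 h
  refine carries_iff.2 ?_
  rw [inv_inv]
  calc ((g⁻¹ * S.u y * g : GL ι F) : Matrix ι ι F)
      = ((g⁻¹ : GL ι F) : Matrix ι ι F) * (c⁻¹ • (c • S.e y)) * (g : Matrix ι ι F) := by
        rw [Units.val_mul, Units.val_mul, u_val, smul_smul, inv_mul_cancel₀ h.ne_zero, one_smul]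
    _ = c⁻¹ • ((g⁻¹ * (g * S.u x * g⁻¹) * g : GL ι F) : Matrix ι ι F) := by
        rw [Units.val_mul (g⁻¹ * (g * S.u x * g⁻¹)), Units.val_mul g⁻¹, h1, Matrix.mul_smul, Matrix.smul_mul]
    _ = _ := by rw [show g⁻¹ * (g * S.u x * g⁻¹) * g = S.u x by group, u_val]

theorem Carries.zero_right {g : GL ι F} {x : A} {c : F} (h : S.Carries g x 0 c) : x = 0 := by
  have h1 : (g : Matrix ι ι F) * S.e x = c • (S.e 0 * (g : Matrix ι ι F)) := h
  rw [S.e_zero, one_mul] at h1
  refine S.inj (c := c) ((Units.mul_right_inj g).1 ?_)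
  rw [h1, S.e_zero, Matrix.mul_smul, mul_one]

theorem cj_val_add (h : GL ι F) (a b : A) :
    ((S.cj h a * S.cj h b : GL ι F) : Matrix ι ι F) = sgn F (S.β a b) • (S.cj h (a + b) : Matrix ι ι F) := by
  rw [show S.cj h a * S.cj h b = h * (S.u a * S.u b) * h⁻¹ by rw [cj, cj]; group]
  simp only [cj, Units.val_mul, u_val, S.e_mul, Matrix.mul_smul, Matrix.smul_mul]

/-- conjugating a monomial by a normalising conjugate -/
theorem cj_cj_carries {h : GL ι F} {b x y : A} {c : F} (hc : S.Carries (S.cj h b) x y c) :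
    ∀ b' d, S.Carries (S.cj h⁻¹ x) b b' d → ∃ k, S.Carries h (b + b') (x + y) k := by
  intro b' d hd
  have e1 := carries_iff.1 hc
  have e2 := carries_iff.1 hd
  have key : S.cj h b * S.u x * (S.cj h b)⁻¹ * (S.u x)⁻¹ =
      h * (S.u b * (S.cj h⁻¹ x * (S.u b)⁻¹ * (S.cj h⁻¹ x)⁻¹)) * h⁻¹ := by
    simp only [cj, _root_.mul_inv_rev, inv_inv]; group
  set w := S.cj h⁻¹ x * S.u b * (S.cj h⁻¹ x)⁻¹ with hw
  have e3 : S.cj h⁻¹ x * (S.u b)⁻¹ * (S.cj h⁻¹ x)⁻¹ = w⁻¹ := by rw [hw]; group
  have hw' : ((w⁻¹ : GL ι F) : Matrix ι ι F) = (d⁻¹ * sgn F (S.q b')) • S.e b' := by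
    refine left_inv_eq_right_inv (Units.inv_mul w) ?_
    rw [e2, Matrix.smul_mul, Matrix.mul_smul, S.e_sq, smul_smul, smul_smul,
      show d * (d⁻¹ * sgn F (S.q b')) * sgn F (S.q b') = 1 by
        rw [← mul_assoc, mul_assoc, sgn_mul_self, mul_one, mul_inv_cancel₀ hd.ne_zero], one_smul]
  have L : ((S.cj h b * S.u x * (S.cj h b)⁻¹ * (S.u x)⁻¹ : GL ι F) : Matrix ι ι F) =
      (c * sgn F (S.q x) * sgn F (S.β y x)) • S.e (y + x) := by
    rw [Units.val_mul, e1, u_inv_val, Matrix.smul_mul, Matrix.mul_smul, S.e_mul, smul_smul, smul_smul]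
  rw [key, e3, Units.val_mul, Units.val_mul, Units.val_mul (S.u b), hw', u_val, Matrix.mul_smul, S.e_mul,
    smul_smul, Matrix.mul_smul, Matrix.smul_mul] at L
  set p := d⁻¹ * sgn F (S.q b') * sgn F (S.β b b') with hp
  have hp0 : p ≠ 0 := mul_ne_zero (mul_ne_zero (inv_ne_zero hd.ne_zero) (sgn_ne_zero _)) (sgn_ne_zero _)
  refine ⟨p⁻¹ * (c * sgn F (S.q x) * sgn F (S.β y x)), carries_iff.2 ?_⟩
  rw [Units.val_mul, Units.val_mul, u_val, add_comm x y, ← smul_smul, ← L, smul_smul, inv_mul_cancel₀ hp0, one_smul]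

variable {cls : A → ZMod 2} {H : Subgroup (GL ι F)}

theorem Setting.cj_mem (hS : S.Setting cls H) {h : GL ι F} (hh : h ∈ H) (b : A) : S.cj h b ∈ H :=
  H.mul_mem (H.mul_mem hh (hS.u_mem b)) (H.inv_mem hh)

/-- an element of `H` carrying one monomial to a monomial normalises -/
theorem Setting.norm_of_line (hS : S.Setting cls H) {h : GL ι F} (hh : h ∈ H) {x y : A} {c : F} (hx : x ≠ 0)
    (hc : S.Carries h x y c) : S.Norm h := by
  have hy : y ≠ 0 := fun e => hx (Carries.zero_right (e ▸ hc))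
  obtain ⟨n, hn, hnn, hni⟩ := hS.trans y x hy hx (hS.carry h hh x y c hc).symm
  obtain ⟨d, -, hd⟩ := hnn.img_spec y
  rw [hni] at hd
  have := hnn.inv.mul (hS.cent x hx (n * h) (H.mul_mem hn hh) ⟨c * d, hc.mul hd⟩)
  rwa [inv_mul_cancel_left] at this

/-- the vectors whose conjugates normalise -/
def tset (S : Sys A ι F) (h : GL ι F) : Submodule (ZMod 2) A where
  carrier := {b | S.Norm (S.cj h b)}
  add_mem' {a b} ha hb := fun x => by
    obtain ⟨y, c, hc⟩ := Norm.mul ha hb x
    refine ⟨y, c, ?_⟩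
    have h1 : (S.cj h (a + b) : Matrix ι ι F) = sgn F (S.β a b) • ((S.cj h a * S.cj h b : GL ι F) : Matrix ι ι F) := by
      rw [S.cj_val_add, smul_smul, sgn_mul_self, one_smul]
    rw [h1, Matrix.smul_mul, hc, smul_smul, Matrix.mul_smul, smul_smul, mul_comm]
  zero_mem' := fun x => ⟨x, 1, by simp [cj, S.e_zero]⟩
  smul_mem' r b hb := by
    rcases z2_cases r with rfl | rfl
    · rw [zero_smul]; exact fun x => ⟨x, 1, by simp [cj, S.e_zero]⟩
    · rwa [one_smul]

theorem mem_tset {h : GL ι F} {b : A} : b ∈ S.tset h ↔ S.Norm (S.cj h b) := Iff.rfl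

theorem img_cj_add {h : GL ι F} {a b : A} (ha : a ∈ S.tset h) (hb : b ∈ S.tset h) (x : A) :
    S.img (S.cj h (a + b)) x = S.img (S.cj h a) (S.img (S.cj h b) x) := by
  obtain ⟨c, -, hc⟩ := (Norm.mul (mem_tset.1 ha) (mem_tset.1 hb)).img_spec x
  rw [← img_mul (mem_tset.1 ha) (mem_tset.1 hb)]
  refine img_eq (c := c) ?_
  have h1 : (S.cj h (a + b) : Matrix ι ι F) = sgn F (S.β a b) • ((S.cj h a * S.cj h b : GL ι F) : Matrix ι ι F) := by
    rw [S.cj_val_add, smul_smul, sgn_mul_self, one_smul]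
  rw [h1, Matrix.smul_mul, hc, smul_smul, Matrix.mul_smul, smul_smul, mul_comm]

theorem img_cj_invol {h : GL ι F} {b : A} (hb : b ∈ S.tset h) (x : A) :
    S.img (S.cj h b) (S.img (S.cj h b) x) = x := by
  rw [← img_cj_add hb hb, add_self_zero]
  exact img_eq (c := 1) (by simp [cj, S.e_zero])

/-- the configuration of an element outside the normaliser -/
structure Bad (S : Sys A ι F) (cls : A → ZMod 2) (H : Subgroup (GL ι F)) (h : GL ι F) : Prop where
  hS : S.Setting cls H
  mem : h ∈ H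
  w0 : ∀ (x y : A) (c : F), S.Carries h x y c → x = 0

namespace Bad

variable {h : GL ι F}

theorem symm (B : S.Bad cls H h) : S.Bad cls H h⁻¹ :=
  ⟨B.hS, H.inv_mem B.mem, fun x y c hc => by
    have h1 := hc.inv
    rw [inv_inv] at h1
    obtain rfl := B.w0 y x _ h1
    exact Carries.zero_right hc⟩

theorem mem_of_fix (B : S.Bad cls H h) {b x : A} (hb : b ∈ S.tset h) (hb0 : b ≠ 0)
    (hx : S.img (S.cj h b) x = x) : x ∈ S.tset h⁻¹ := by
  obtain ⟨c, hc0, hc⟩ := (mem_tset.1 hb).img_spec x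
  rw [hx] at hc
  have e : ((S.cj h b * S.u x * (S.cj h b)⁻¹ : GL ι F) : Matrix ι ι F) = c • S.e x := carries_iff.1 hc
  refine B.hS.cent b hb0 _ (B.hS.cj_mem (H.inv_mem B.mem) x) ⟨c⁻¹, ?_⟩
  have h1 : ((S.cj h b * S.u x : GL ι F) : Matrix ι ι F) = c • ((S.u x * S.cj h b : GL ι F) : Matrix ι ι F) := by
    rw [Units.val_mul, Units.val_mul, u_val]
    exact hc
  have h2 : ((S.u b * S.cj h⁻¹ x : GL ι F) : Matrix ι ι F) = c • ((S.cj h⁻¹ x * S.u b : GL ι F) : Matrix ι ι F) := by
    rw [show S.u b * S.cj h⁻¹ x = h⁻¹ * (S.cj h b * S.u x) * h by simp only [cj, inv_inv]; group,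
      show S.cj h⁻¹ x * S.u b = h⁻¹ * (S.u x * S.cj h b) * h by simp only [cj, inv_inv]; group,
      Units.val_mul (h⁻¹ * (S.cj h b * S.u x)), Units.val_mul h⁻¹, h1, Units.val_mul (h⁻¹ * (S.u x * S.cj h b)),
      Units.val_mul h⁻¹, Matrix.mul_smul, Matrix.smul_mul]
  show ((S.cj h⁻¹ x : GL ι F) : Matrix ι ι F) * S.e b = c⁻¹ • (S.e b * _)
  rw [Units.val_mul, Units.val_mul, u_val] at h2
  rw [h2, smul_smul, inv_mul_cancel₀ hc0, one_smul]

theorem fixed (B : S.Bad cls H h) {b x : A} (hb : b ∈ S.tset h) (hx : x ∈ S.tset h⁻¹) :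
    S.img (S.cj h b) x = x := by
  obtain ⟨c, -, hc⟩ := (mem_tset.1 hb).img_spec x
  obtain ⟨d, -, hd⟩ := (mem_tset.1 hx).img_spec b
  obtain ⟨k, hk⟩ := cj_cj_carries hc _ _ hd
  have h0 := B.w0 _ _ _ hk
  rw [h0] at hk
  have h1 := hk.inv.zero_right
  exact (eq_of_add_zero h1).symm

/-- the image of `σ + 1` -/
noncomputable def dlin {g : GL ι F} (hg : S.Norm g) : A →ₗ[ZMod 2] A := hg.lin + LinearMap.id

theorem dlin_apply {g : GL ι F} (hg : S.Norm g) (a : A) : dlin hg a = S.img g a + a := rfl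

omit [DecidableEq ι] in
theorem isRefl_aux {B : LinearMap.BilinForm (ZMod 2) A} (hsymm : ∀ a b, B a b = B b a) : B.IsRefl :=
  fun a b e => by rw [hsymm, e]

theorem isRefl (S : Sys A ι F) : (S.ω).IsRefl := isRefl_aux S.ω_comm

theorem nondegenerate (S : Sys A ι F) : (S.ω).Nondegenerate :=
  ⟨fun _ h => S.ω_nondeg h, fun _ h => S.ω_nondeg fun b => by rw [S.ω_comm]; exact h b⟩

theorem perp_eq_range (B : S.Bad cls H h) {b : A} (hb : b ∈ S.tset h) (hb0 : b ≠ 0) :
    (S.ω).orthogonal (S.tset h⁻¹) = LinearMap.range (dlin (mem_tset.1 hb)) := by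
  have e : S.tset h⁻¹ = (S.ω).orthogonal (LinearMap.range (dlin (mem_tset.1 hb))) := by
    ext x
    rw [LinearMap.BilinForm.mem_orthogonal_iff]
    constructor
    · rintro hx _ ⟨y, rfl⟩
      rw [dlin_apply, map_add, LinearMap.add_apply]
      nth_rewrite 1 [← B.fixed hb hx]
      rw [(mem_tset.1 hb).img_ω, CharTwo.add_self_eq_zero]
    · intro hx
      refine B.mem_of_fix hb hb0 (eq_of_add_zero (S.ω_nondeg fun y => ?_))
      have h1 := hx _ ⟨S.img (S.cj h b) y, rfl⟩
      rw [dlin_apply, img_cj_invol hb, map_add, LinearMap.add_apply, S.ω_comm _ x, S.ω_comm _ x] at h1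
      rw [map_add, LinearMap.add_apply, ← h1]
      nth_rewrite 1 [← img_cj_invol hb y]
      rw [(mem_tset.1 hb).img_ω, add_comm]
  rw [e, LinearMap.BilinForm.orthogonal_orthogonal (nondegenerate S) (isRefl S)]

theorem perp_le (B : S.Bad cls H h) {b : A} (hb : b ∈ S.tset h) (hb0 : b ≠ 0) :
    (S.ω).orthogonal (S.tset h⁻¹) ≤ S.tset h⁻¹ := by
  rw [B.perp_eq_range hb hb0]
  rintro _ ⟨y, rfl⟩
  refine B.mem_of_fix hb hb0 ?_
  rw [dlin_apply, (mem_tset.1 hb).img_add, img_cj_invol hb, add_comm]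

theorem rank_le (B : S.Bad cls H h) {b : A} (hb : b ∈ S.tset h) (hb0 : b ≠ 0) :
    Module.finrank (ZMod 2) ↥(S.tset h) ≤ Module.finrank (ZMod 2) ↥((S.ω).orthogonal (S.tset h⁻¹)) := by
  obtain ⟨y, hy⟩ : ∃ y, y ∉ S.tset h⁻¹ := by
    by_contra hall
    push Not at hall
    obtain ⟨v, c, -, hv⟩ := (mem_tset.1 hb).eq_e fun x => B.fixed hb (hall x)
    exact hb0 (B.w0 b v c (carries_iff.2 hv))
  have hmem : ∀ b' : ↥(S.tset h), S.img (S.cj h b') y + y ∈ (S.ω).orthogonal (S.tset h⁻¹) := by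
    intro b'
    by_cases h0 : (b' : A) = 0
    · rw [h0, show S.img (S.cj h 0) y = y from img_eq (c := 1) (by simp [cj, S.e_zero]), add_self_zero]
      exact zero_mem _
    · rw [B.perp_eq_range b'.2 h0]
      exact ⟨y, rfl⟩
  have hadd : ∀ a a' : ↥(S.tset h), S.img (S.cj h (a + a' : ↥(S.tset h))) y + y =
      (S.img (S.cj h a) y + y) + (S.img (S.cj h a') y + y) := by
    intro a a'
    have hd := B.perp_le hb hb0 (hmem a')
    have e1 : S.img (S.cj h a') y = y + (S.img (S.cj h a') y + y) := by rw [add_comm _ y, add_add_self]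
    show S.img (S.cj h ((a : A) + a')) y + y = _
    rw [img_cj_add a.2 a'.2]
    nth_rewrite 1 [e1]
    rw [(mem_tset.1 a.2).img_add, B.fixed a.2 hd]
    abel
  let f : ↥(S.tset h) →ₗ[ZMod 2] ↥((S.ω).orthogonal (S.tset h⁻¹)) :=
    (AddMonoidHom.mk' (fun a => (⟨_, hmem a⟩ : ↥((S.ω).orthogonal (S.tset h⁻¹))))
      fun a a' => Subtype.ext (hadd a a')).toZModLinearMap 2
  refine LinearMap.finrank_le_finrank_of_injective (f := f) ?_
  rw [← LinearMap.ker_eq_bot, LinearMap.ker_eq_bot']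
  intro a ha
  by_contra h0
  refine hy (B.mem_of_fix a.2 (fun e => h0 (Subtype.ext e)) (eq_of_add_zero ?_))
  exact congrArg Subtype.val ha

theorem exists_fixed {g : GL ι F} (hg : S.Norm g) (hinv : ∀ x, S.img g (S.img g x) = x) {a : A} (ha : a ≠ 0) :
    ∃ x, x ≠ 0 ∧ S.img g x = x := by
  by_cases e : S.img g a = a
  · exact ⟨a, ha, e⟩
  · exact ⟨S.img g a + a, fun h0 => e (eq_of_add_zero h0), by rw [hg.img_add, hinv, add_comm]⟩

/-- both sets are their own perpendiculars -/
theorem structure_eq (B : S.Bad cls H h) {b : A} (hb : b ∈ S.tset h) (hb0 : b ≠ 0) :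
    (S.ω).orthogonal (S.tset h⁻¹) = S.tset h⁻¹ ∧
      2 * Module.finrank (ZMod 2) ↥(S.tset h) = Module.finrank (ZMod 2) A := by
  obtain ⟨x, hx0, hx⟩ := exists_fixed (mem_tset.1 hb) (img_cj_invol hb) hb0
  have hxT := B.mem_of_fix hb hb0 hx
  have a1 := B.rank_le hb hb0
  have a2 := Submodule.finrank_mono (B.perp_le hb hb0)
  have a3 := B.symm.rank_le hxT hx0
  have a4 := Submodule.finrank_mono (B.symm.perp_le hxT hx0)
  rw [inv_inv] at a3 a4
  have e := Submodule.eq_of_le_of_finrank_le (B.perp_le hb hb0) (by omega)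
  refine ⟨e, ?_⟩
  have h5 := LinearMap.BilinForm.finrank_orthogonal (nondegenerate S) (S.tset h⁻¹)
  have h6 := Submodule.finrank_le (S.tset h⁻¹)
  omega

theorem exists_range (B : S.Bad cls H h) {b c : A} (hb : b ∈ S.tset h) (hb0 : b ≠ 0) (hc : c ∈ S.tset h⁻¹) :
    ∃ y, S.img (S.cj h b) y = y + c := by
  rw [← (B.structure_eq hb hb0).1, B.perp_eq_range hb hb0] at hc
  obtain ⟨y, rfl⟩ := hc
  exact ⟨y, by rw [dlin_apply, add_comm _ y, add_add_self]⟩

/-- the sign of a commuting pair -/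
theorem exists_sign (B : S.Bad cls H h) {b x : A} (hb : b ∈ S.tset h) (hx : x ∈ S.tset h⁻¹) :
    ∃ s : ZMod 2, S.Carries (S.cj h b) x x (sgn F s) := by
  obtain ⟨c, -, hc⟩ := (mem_tset.1 hb).img_spec x
  rw [B.fixed hb hx] at hc
  have h2 : (S.cj h b : Matrix ι ι F) * (S.e x * S.e x) = (c * c) • (S.e x * S.e x * (S.cj h b : Matrix ι ι F)) := by
    rw [← mul_assoc, hc, Matrix.smul_mul, mul_assoc, hc, Matrix.mul_smul, smul_smul, ← mul_assoc]
  rw [S.e_sq, Matrix.mul_smul, mul_one, Matrix.smul_mul, one_mul, smul_smul] at h2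
  have := S.nonempty
  have h3 : (sgn F (S.q x) - c * c * sgn F (S.q x)) • (S.cj h b : Matrix ι ι F) = 0 := by rw [sub_smul, ← h2, sub_self]
  have h4 := (smul_eq_zero.1 h3).resolve_right (S.cj h b).ne_zero
  have h5 : c * c = 1 := mul_right_cancel₀ (sgn_ne_zero (F := F) (S.q x)) (by linear_combination -h4)
  rcases mul_self_eq_one_iff.1 h5 with rfl | rfl
  · exact ⟨0, by rw [sgn_zero]; exact hc⟩
  · exact ⟨1, by rw [sgn_one]; exact hc⟩

theorem carries_add {a b x : A} {s t : F} (hs : S.Carries (S.cj h a) x x s) (ht : S.Carries (S.cj h b) x x t) :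
    S.Carries (S.cj h (a + b)) x x (t * s) := by
  have h1 : (S.cj h (a + b) : Matrix ι ι F) = sgn F (S.β a b) • ((S.cj h a * S.cj h b : GL ι F) : Matrix ι ι F) := by
    rw [S.cj_val_add, smul_smul, sgn_mul_self, one_smul]
  show _ = _
  rw [h1, Matrix.smul_mul, show ((S.cj h a * S.cj h b : GL ι F) : Matrix ι ι F) * S.e x = _ from ht.mul hs,
    smul_smul, Matrix.mul_smul, smul_smul, mul_comm]

theorem carries_unique {g : GL ι F} {x : A} {c d : F} (hc : S.Carries g x x c) (hd : S.Carries g x x d) : c = d := by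
  have h1 := (carries_iff.1 hc).symm.trans (carries_iff.1 hd)
  exact (S.smul_e_inj hc.ne_zero h1).2

/-- the transvection case: one vector commutes with all or with none -/
theorem all_or_none (B : S.Bad cls H h) {g : GL ι F} (hg : g ∈ H) {v : A} (hv : v ≠ 0)
    (hfix : ∀ x, S.ω v x = 0 → S.Carries g x x 1) (hmove : ∀ x, S.img g x = x + S.ω v x • v) (hgn : S.Norm g)
    {b b' : A} (hb0 : b ≠ 0) (hc : S.Carries (S.cj h b) v v 1) (hc' : S.Carries (S.cj h b') v v (-1)) : False := by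
  have hX : (g : Matrix ι ι F) ∈ Submodule.span F (Set.range S.e) := S.span_top ▸ trivial
  obtain ⟨co, hco⟩ := (Submodule.mem_span_range_iff_exists_fun F).1 hX
  obtain ⟨y, hy⟩ := S.exists_ω_one hv
  have hsupp : ∀ z, z ≠ 0 → z ≠ v → co z = 0 := by
    intro z hz0 hzv
    by_contra hne
    have key : ∀ x, S.ω v x = 0 → S.ω z x = 0 := by
      intro x hx
      have h1 := S.coef_eq hco (a := x) (c := 1) (hfix x hx) z
      rcases z2_cases (S.ω x z) with e | e
      · rw [S.ω_comm]; exact e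
      · rw [e, sgn_one] at h1
        exact absurd (mul_eq_zero.1 (show (2 : F) * co z = 0 by linear_combination h1))
          (by simp [S.two_ne, hne])
    rcases z2_cases (S.ω z y) with e | e
    · refine hz0 (S.ω_nondeg fun x => ?_)
      rcases z2_cases (S.ω v x) with f | f
      · exact key x f
      · have := key (x + y) (by rw [map_add, f, hy]; decide)
        rwa [map_add, e, add_zero] at this
    · refine hzv (eq_of_add_zero (S.ω_nondeg fun x => ?_))
      rcases z2_cases (S.ω v x) with f | f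
      · rw [map_add, LinearMap.add_apply, f, key x f, add_zero]
      · have := key (x + y) (by rw [map_add, f, hy]; decide)
        rw [map_add, e] at this
        rw [map_add, LinearMap.add_apply, f]
        exact this
  set α := co 0 with hα
  set β := co v with hβ
  set P := S.e v with hP
  have hgv : (g : Matrix ι ι F) = α • (1 : Matrix ι ι F) + β • P := by
    classical
    rw [← hco, ← Finset.sum_subset (Finset.subset_univ {(0 : A), v}) fun z _ hz => by
      simp only [Finset.mem_insert, Finset.mem_singleton, not_or] at hz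
      rw [hsupp z hz.1 hz.2, zero_smul], Finset.sum_pair (Ne.symm hv), S.e_zero]
  -- the square of `α + β e v`
  have hsq : α * α - β * β * sgn F (S.q v) ≠ 0 ∧ α ≠ 0 ∧ β ≠ 0 ∧ α * α + β * β * sgn F (S.q v) = 0 := by
    obtain ⟨k, hk0, hk⟩ := hgn.img_spec y
    rw [hmove, hy, one_smul, hgv] at hk
    have e2 : S.e (y + v) = sgn F (S.β y v) • (S.e y * P) := by rw [S.e_mul, smul_smul, sgn_mul_self, one_smul]
    have e3 : P * S.e y = -(S.e y * P) := by rw [hP, S.e_comm v y, hy, sgn_one, neg_one_smul]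
    rw [e2, add_mul, Matrix.smul_mul, Matrix.smul_mul, one_mul, e3, Matrix.smul_mul, smul_smul, mul_add,
      Matrix.mul_smul, Matrix.mul_smul, mul_one, smul_add, smul_smul, smul_smul, mul_assoc (S.e y) P P,
      S.e_sq, Matrix.mul_smul, mul_one, smul_smul, hP, S.e_mul y v, smul_neg, smul_smul, smul_smul] at hk
    set t := sgn F (S.β y v) with ht
    set s := sgn F (S.q v) with hs
    set m := k * t with hm
    have hne : y ≠ y + v := fun e => hv (left_eq_add.1 e)
    have hlin : (α - m * β * s) • S.e y + -(β * t + m * α * t) • S.e (y + v) = 0 := by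
      rw [sub_smul, neg_smul, add_smul]
      linear_combination (norm := module) hk
    have hA : α - m * β * s = 0 := by
      by_contra h0
      have : (α - m * β * s) • S.e y = (β * t + m * α * t) • S.e (y + v) := by
        rwa [neg_smul, ← sub_eq_add_neg, sub_eq_zero] at hlin
      exact hne (S.smul_e_inj h0 this).1
    have hB : β * t + m * α * t = 0 := by
      rw [hA, zero_smul, zero_add, neg_smul, neg_eq_zero, smul_eq_zero] at hlin
      exact hlin.resolve_right (S.e_ne_zero _)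
    have hB' : β + m * α = 0 := by
      have : t * (β + m * α) = 0 := by linear_combination hB
      exact (mul_eq_zero.1 this).resolve_left (sgn_ne_zero _)
    have hα0 : α ≠ 0 := by
      intro h0
      have hb : β = 0 := by linear_combination hB' - m * h0
      have := S.nonempty
      exact g.ne_zero (by rw [hgv, h0, hb, zero_smul, zero_smul, add_zero])
    have hβ0 : β ≠ 0 := fun h0 => hα0 (by linear_combination hA + m * s * h0)
    refine ⟨fun h0 => ?_, hα0, hβ0, by linear_combination α * hA + β * s * hB'⟩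
    refine mul_ne_zero S.two_ne (mul_ne_zero hα0 hα0) ?_
    linear_combination h0 + α * hA + β * s * hB'
  -- `g` centralises the conjugate of `b`
  have hcomm : g * S.cj h b = S.cj h b * g := by
    refine Units.ext ?_
    have hc1 : (S.cj h b : Matrix ι ι F) * P = P * (S.cj h b : Matrix ι ι F) := by
      have := hc
      rwa [Carries, one_smul] at this
    rw [Units.val_mul, Units.val_mul, hgv, add_mul, mul_add, Matrix.smul_mul, Matrix.mul_smul, one_mul, mul_one,
      Matrix.smul_mul, Matrix.mul_smul, hc1]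
  have ht : S.Norm (h⁻¹ * g * h) := by
    refine B.hS.cent b hb0 _ (H.mul_mem (H.mul_mem (H.inv_mem B.mem) hg) B.mem) ⟨1, carries_iff.2 ?_⟩
    have e1 : g * S.cj h b * g⁻¹ = S.cj h b := by rw [hcomm, mul_inv_cancel_right]
    rw [show h⁻¹ * g * h * S.u b * (h⁻¹ * g * h)⁻¹ = h⁻¹ * (g * S.cj h b * g⁻¹) * h by simp only [cj]; group, e1,
      show h⁻¹ * S.cj h b * h = S.u b by simp only [cj]; group, one_smul, u_val]
  obtain ⟨c, hc0, hcx⟩ := ht.img_spec b'
  set x := S.img (h⁻¹ * g * h) b'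
  -- `g` carries the conjugate of `b'` to the conjugate of `x`
  have hgs : (g : Matrix ι ι F) * (S.cj h b' : Matrix ι ι F) = c • ((S.cj h x : Matrix ι ι F) * g) := by
    have e1 := carries_iff.1 hcx
    rw [← Units.val_mul, show g * S.cj h b' = h * ((h⁻¹ * g * h) * S.u b' * (h⁻¹ * g * h)⁻¹) * h⁻¹ * g by
      simp only [cj]; group, Units.val_mul (h * _ * h⁻¹), Units.val_mul (h * _), Units.val_mul h, e1,
      cj, Units.val_mul (h * S.u x), Units.val_mul h (S.u x), u_val, Matrix.mul_smul, Matrix.smul_mul, Matrix.smul_mul]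
  have hc1 : (S.cj h b' : Matrix ι ι F) * P = -(P * (S.cj h b' : Matrix ι ι F)) := by
    have := hc'
    rwa [Carries, neg_one_smul] at this
  have hanti : (S.cj h b' : Matrix ι ι F) * g = (α • (1 : Matrix ι ι F) - β • P) * (S.cj h b' : Matrix ι ι F) := by
    rw [hgv, sub_mul, mul_add, Matrix.smul_mul, Matrix.mul_smul, one_mul, mul_one, Matrix.smul_mul, Matrix.mul_smul,
      hc1, smul_neg, ← sub_eq_add_neg]
  -- the product of the two conjugates
  have hK := congrArg (fun M => M * (g : Matrix ι ι F)) hgs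
  simp only [mul_assoc, Matrix.smul_mul] at hK
  rw [hanti] at hK
  have hprod : (g : Matrix ι ι F) * (α • (1 : Matrix ι ι F) - β • P) = (α * α - β * β * sgn F (S.q v)) • 1 := by
    rw [hgv, hP]
    simp only [mul_sub, add_mul, Matrix.smul_mul, Matrix.mul_smul, mul_one, one_mul, smul_smul, S.e_sq]
    module
  have hgg : (g : Matrix ι ι F) * g = (α * α + β * β * sgn F (S.q v)) • 1 + (2 * α * β) • P := by
    rw [hgv, hP]
    simp only [mul_add, add_mul, Matrix.smul_mul, Matrix.mul_smul, mul_one, one_mul, smul_smul, S.e_sq]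
    module
  rw [← mul_assoc (g : Matrix ι ι F), hprod, Matrix.smul_mul, one_mul, hgg] at hK
  set D := α * α - β * β * sgn F (S.q v) with hD
  have hsum := hsq.2.2.2
  rw [hsum, zero_smul, zero_add, Matrix.mul_smul, smul_smul] at hK
  have hk0 : c * (2 * α * β) ≠ 0 := mul_ne_zero hc0 (mul_ne_zero (mul_ne_zero S.two_ne hsq.2.1) hsq.2.2.1)
  have hPs : P = (D * (c * (2 * α * β))⁻¹) • (((S.cj h x)⁻¹ * S.cj h b' : GL ι F) : Matrix ι ι F) := by
    have e := congrArg (fun M => (((S.cj h x)⁻¹ : GL ι F) : Matrix ι ι F) * M) hK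
    simp only [Matrix.mul_smul, ← mul_assoc, ← Units.val_mul, inv_mul_cancel, Units.val_one, one_mul] at e
    rw [mul_comm D, ← smul_smul, e, smul_smul, show (c * (2 * α * β))⁻¹ * (c * 2 * α * β) = 1 by
      rw [show c * 2 * α * β = c * (2 * α * β) by ring, inv_mul_cancel₀ hk0], one_smul]
  have hz : (((S.cj h x)⁻¹ * S.cj h b' : GL ι F) : Matrix ι ι F) =
      (sgn F (S.q x) * sgn F (S.β x b')) • (S.cj h (x + b') : Matrix ι ι F) := by
    rw [show (S.cj h x)⁻¹ * S.cj h b' = h * ((S.u x)⁻¹ * S.u b') * h⁻¹ by simp only [cj]; group, cj]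
    simp only [Units.val_mul, u_val, u_inv_val, Matrix.smul_mul, Matrix.mul_smul, S.e_mul, smul_smul]
  rw [hz, smul_smul] at hPs
  set r := D * (c * (2 * α * β))⁻¹ * (sgn F (S.q x) * sgn F (S.β x b'))
  have hr : r ≠ 0 := by
    intro h0
    rw [h0, zero_smul] at hPs
    exact S.e_ne_zero v hPs
  have hcar : S.Carries h (x + b') v r⁻¹ := by
    refine carries_iff.2 ?_
    show (S.cj h (x + b') : Matrix ι ι F) = _
    rw [hP] at hPs
    rw [hPs, smul_smul, inv_mul_cancel₀ hr, one_smul]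
  have hx0 := B.w0 _ _ _ hcar
  rw [hx0] at hcar
  have hrev := hcar.inv.zero_right
  exact hv hrev

end Bad

theorem Carries.add {g : GL ι F} {a b a' b' : A} {c d : F} (hc : S.Carries g a a' c) (hd : S.Carries g b b' d) :
    S.Carries g (a + b) (a' + b') (sgn F (S.β a b) * (c * d) * sgn F (S.β a' b')) := by
  have h0 : S.e (a + b) = sgn F (S.β a b) • (S.e a * S.e b) := by
    rw [S.e_mul, smul_smul, sgn_mul_self, one_smul]
  show _ = _
  rw [h0, Matrix.mul_smul, ← mul_assoc, (show _ = _ from hc), Matrix.smul_mul, mul_assoc, (show _ = _ from hd),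
    Matrix.mul_smul, ← mul_assoc, S.e_mul, Matrix.smul_mul, smul_smul, smul_smul, smul_smul]
  congr 1
  ring

theorem trace_coef {co : A → F} {X : Matrix ι ι F} (hX : ∑ x, co x • S.e x = X) (a : A) :
    Matrix.trace (S.e a * X) = co a * (sgn F (S.q a) * (Fintype.card ι : F)) := by
  rw [← hX, Finset.mul_sum, Matrix.trace_sum, Finset.sum_eq_single a (fun b _ hb => by
    rw [Matrix.mul_smul, Matrix.trace_smul, S.trace_mul_ne (Ne.symm hb), smul_zero]) (by simp), Matrix.mul_smul,
    Matrix.trace_smul, S.trace_mul_self, smul_eq_mul]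

theorem finrank_ge {n : ℕ} (hcard : 2 ^ n ≤ Fintype.card A) : n ≤ Module.finrank (ZMod 2) A := by
  rw [Module.card_eq_pow_finrank (K := ZMod 2) (V := A), ZMod.card] at hcard
  exact (Nat.pow_le_pow_iff_right (by norm_num)).1 hcard

namespace Bad

variable {h : GL ι F}

/-- the sign of a commuting pair does not depend on the first vector -/
theorem sign_eq (B : S.Bad cls H h) {b b' x : A} (hb : b ∈ S.tset h) (hb0 : b ≠ 0) (hb' : b' ∈ S.tset h)
    (hb'0 : b' ≠ 0) (hx : x ∈ S.tset h⁻¹) (hx0 : x ≠ 0) {s t : ZMod 2}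
    (hs : S.Carries (S.cj h b) x x (sgn F s)) (ht : S.Carries (S.cj h b') x x (sgn F t)) : s = t := by
  rcases B.hS.kind with hk | ⟨hcls, hsq⟩
  · obtain ⟨g, hg, hgn, hfix, hmove⟩ := hk x hx0
    rcases z2_cases s with rfl | rfl <;> rcases z2_cases t with rfl | rfl <;> simp only [sgn_zero, sgn_one] at hs ht
    · rfl
    · exact (B.all_or_none hg hx0 hfix hmove hgn hb0 hs ht).elim
    · exact (B.all_or_none hg hx0 hfix hmove hgn hb'0 ht hs).elim
    · rfl
  · suffices key : ∀ {b : A} {s : ZMod 2}, b ∈ S.tset h → b ≠ 0 → S.Carries (S.cj h b) x x (sgn F s) → s = S.q x by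
      rw [key hb hb0 hs, key hb' hb'0 ht]
    intro b s hb hb0 hs
    obtain ⟨y, hy⟩ := B.exists_range hb hb0 hx
    obtain ⟨c, -, hc⟩ := (mem_tset.1 hb).img_spec y
    rw [hy] at hc
    have hd := Carries.add (show S.Carries (S.cj h b) y (y + x) c from hc) hs
    rw [add_assoc, add_self_zero, add_zero] at hd
    have h2 := Carries.mul hc hd
    have h1 : S.Carries (S.cj h b * S.cj h b) y y 1 := by
      show _ = _
      rw [cj_val_add, add_self_zero, one_smul, Matrix.smul_mul, Matrix.mul_smul,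
        show (S.cj h 0 : Matrix ι ι F) = 1 by simp [cj, S.e_zero], one_mul, mul_one]
    have e := carries_unique h2 h1
    have hcc : c * c = 1 := hsq _ (B.hS.cj_mem B.mem b) y (y + x) c hc
    have hq : sgn F (S.β y x) * sgn F (S.β (y + x) x) = sgn F (S.q x) := by
      rw [map_add, LinearMap.add_apply, sgn_add, ← mul_assoc, sgn_mul_self, one_mul]; rfl
    apply sgn_inj S.two_ne
    linear_combination sgn F (S.q x) * e - sgn F s * sgn_mul_self (F := F) (S.q x)
      - sgn F s * sgn F (S.q x) * sgn F (S.q x) * hcc - c * c * sgn F s * sgn F (S.q x) * hq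

/-- every sign is trivial -/
theorem sign_one (B : S.Bad cls H h) {b c x : A} (hb : b ∈ S.tset h) (hb0 : b ≠ 0) (hc : c ∈ S.tset h) (hc0 : c ≠ 0)
    (hbc : b ≠ c) (hx : x ∈ S.tset h⁻¹) (hx0 : x ≠ 0) : S.Carries (S.cj h b) x x 1 := by
  obtain ⟨s, hs⟩ := B.exists_sign hb hx
  obtain ⟨t, ht⟩ := B.exists_sign hc hx
  have hadd := carries_add hs ht
  obtain rfl := B.sign_eq hb hb0 hc hc0 hx hx0 hs ht
  have hne : b + c ≠ 0 := fun e => hbc (eq_of_add_zero e)
  have h3 : S.Carries (S.cj h (b + c)) x x (sgn F (0 : ZMod 2)) := by rwa [sgn_zero, ← sgn_mul_self (F := F) s]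
  obtain rfl := B.sign_eq ((S.tset h).add_mem hb hc) hne hb hb0 hx hx0 h3 hs
  rwa [sgn_zero] at hs

end Bad

/-- an element of `H` conjugating one monomial into the normaliser normalises -/
theorem Setting.norm_of_carries (hS : S.Setting cls H) (hcard : 16 ≤ Fintype.card A) {h : GL ι F} (hh : h ∈ H)
    {a : A} (ha : a ≠ 0) (hn : S.Norm (S.cj h a)) : S.Norm h := by
  by_contra hN
  have B : S.Bad cls H h :=
    ⟨hS, hh, fun x y c hc => by_contra fun hx => hN (hS.norm_of_line hh hx hc)⟩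
  have haT : a ∈ S.tset h := hn
  obtain ⟨hperp, hrank⟩ := B.structure_eq haT ha
  obtain ⟨b, hb, hb0, hba⟩ : ∃ b ∈ S.tset h, b ≠ 0 ∧ b ≠ a := by
    by_contra hc
    push Not at hc
    have hle : S.tset h ≤ ZMod 2 ∙ a := fun b hb => by
      by_cases h0 : b = 0
      · rw [h0]; exact zero_mem _
      · rw [hc b hb h0]; exact Submodule.mem_span_singleton_self a
    have h1 := Submodule.finrank_mono hle
    rw [finrank_span_singleton ha] at h1
    have := finrank_ge (A := A) (n := 4) hcard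
    omega
  have hcomm : ∀ x ∈ S.tset h⁻¹, S.Carries (S.cj h a) x x 1 := fun x hx => by
    by_cases h0 : x = 0
    · subst h0
      show _ = _
      rw [S.e_zero, one_mul, one_smul, mul_one]
    · exact B.sign_one haT ha hb hb0 (Ne.symm hba) hx h0
  have hX : (S.cj h a : Matrix ι ι F) ∈ Submodule.span F (Set.range S.e) := S.span_top ▸ trivial
  obtain ⟨co, hco⟩ := (Submodule.mem_span_range_iff_exists_fun F).1 hX
  have hzero : ∀ z, co z = 0 := by
    intro z
    by_cases hz : z ∈ S.tset h⁻¹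
    · obtain ⟨y, hy⟩ := B.exists_range haT ha hz
      obtain ⟨c, hc0, hc⟩ := (mem_tset.1 haT).img_spec y
      rw [hy] at hc
      have e1 : S.e (y + z) = sgn F (S.β y z) • (S.e y * S.e z) := by
        rw [S.e_mul, smul_smul, sgn_mul_self, one_smul]
      rw [e1, Matrix.smul_mul, smul_smul] at hc
      have e2 := congrArg (fun M => Matrix.trace (((S.u y)⁻¹ : GL ι F).val * M)) hc
      simp only [Matrix.mul_smul, Matrix.trace_smul, smul_eq_mul, ← mul_assoc] at e2
      rw [show ((S.u y)⁻¹ : GL ι F).val * S.e y = 1 from (S.u y).inv_mul, one_mul, trace_coef hco,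
        Matrix.trace_mul_comm, ← mul_assoc, show S.e y * ((S.u y)⁻¹ : GL ι F).val = 1 from (S.u y).mul_inv,
        one_mul] at e2
      have e3 : Matrix.trace (S.cj h a : Matrix ι ι F) = 0 := by
        rw [cj, Units.val_mul, Matrix.trace_mul_comm, ← Units.val_mul, ← mul_assoc, inv_mul_cancel, one_mul,
          u_val, S.trace_eq a ha]
      rw [e3] at e2
      exact (mul_eq_zero.1 ((mul_eq_zero.1 e2.symm).resolve_left (mul_ne_zero hc0 (sgn_ne_zero _)))).resolve_right
        (mul_ne_zero (sgn_ne_zero _) S.card_ne)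
    · rw [← hperp, LinearMap.BilinForm.mem_orthogonal_iff] at hz
      push Not at hz
      obtain ⟨x, hx, hxz⟩ := hz
      have h1 := S.coef_eq hco (a := x) (c := 1) (hcomm x hx) z
      rw [(z2_cases _).resolve_left (show S.ω x z ≠ 0 from hxz), sgn_one] at h1
      exact (mul_eq_zero.1 (show (2 : F) * co z = 0 by linear_combination h1)).resolve_left S.two_ne
  have := S.nonempty
  exact (S.cj h a).ne_zero (by rw [← hco]; simp [hzero])

theorem exists_ω_pair (S : Sys A ι F) {v w : A} (hv : v ≠ 0) (hvw : v ≠ w) :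
    ∃ b, S.ω v b = 1 ∧ S.ω w b = 0 := by
  by_contra hc
  push Not at hc
  obtain ⟨b, hb⟩ := S.exists_ω_one hv
  have hwb := (z2_cases _).resolve_left (hc b hb)
  refine hvw (eq_of_add_zero (S.ω_nondeg fun x => ?_))
  rw [map_add, LinearMap.add_apply]
  rcases z2_cases (S.ω v x) with e | e
  · have h1 : S.ω v (x + b) = 1 := by rw [map_add, e, hb, zero_add]
    have h2 := (z2_cases _).resolve_left (hc _ h1)
    rw [map_add, hwb] at h2
    rw [e, zero_add]
    exact add_eq_right.1 h2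
  · rw [e, (z2_cases _).resolve_left (hc x e)]
    exact CharTwo.add_self_eq_zero _

theorem exists_fixed_outside (S : Sys A ι F) (v w : A) (hcard : 32 ≤ Fintype.card A) :
    ∃ t, S.ω v t = 0 ∧ S.ω w t = 0 ∧ t ∉ Submodule.span (ZMod 2) ({v, w} : Set A) := by
  classical
  by_contra hc
  push Not at hc
  let φ : A →ₗ[ZMod 2] ZMod 2 × ZMod 2 := (S.ω v).prod (S.ω w)
  have hle : LinearMap.ker φ ≤ Submodule.span (ZMod 2) (({v, w} : Finset A) : Set A) := fun t ht => by
    rw [Finset.coe_pair]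
    exact hc t (congrArg Prod.fst (LinearMap.mem_ker.1 ht)) (congrArg Prod.snd (LinearMap.mem_ker.1 ht))
  have h1 := Submodule.finrank_mono hle
  have h2 := (finrank_span_finset_le_card (R := ZMod 2) ({v, w} : Finset A)).trans Finset.card_le_two
  have h3 := φ.finrank_range_add_finrank_ker
  have h4 := Submodule.finrank_le (LinearMap.range φ)
  rw [Module.finrank_prod, Module.finrank_self] at h4
  have := finrank_ge (A := A) (n := 5) hcard
  simp only [Set.finrank] at h2
  omega

/-- with one pair involution the whole group normalises -/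
theorem Setting.le_norm [Finite F] (hS : S.Setting cls H) (hcard : 32 ≤ Fintype.card A) {c d : F} {v w : A}
    (hv : v ≠ 0) (hw : w ≠ 0) (hvw : v ≠ w) (hp : S.Pair c d v w) (k : Fˣ) (hz : scal k hp.pr ∈ H) :
    H ≤ S.norm := by
  let K : Subgroup ↥H := (Subgroup.center (GL ι F)).subgroupOf H
  let π : ↥H →* ↥H ⧸ K := QuotientGroup.mk' K
  have heq : ∀ g g' : ↥H, π g = π g' ↔ ∃ r : F, (g : GL ι F).val = r • (g' : GL ι F).val := by
    intro g g'
    rw [eq_comm, QuotientGroup.mk'_apply, QuotientGroup.mk'_apply, QuotientGroup.eq, Subgroup.mem_subgroupOf,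
      Subgroup.mem_center_iff, Subgroup.coe_mul, Subgroup.coe_inv]
    constructor
    · intro hcen
      obtain ⟨r, hr⟩ := S.scalar_of_comm (X := (((g' : GL ι F)⁻¹ * g : GL ι F) : Matrix ι ι F)) fun a => by
        rw [← u_val, ← Units.val_mul, ← hcen (S.u a), Units.val_mul]
      refine ⟨r, ?_⟩
      have := congrArg (fun M => ((g' : GL ι F) : Matrix ι ι F) * M) hr
      rwa [← Units.val_mul, mul_inv_cancel_left, Matrix.mul_smul, mul_one] at this
    · rintro ⟨r, hr⟩ x
      refine Units.ext ?_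
      simp only [Units.val_mul, hr, Matrix.mul_smul, Matrix.smul_mul]
      rw [← Units.val_mul, inv_mul_cancel, Units.val_one, mul_one, one_mul]
  let τ : A → ↥H ⧸ K := fun a => π ⟨S.u a, hS.u_mem a⟩
  have τ_def : ∀ a, τ a = π ⟨S.u a, hS.u_mem a⟩ := fun _ => rfl
  have τ_add : ∀ a b, τ (a + b) = τ a * τ b := fun a b => by
    rw [τ_def, τ_def, τ_def, ← map_mul, heq]
    exact ⟨sgn F (S.β a b), by
      simp only [Subgroup.coe_mul, Units.val_mul, u_val, S.e_mul, smul_smul, sgn_mul_self, one_smul]⟩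
  have τ_inj : ∀ a b, τ a = τ b → a = b := fun a b e => by
    obtain ⟨r, hr⟩ := (heq _ _).1 e
    exact S.inj hr
  have τ_zero : τ 0 = 1 := by
    have := τ_add 0 0
    rwa [add_zero, left_eq_mul] at this
  have τ_sq : ∀ a, τ a * τ a = 1 := fun a => by rw [← τ_add, add_self_zero, τ_zero]
  have τ_inv : ∀ a, (τ a)⁻¹ = τ a := fun a => inv_eq_of_mul_eq_one_right (τ_sq a)
  have τ_comm : ∀ a b, τ a * τ b = τ b * τ a := fun a b => by rw [← τ_add, ← τ_add, add_comm]
  have τ_norm : ∀ (g : ↥H), S.Norm g → ∀ a, π g * τ a = τ (S.img g a) * π g := fun g hg a => by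
    obtain ⟨r, -, hr⟩ := hg.img_spec a
    rw [τ_def, τ_def, ← map_mul, ← map_mul, heq]
    exact ⟨r, by simp only [Subgroup.coe_mul, Units.val_mul, u_val]; exact hr⟩
  let Ab : Subgroup (↥H ⧸ K) :=
    { carrier := Set.range τ
      one_mem' := ⟨0, τ_zero⟩
      mul_mem' := by rintro _ _ ⟨a, rfl⟩ ⟨b, rfl⟩; exact ⟨a + b, τ_add a b⟩
      inv_mem' := by rintro _ ⟨a, rfl⟩; exact ⟨a, (τ_inv a).symm⟩ }
  let Nb : Subgroup (↥H ⧸ K) := (S.norm.subgroupOf H).map π
  have hNb : ∀ g : ↥H, π g ∈ Nb → S.Norm g := fun g hg => by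
    obtain ⟨g', hg', e⟩ := Subgroup.mem_map.1 hg
    obtain ⟨r, hr⟩ := (heq g g').1 e.symm
    have hr0 : r ≠ 0 := by
      rintro rfl
      have := S.nonempty
      exact (g : GL ι F).ne_zero (by rw [hr, zero_smul])
    have e' : (g : GL ι F) = scal (Units.mk0 r hr0) g' := Units.ext hr
    rw [e']
    exact norm_scal S hg' _
  have hNb' : ∀ g : ↥H, S.Norm g → π g ∈ Nb := fun g hg => Subgroup.mem_map_of_mem π hg
  have C : Ctrl Ab Nb :=
    { le := by rintro _ ⟨a, rfl⟩; exact hNb' _ (S.u_mem a)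
      norm := by
        rintro x hx _ ⟨a, rfl⟩
        obtain ⟨g, rfl⟩ := QuotientGroup.mk'_surjective K x
        exact ⟨S.img g a, by rw [τ_norm g (hNb g hx) a, mul_inv_cancel_right]⟩
      comm := by rintro _ ⟨a, rfl⟩ _ ⟨b, rfl⟩; exact τ_comm a b
      sq := by rintro _ ⟨a, rfl⟩; exact τ_sq a
      cent := by
        rintro _ ⟨a, rfl⟩ ha x hx
        obtain ⟨g, rfl⟩ := QuotientGroup.mk'_surjective K x
        change π g * π _ = π _ * π g at hx
        rw [← map_mul, ← map_mul, heq] at hx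
        obtain ⟨r, hr⟩ := hx
        exact hNb' g (hS.cent a (fun e => ha (show τ a = 1 by rw [e, τ_zero])) g g.2 ⟨r, hr⟩)
      wc := by
        rintro _ ⟨a, rfl⟩ ha x hx
        obtain ⟨g, rfl⟩ := QuotientGroup.mk'_surjective K x
        change π g * π _ * (π g)⁻¹ ∈ Nb at hx
        rw [← map_mul, ← map_inv, ← map_mul] at hx
        exact hNb' g (hS.norm_of_carries (by omega) g.2 (fun e => ha (show τ a = 1 by rw [e, τ_zero])) (hNb _ hx)) }
  set Z : ↥H := ⟨scal k hp.pr, hz⟩
  have hZn : S.Norm (Z : GL ι F) := norm_scal S hp.pr_mem k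
  have hZi : ∀ x, S.img (Z : GL ι F) x = pairMap S v w x := fun x => (img_scal S hp.pr_mem k x).trans (hp.img_pr x)
  have hfixed : ∀ x, S.ω v x = 0 → S.ω w x = 0 → π Z * τ x = τ x * π Z := fun x h1 h2 => by
    rw [τ_norm Z hZn, hZi, pairMap, h1, h2, zero_smul, zero_smul, add_zero, add_zero]
  obtain ⟨b, hbv, hbw⟩ := exists_ω_pair S hv hvw
  obtain ⟨t, htv, htw, ht⟩ := exists_fixed_outside S v w hcard
  have ht0 : t ≠ 0 := fun e => ht (e ▸ zero_mem _)
  have hcom : ∀ x, τ x * π Z * (τ x)⁻¹ * (π Z)⁻¹ = τ (x + pairMap S v w x) := fun x => by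
    rw [τ_inv, mul_assoc (τ x) (π Z), τ_norm Z hZn, hZi, ← mul_assoc (τ x), mul_inv_cancel_right, τ_add]
  have htop : Nb = ⊤ := by
    refine C.eq_top (z := π Z) (hNb' _ hZn) ?_ ?_ (a0 := τ w) (b0 := τ t) ⟨w, rfl⟩ ⟨t, rfl⟩
      (fun e => hw (τ_inj _ _ (e.trans τ_zero.symm))) (fun e => ht0 (τ_inj _ _ (e.trans τ_zero.symm)))
      (hfixed w hp.orth (S.ω_self w)) (hfixed t htv htw) ⟨τ b, ⟨b, rfl⟩, ?_⟩ ?_ ?_
    · rintro ⟨x, hx⟩
      have e := τ_norm Z hZn b
      rw [← hx, τ_comm, mul_left_inj] at e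
      have := (τ_inj _ _ e).trans (hZi b)
      rw [pairMap, hbv, hbw, one_smul, zero_smul, add_zero, left_eq_add] at this
      exact hw this
    · rw [← map_mul, ← map_one π, heq]
      refine ⟨(k : F) * k, ?_⟩
      simp only [Subgroup.coe_mul, Units.val_mul, Subgroup.coe_one, Units.val_one, Z, scal_val, Matrix.smul_mul,
        Matrix.mul_smul, smul_smul]
      rw [show (hp.pr : Matrix ι ι F) * (hp.pr : Matrix ι ι F) = 1 from hp.mul_self]
    · rw [hcom, pairMap, hbv, hbw, one_smul, zero_smul, add_zero, add_add_self]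
    · rintro _ ⟨x, rfl⟩ e
      rw [hcom] at e
      have e1 := τ_inj _ _ e
      rw [pairMap, add_assoc x, add_add_self] at e1
      exact ht (e1 ▸ add_mem (Submodule.smul_mem _ _ (Submodule.subset_span (by simp)))
        (Submodule.smul_mem _ _ (Submodule.subset_span (by simp))))
    · intro y hy
      obtain ⟨g, rfl⟩ := QuotientGroup.mk'_surjective K y
      change π g ∈ Nb at hy
      have hg := hNb g hy
      by_cases h2 : π g * π g = 1
      · have hinv : ∀ x, S.img (g : GL ι F) (S.img (g : GL ι F) x) = x := fun x => by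
          have h3 := τ_norm g hg (S.img (g : GL ι F) x)
          have h4 : π g * (π g * τ x) = τ x := by rw [← mul_assoc, h2, one_mul]
          rw [τ_norm g hg, ← mul_assoc, h3, mul_assoc, h2, mul_one] at h4
          exact τ_inj _ _ h4
        obtain ⟨x, hx0, hx⟩ := Bad.exists_fixed hg hinv hw
        exact ⟨τ x, ⟨x, rfl⟩, fun e => hx0 (τ_inj _ _ (e.trans τ_zero.symm)), fun _ => by
          show π g * τ x = τ x * π g
          rw [τ_norm g hg, hx]⟩
      · exact ⟨τ w, ⟨w, rfl⟩, fun e => hw (τ_inj _ _ (e.trans τ_zero.symm)), fun e => absurd e h2⟩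
  intro g hg
  exact hNb ⟨g, hg⟩ (htop ▸ Subgroup.mem_top _)

end Sys

end Cfsg.Agent.Forms.Max.TwoGroup
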