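import Cfsg.Agent.Lib.Forms.Max.TwoGroup.Double

/-!
# Block diagonal elements over a doubled system
-/

set_option autoImplicit false
set_option linter.unusedSectionVars false

namespace Cfsg.Agent.Forms.Max.TwoGroup

open Matrix

variable {ι F : Type*} [Field F] [Fintype ι] [DecidableEq ι]

/-- the block diagonal element -/
def diag (g g' : GL ι F) : GL (ι ⊕ ι) F where
  val := fromBlocks (g : Matrix ι ι F) 0 0 (g' : Matrix ι ι F)
  inv := fromBlocks ((g⁻¹ : GL ι F) : Matrix ι ι F) 0 0 ((g'⁻¹ : GL ι F) : Matrix ι ι F)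
  val_inv := by simp [fromBlocks_multiply, fromBlocks_one]
  inv_val := by simp [fromBlocks_multiply, fromBlocks_one]

@[simp] theorem diag_val (g g' : GL ι F) :
    (diag g g' : Matrix (ι ⊕ ι) (ι ⊕ ι) F) = fromBlocks (g : Matrix ι ι F) 0 0 (g' : Matrix ι ι F) := rfl

theorem diag_mul (g g' h h' : GL ι F) : diag g g' * diag h h' = diag (g * h) (g' * h') :=
  Units.ext (by simp [fromBlocks_multiply])

theorem diag_one : diag (1 : GL ι F) 1 = 1 := Units.ext (by simp [fromBlocks_one])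

theorem diag_inv (g g' : GL ι F) : (diag g g')⁻¹ = diag g⁻¹ g'⁻¹ :=
  inv_eq_of_mul_eq_one_right (by rw [diag_mul, mul_inv_cancel, mul_inv_cancel, diag_one])

theorem diag_inj {g g' h h' : GL ι F} (e : diag g g' = diag h h') : g = h ∧ g' = h' := by
  have := congrArg Units.val e
  simp only [diag_val, fromBlocks_inj] at this
  exact ⟨Units.ext this.1, Units.ext this.2.2.2⟩

theorem det_diag (g g' : GL ι F) :
    (diag g g' : Matrix (ι ⊕ ι) (ι ⊕ ι) F).det = (g : Matrix ι ι F).det * (g' : Matrix ι ι F).det := by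
  rw [diag_val, det_fromBlocks_zero₂₁]

/-- the doubled sesquilinear matrix -/
def dblΦ (Φ : Matrix ι ι F) : Matrix (ι ⊕ ι) (ι ⊕ ι) F := fromBlocks Φ 0 0 Φ

theorem dblΦ_eq_blk (Φ : Matrix ι ι F) : dblΦ Φ = blk 1 Φ := by simp [dblΦ, blk]

theorem diag_mem_iso {σ : F →+* F} {Φ : Matrix ι ι F} {g g' : GL ι F} :
    diag g g' ∈ isoGrp σ (dblΦ Φ) ↔ g ∈ isoGrp σ Φ ∧ g' ∈ isoGrp σ Φ := by
  simp [mem_isoGrp, dblΦ, fromBlocks_map, fromBlocks_transpose, fromBlocks_multiply, Matrix.map_zero,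
    fromBlocks_inj]

/-- a matrix commuting with the diagonal sign matrix is block diagonal -/
theorem eq_diag_of_comm (h2 : (2 : F) ≠ 0) {h : GL (ι ⊕ ι) F}
    (hc : (h : Matrix (ι ⊕ ι) (ι ⊕ ι) F) * fromBlocks 1 0 0 (-1) =
      fromBlocks 1 0 0 (-1) * (h : Matrix (ι ⊕ ι) (ι ⊕ ι) F)) : ∃ g g' : GL ι F, h = diag g g' := by
  have key : ∀ x : GL (ι ⊕ ι) F, (x : Matrix (ι ⊕ ι) (ι ⊕ ι) F) * fromBlocks 1 0 0 (-1) =
      fromBlocks 1 0 0 (-1) * (x : Matrix (ι ⊕ ι) (ι ⊕ ι) F) →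
      (x : Matrix (ι ⊕ ι) (ι ⊕ ι) F) = fromBlocks x.val.toBlocks₁₁ 0 0 x.val.toBlocks₂₂ := fun x hx => by
    rw [← fromBlocks_toBlocks x.val, fromBlocks_multiply, fromBlocks_multiply, fromBlocks_inj] at hx
    simp only [mul_one, one_mul, mul_zero, zero_mul, add_zero, zero_add, mul_neg, neg_mul] at hx
    have h0 : ∀ Y : Matrix ι ι F, Y = -Y → Y = 0 := fun Y hY => by
      have : (2 : F) • Y = 0 := by rw [two_smul]; exact add_eq_zero_iff_eq_neg.2 hY
      exact (smul_eq_zero.1 this).resolve_left h2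
    conv_lhs => rw [← fromBlocks_toBlocks x.val]
    rw [h0 _ hx.2.1.symm, h0 _ hx.2.2.1]
  have hi : ((h⁻¹ : GL (ι ⊕ ι) F) : Matrix (ι ⊕ ι) (ι ⊕ ι) F) * fromBlocks 1 0 0 (-1) =
      fromBlocks 1 0 0 (-1) * ((h⁻¹ : GL (ι ⊕ ι) F) : Matrix (ι ⊕ ι) (ι ⊕ ι) F) := by
    refine (Units.mul_right_inj h).1 ?_
    rw [← mul_assoc, ← mul_assoc, ← Units.val_mul, mul_inv_cancel, Units.val_one, one_mul, hc, mul_assoc,
      ← Units.val_mul, mul_inv_cancel, Units.val_one, mul_one]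
  have e1 := key h hc
  have e2 := key h⁻¹ hi
  have h1 : (h : Matrix (ι ⊕ ι) (ι ⊕ ι) F) * ((h⁻¹ : GL (ι ⊕ ι) F) : Matrix (ι ⊕ ι) (ι ⊕ ι) F) = 1 := by
    rw [← Units.val_mul, mul_inv_cancel, Units.val_one]
  have h1' : ((h⁻¹ : GL (ι ⊕ ι) F) : Matrix (ι ⊕ ι) (ι ⊕ ι) F) * (h : Matrix (ι ⊕ ι) (ι ⊕ ι) F) = 1 := by
    rw [← Units.val_mul, inv_mul_cancel, Units.val_one]
  rw [e1, e2, fromBlocks_multiply, ← fromBlocks_one, fromBlocks_inj] at h1 h1'
  simp only [mul_zero, zero_mul, add_zero, zero_add] at h1 h1'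
  exact ⟨⟨_, _, h1.1, h1'.1⟩, ⟨_, _, h1.2.2.2, h1'.2.2.2⟩, Units.ext e1⟩

namespace Sys

variable {A : Type*} [AddCommGroup A] [Module (ZMod 2) A] [Fintype A] (S : Sys A ι F)

/-- the doubled system of plus type -/
abbrev dp : Sys ((ZMod 2 × ZMod 2) × A) (ι ⊕ ι) F := dbl (twoPlus S.two_ne) S

/-- the embedded vector -/
def emb (p : A) : (ZMod 2 × ZMod 2) × A := (0, p)

/-- the diagonal bit -/
def zb : (ZMod 2 × ZMod 2) × A := ((0, 1), 0)

/-- the flipping bit -/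
def xb : (ZMod 2 × ZMod 2) × A := ((1, 0), 0)

theorem dp_e_emb (p : A) : S.dp.e (emb p) = fromBlocks (S.e p) 0 0 (S.e p) := by
  simp [dp, emb, blk, twoPlus, two, dbl_e]

theorem dp_e_zb : S.dp.e zb = fromBlocks 1 0 0 (-1) := by
  simp [dp, zb, blk, twoPlus, two, dbl_e, S.e_zero]

theorem dp_e_xb : S.dp.e xb = fromBlocks 0 1 1 0 := by
  simp [dp, xb, blk, twoPlus, two, dbl_e, S.e_zero]

theorem dp_e_bit₀ (b : ZMod 2) (p : A) :
    S.dp.e ((0, b), p) = fromBlocks (S.e p) 0 0 (sgn F b • S.e p) := by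
  rcases z2_cases b with rfl | rfl <;> simp [dp, blk, twoPlus, two, dbl_e]

theorem dp_e_bit₁ (b : ZMod 2) (p : A) :
    S.dp.e ((1, b), p) = fromBlocks 0 (sgn F b • S.e p) (S.e p) 0 := by
  rcases z2_cases b with rfl | rfl <;> simp [dp, blk, twoPlus, two, dbl_e]

theorem u_xb_conj (g g' : GL ι F) : S.dp.u xb * diag g g' * (S.dp.u xb)⁻¹ = diag g' g := by
  rw [mul_inv_eq_iff_eq_mul]
  exact Units.ext (by simp [dp_e_xb, fromBlocks_multiply])

theorem dp_card : Fintype.card ((ZMod 2 × ZMod 2) × A) = 4 * Fintype.card A := by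
  simp [Fintype.card_prod]

/-- `diag g g` normalises when `g` does -/
theorem diag_self_mem {g : GL ι F} (hg : S.Norm g) : S.dp.Norm (diag g g) := fun p => by
  obtain ⟨⟨a, b⟩, r⟩ := p
  obtain ⟨r', c, e⟩ := hg r
  refine ⟨((a, b), r'), c, ?_⟩
  rcases z2_cases a with rfl | rfl <;>
    simp [dp_e_bit₀, dp_e_bit₁, fromBlocks_multiply, fromBlocks_smul, e, smul_smul,
      mul_comm]

theorem img_diag_self {g : GL ι F} (hg : S.Norm g) (p : (ZMod 2 × ZMod 2) × A) :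
    S.dp.img (diag g g) p = (p.1, S.img g p.2) := by
  obtain ⟨⟨a, b⟩, r⟩ := p
  obtain ⟨c, -, e⟩ := hg.img_spec r
  refine img_eq (c := c) ?_
  rcases z2_cases a with rfl | rfl <;>
    simp [dp_e_bit₀, dp_e_bit₁, fromBlocks_multiply, fromBlocks_smul, e, smul_smul,
      mul_comm]

/-- `diag 1 g` for a monomial `g` up to a fourth root of unity normalises -/
theorem diag_one_mem {g : GL ι F} {v : A} {μ : F} (hg : (g : Matrix ι ι F) = μ • S.e v)
    (hμ : μ * μ = 1 ∨ μ * μ = -1) : S.dp.Norm (diag 1 g) := fun p => by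
  obtain ⟨⟨a, b⟩, r⟩ := p
  rcases z2_cases a with rfl | rfl
  · refine ⟨((0, b + S.ω v r), r), 1, ?_⟩
    simp [dp_e_bit₀, fromBlocks_multiply, hg, smul_smul, sgn_add, S.e_comm v r, mul_left_comm]
  · obtain ⟨t, ht⟩ : ∃ t : ZMod 2, μ * μ = sgn F t := by
      rcases hμ with h | h
      exacts [⟨0, by simpa using h⟩, ⟨1, by simpa using h⟩]
    refine ⟨((1, b + (t + S.q v + S.ω v r)), r + v), sgn F (S.β r v) * sgn F (S.ω v r) * μ, ?_⟩
    have h1 : S.e v * S.e r = (sgn F (S.ω v r) * sgn F (S.β r v)) • S.e (r + v) := by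
      rw [S.e_comm v r, S.e_mul, smul_smul]
    have h2 : S.e (r + v) * S.e v = (sgn F (S.β r v) * sgn F (S.q v)) • S.e r := by
      rw [S.e_mul, add_assoc, add_self_zero, add_zero, map_add, LinearMap.add_apply, sgn_add]; rfl
    simp only [dp_e_bit₁, diag_val, hg, Units.val_one, fromBlocks_multiply, Matrix.mul_smul, Matrix.smul_mul,
      one_mul, mul_one, zero_mul, mul_zero, add_zero, zero_add, fromBlocks_smul, smul_zero, h1, h2, smul_smul,
      sgn_add, fromBlocks_inj, true_and, and_true]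
    refine ⟨?_, ?_⟩ <;> congr 1
    · have e1 := sgn_mul_self (F := F) t
      have e2 : sgn F (S.β r v) * sgn F (S.β r v) * (sgn F (S.ω v r) * sgn F (S.ω v r)) *
          (sgn F (S.q v) * sgn F (S.q v)) = 1 := by simp only [sgn_mul_self, mul_one]
      linear_combination -sgn F b * (sgn F t * (μ * μ)) * e2 - sgn F b * e1 - sgn F b * sgn F t * ht
    · ring

end Sys

end Cfsg.Agent.Forms.Max.TwoGroup
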