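import Cfsg.Agent.Lib.Forms.Max.TwoGroup.Kind
import Cfsg.Agent.Lib.Forms.Max.TwoGroup.Conj

/-!
# The dichotomy along renamings and conjugation
-/

set_option autoImplicit false
set_option linter.unusedSectionVars false

namespace Cfsg.Agent.Forms.Max.TwoGroup

open Matrix

namespace Sys

variable {A A' ι ι' F : Type*} [AddCommGroup A] [Module (ZMod 2) A] [Fintype A] [AddCommGroup A']
  [Module (ZMod 2) A'] [Fintype A'] [Field F] [Fintype F] [Fintype ι] [DecidableEq ι] [Fintype ι'] [DecidableEq ι']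
  {σ : F →+* F}

theorem norm_comap (S : Sys A' ι F) (φ : A ≃ₗ[ZMod 2] A') : (S.comap φ).norm = S.norm := by
  ext g
  constructor
  · intro h a
    obtain ⟨b, c, e⟩ := h (φ.symm a)
    exact ⟨φ b, c, by simpa [comap_e] using e⟩
  · intro h a
    obtain ⟨b, c, e⟩ := h (φ a)
    exact ⟨φ.symm b, c, by simpa [comap_e] using e⟩

theorem dich_comap (S : Sys A' ι F) (φ : A ≃ₗ[ZMod 2] A') {Φ : Matrix ι ι F} :
    (S.comap φ).Dich σ Φ ↔ S.Dich σ Φ := by
  simp only [Dich, norm_comap]

/-- transport of the dichotomy along an isomorphism of the matrix groups -/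
theorem dich_of_equiv {S : Sys A ι F} {T : Sys A' ι' F} {Φ : Matrix ι ι F} {Φ' : Matrix ι' ι' F}
    (f : GL ι F ≃* GL ι' F) (hiso : ∀ x, f x ∈ isoGrp σ Φ' ↔ x ∈ isoGrp σ Φ)
    (hnorm : ∀ x, f x ∈ T.norm ↔ x ∈ S.norm) (hdet : ∀ x, (f x).val.det = x.val.det) (h : T.Dich σ Φ') :
    S.Dich σ Φ := by
  intro H hge hle
  have hm : ∀ x, f x ∈ H.map f.toMonoidHom ↔ x ∈ H := fun x =>
    ⟨by rintro ⟨y, hy, e⟩; exact f.injective e ▸ hy, fun hx => ⟨x, hx, rfl⟩⟩
  rcases h (H.map f.toMonoidHom) (fun y hy => by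
      obtain ⟨x, rfl⟩ := f.surjective y
      exact (hm x).2 (hge ⟨(hiso x).1 hy.1, (hnorm x).1 hy.2⟩))
      (fun y hy => by
        obtain ⟨x, rfl⟩ := f.surjective y
        exact (hiso x).2 (hle ((hm x).1 hy))) with h' | h'
  · exact Or.inl fun x hx => (hnorm x).1 (h' ((hm x).2 hx))
  · refine Or.inr fun x hx => (hm x).1 (h' ?_)
    rw [mem_big] at hx ⊢
    exact ⟨(hiso x).2 hx.1, (hdet x).trans hx.2⟩

/-- renaming the entries of an invertible matrix -/
def glMove (ε : ι ≃ ι') : GL ι F ≃* GL ι' F := Units.mapEquiv (Matrix.reindexAlgEquiv F F ε).toMulEquiv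

theorem glMove_val (ε : ι ≃ ι') (x : GL ι F) : (glMove ε x).val = x.val.submatrix ε.symm ε.symm := rfl

theorem glMove_iso (ε : ι ≃ ι') {Φ' : Matrix ι' ι' F} (x : GL ι F) :
    glMove ε x ∈ isoGrp σ Φ' ↔ x ∈ isoGrp σ (Φ'.submatrix ε ε) := by
  rw [mem_isoGrp, mem_isoGrp, glMove_val]
  have e : ((x.val.submatrix ε.symm ε.symm).map σ)ᵀ * Φ' * x.val.submatrix ε.symm ε.symm =
      ((x.val.map σ)ᵀ * Φ'.submatrix ε ε * x.val).submatrix ε.symm ε.symm := by
    conv_rhs => rw [← Matrix.submatrix_mul_equiv _ _ ε.symm ε.symm ε.symm,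
      ← Matrix.submatrix_mul_equiv _ _ ε.symm ε.symm ε.symm, Matrix.submatrix_submatrix]
    rw [show (⇑ε ∘ ⇑ε.symm) = id from funext ε.apply_symm_apply, Matrix.submatrix_id_id]; rfl
  rw [e]
  constructor
  · intro h
    have := congrArg (fun M : Matrix ι' ι' F => M.submatrix ε ε) h
    simpa [Matrix.submatrix_submatrix] using this
  · intro h
    rw [h, Matrix.submatrix_submatrix]
    simp

theorem dich_reindex (S : Sys A ι' F) (ε : ι ≃ ι') {Φ : Matrix ι ι F} {Φ' : Matrix ι' ι' F}
    (hΦ : Φ'.submatrix ε ε = Φ) (h : S.Dich σ Φ') : (S.reindex ε).Dich σ Φ := by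
  refine dich_of_equiv (glMove ε) (fun x => by rw [glMove_iso, hΦ]) (fun x => ?_)
    (fun x => by rw [glMove_val, det_submatrix_equiv_self]) h
  refine forall_congr' fun a => exists_congr fun b => exists_congr fun c => ?_
  rw [reindex_e, reindex_e, glMove_val]
  constructor
  · intro e
    have := congrArg (fun M : Matrix ι' ι' F => M.submatrix ε ε) e
    simpa [← Matrix.submatrix_mul_equiv _ _ ε ε ε, Matrix.submatrix_smul, Matrix.submatrix_submatrix] using this
  · intro e
    have := congrArg (fun M : Matrix ι ι F => M.submatrix ε.symm ε.symm) e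
    simpa [← Matrix.submatrix_mul_equiv _ _ ε.symm ε.symm ε.symm, Matrix.submatrix_smul,
      Matrix.submatrix_submatrix] using this

/-- transport of the dichotomy along an intertwiner -/
theorem dich_conj {S : Sys A ι F} {T : Sys A ι F} {Φ : Matrix ι ι F} (hk : Cx σ Φ)
    (hu : ∀ a, S.u a ∈ isoGrp σ Φ) (hu' : ∀ a, T.u a ∈ isoGrp σ Φ) {g : GL ι F} {c : A → F}
    (h4 : ∀ a, c a ^ 4 = 1) (hg : ∀ a, g.val * S.e a = c a • (T.e a * g.val)) (h : T.Dich σ Φ) : S.Dich σ Φ := by
  obtain ⟨i, hi, hσ⟩ := hk.exists_i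
  have hform : ∃ l : F, l ≠ 0 ∧ (g.val.map σ)ᵀ * Φ * g.val = l • Φ := by
    rcases id hk with ⟨h0, -⟩ | ⟨h1, -⟩
    · exact ⟨1, one_ne_zero, by simp [h0]⟩
    · have hc : ∀ a, σ (c a) * c a = 1 := fun a => by
        have hσi : σ i = -i := by
          rcases hσ with h0 | h0
          · have := S.nonempty
            rw [h1] at h0
            exact absurd h0 one_ne_zero
          · exact h0
        have h0 : (c a * c a - 1) * (c a * c a - i * i) = 0 := by
          linear_combination h4 a + (1 - c a * c a) * hi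
        rcases mul_eq_zero.1 h0 with h' | h'
        · rcases mul_self_eq_one_iff.1 (sub_eq_zero.1 h') with e | e <;> simp [e]
        · rcases mul_self_eq_mul_self_iff.1 (sub_eq_zero.1 h') with e | e <;>
            simp [e, hσi, hi]
      have hunit : IsUnit Φ.det := by simp [h1]
      exact S.form_conj T hunit hunit hu hu' hc hg
  obtain ⟨l, hl0, hl⟩ := hform
  have hiso : ∀ x, MulAut.conj g x ∈ isoGrp σ Φ ↔ x ∈ isoGrp σ Φ := fun x => by
    have hgi : (g⁻¹.val.map σ)ᵀ * (l • Φ) * g⁻¹.val = Φ := by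
      rw [← hl]
      calc _ = ((g.val * g⁻¹.val).map σ)ᵀ * Φ * (g.val * g⁻¹.val) := by
            rw [map_mul', Matrix.transpose_mul]; simp only [mul_assoc]
        _ = Φ := by rw [← Units.val_mul, mul_inv_cancel, Units.val_one]; simp
    rw [mem_isoGrp, mem_isoGrp, MulAut.conj_apply, Units.val_mul, Units.val_mul, map_mul', map_mul',
      Matrix.transpose_mul, Matrix.transpose_mul]
    have e : (g⁻¹.val.map σ)ᵀ * ((x.val.map σ)ᵀ * (g.val.map σ)ᵀ) * Φ * (g.val * x.val * g⁻¹.val) =
        (g⁻¹.val.map σ)ᵀ * (l • ((x.val.map σ)ᵀ * Φ * x.val)) * g⁻¹.val := by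
      rw [← Matrix.smul_mul, ← Matrix.mul_smul, ← hl]
      simp only [mul_assoc]
    rw [e]
    constructor
    · intro h
      have h2 := congrArg (fun M => (g.val.map σ)ᵀ * M * g.val) h
      simp only [← mul_assoc, ← Matrix.transpose_mul, ← map_mul'] at h2
      rw [← Units.val_mul, inv_mul_cancel, Units.val_one] at h2
      simp only [Matrix.map_one _ (map_zero σ) (map_one σ), Matrix.transpose_one, one_mul, mul_assoc _ g⁻¹.val,
        ← Units.val_mul, inv_mul_cancel, Units.val_one, mul_one] at h2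
      rw [hl] at h2
      exact smul_right_injective _ hl0 h2
    · intro h
      rw [h, hgi]
  refine dich_of_equiv (MulAut.conj g) hiso (fun x => ?_) (fun x => ?_) h
  · have key : ∀ (y : GL ι F) a b (k : F), y.val * S.e a = k • (S.e b * y.val) →
        ∃ k', (MulAut.conj g y).val * T.e a = k' • (T.e b * (MulAut.conj g y).val) := fun y a b k hy => by
      refine ⟨(c a)⁻¹ * (k * c b), ?_⟩
      have hca : c a ≠ 0 := fun h0 => by have := h4 a; simp [h0] at this
      have h1 : g⁻¹.val * T.e a = (c a)⁻¹ • (S.e a * g⁻¹.val) := by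
        have := congrArg (fun M => (c a)⁻¹ • (g⁻¹.val * M * g⁻¹.val)) (hg a)
        simp only [Matrix.mul_smul, Matrix.smul_mul, smul_smul, inv_mul_cancel₀ hca, one_smul, mul_assoc,
          ← Units.val_mul, mul_inv_cancel, Units.val_one, mul_one] at this
        rw [← mul_assoc g⁻¹.val g.val, ← Units.val_mul, inv_mul_cancel, Units.val_one, one_mul] at this
        exact this.symm
      rw [MulAut.conj_apply, Units.val_mul, Units.val_mul]
      calc g.val * y.val * g⁻¹.val * T.e a = (c a)⁻¹ • (g.val * (y.val * S.e a) * g⁻¹.val) := by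
            rw [mul_assoc, h1, Matrix.mul_smul]; simp only [mul_assoc]
        _ = ((c a)⁻¹ * k) • (g.val * S.e b * (y.val * g⁻¹.val)) := by
            rw [hy, Matrix.mul_smul, Matrix.smul_mul, smul_smul]; simp only [mul_assoc]
        _ = _ := by rw [hg b, Matrix.smul_mul, smul_smul]; simp only [mul_assoc]
    constructor
    · intro hn a
      obtain ⟨b, k, e⟩ := hn a
      have hcg : ∀ a, g⁻¹.val * T.e a = (c a)⁻¹ • (S.e a * g⁻¹.val) := fun a => by
        have hca : c a ≠ 0 := fun h0 => by have := h4 a; simp [h0] at this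
        have := congrArg (fun M => (c a)⁻¹ • (g⁻¹.val * M * g⁻¹.val)) (hg a)
        simp only [Matrix.mul_smul, Matrix.smul_mul, smul_smul, inv_mul_cancel₀ hca, one_smul, mul_assoc,
          ← Units.val_mul, mul_inv_cancel, Units.val_one, mul_one] at this
        rw [← mul_assoc g⁻¹.val g.val, ← Units.val_mul, inv_mul_cancel, Units.val_one, one_mul] at this
        exact this.symm
      refine ⟨b, c a * k * (c b)⁻¹, ?_⟩
      have hx : x.val = g⁻¹.val * (MulAut.conj g x).val * g.val := by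
        rw [← Units.val_mul, ← Units.val_mul, MulAut.conj_apply]
        congr 1; group
      rw [hx]
      calc g⁻¹.val * (MulAut.conj g x).val * g.val * S.e a
          = c a • (g⁻¹.val * ((MulAut.conj g x).val * T.e a) * g.val) := by
            rw [mul_assoc, hg, Matrix.mul_smul]; simp only [mul_assoc]
        _ = (c a * k) • (g⁻¹.val * T.e b * ((MulAut.conj g x).val * g.val)) := by
            rw [e, Matrix.mul_smul, Matrix.smul_mul, smul_smul]; simp only [mul_assoc]
        _ = _ := by rw [hcg b, Matrix.smul_mul, smul_smul]; simp only [mul_assoc]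
    · intro hn a
      obtain ⟨b, k, e⟩ := hn a
      obtain ⟨k', e'⟩ := key x a b k e
      exact ⟨b, k', e'⟩
  · rw [MulAut.conj_apply, Units.val_mul, Units.val_mul, det_mul, det_mul, mul_comm, ← mul_assoc, ← det_mul,
      ← Units.val_mul, inv_mul_cancel, Units.val_one, det_one, one_mul]

end Sys

end Cfsg.Agent.Forms.Max.TwoGroup
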