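import Cfsg.Agent.Lib.Forms.Max.TwoGroup.StepTop
import Cfsg.Agent.Lib.Forms.Max.TwoGroup.DichMove
import Cfsg.Agent.Lib.Forms.Max.TwoGroup.Base
import Cfsg.Agent.Lib.Forms.Max.TwoGroup.Control

/-!
# The dichotomy in the complex kind

An overgroup of the normalising isometries normalises or contains all isometries of determinant one, for at least two
qubits. By induction on the dimension through the normal form of doubled systems.
-/

set_option autoImplicit false
set_option linter.unusedSectionVars false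

namespace Cfsg.Agent.Forms.Max.TwoGroup

open Matrix

variable {F : Type*} [Field F] [Fintype F] {σ : F →+* F}

namespace Sys

section step

variable {κ : Type} [Fintype κ] [DecidableEq κ] {B : Type*} [AddCommGroup B] [Module (ZMod 2) B] [Fintype B]
  (S₀ : Sys B κ F) {Φ : Matrix κ κ F}

/-- one step -/
theorem dich_dp_dp (hk : Cx σ Φ) (hu : ∀ a, S₀.u a ∈ isoGrp σ Φ) (hB : 4 ≤ Fintype.card B)
    (hD : S₀.dp.Dich σ (dblΦ Φ)) : S₀.dp.dp.Dich σ (dblΦ (dblΦ Φ)) := by
  intro H hge hle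
  have hyp : S₀.dp.StepHyp σ (dblΦ Φ) H := ⟨hk.dbl, S₀.dp_u_mem_iso hu, hge, hle⟩
  rcases hD (lowK H) hyp.le_lowK hyp.lowK_iso with h | h
  · obtain ⟨c, d, v, w, hp, hv, hw, hvw, hz⟩ := exists_pair_lift S₀ hyp
    refine Or.inl ((setting_dp S₀ hyp hB h).le_norm ?_ hv hw hvw hp 1 hz)
    rw [dp_card, dp_card]; omega
  · refine Or.inr (big_case S₀ hyp ?_ h)
    have := S₀.card_eq
    nlinarith

end step

theorem dich_aux {A : Type} [AddCommGroup A] [Module (ZMod 2) A] [Fintype A] {ι : Type} [Fintype ι] [DecidableEq ι]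
    (S : Sys A ι F) {Φ : Matrix ι ι F} (hk : Cx σ Φ) (hu : ∀ a, S.u a ∈ isoGrp σ Φ)
    (hA : 16 ≤ Fintype.card A) : S.Dich σ Φ := by
  classical
  obtain ⟨m, hm⟩ : ∃ m, Fintype.card A = 4 ^ m := by
    obtain ⟨m, hm⟩ := S.exists_finrank
    haveI : Module.Finite (ZMod 2) A := Module.Finite.of_finite
    exact ⟨m, by rw [Module.card_eq_pow_finrank (K := ZMod 2) (V := A), ZMod.card, hm, pow_mul]; norm_num⟩
  obtain ⟨m, rfl⟩ : ∃ k, m = k + 2 := by
    rcases Nat.lt_or_ge m 2 with h | h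
    · interval_cases m <;> simp at hm <;> omega
    · exact ⟨m - 2, by omega⟩
  clear hA
  induction m generalizing A ι with
  | zero => exact dich_base S hk hu (by simpa using hm)
  | succ m ih =>
    obtain ⟨κ, _, _, B, _, _, _, S₀, hB, hstd⟩ := exists_std_sys S.two_ne (F := F) (m + 1)
    have hκ : Fintype.card B = Fintype.card κ * Fintype.card κ := S₀.card_eq
    obtain ⟨i, hi, -⟩ := hk.exists_i
    -- the forms on the normal form
    obtain ⟨Φ₀, hk₀, hu₀, hΦ⟩ : ∃ Φ₀ : Matrix κ κ F, Cx σ Φ₀ ∧ (∀ a, S₀.u a ∈ isoGrp σ Φ₀) ∧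
        ∀ ε : ι ≃ (κ ⊕ κ) ⊕ (κ ⊕ κ), (dblΦ (dblΦ Φ₀)).submatrix ε ε = Φ := by
      rcases hk with ⟨rfl, h⟩ | ⟨rfl, h⟩
      · exact ⟨0, Or.inl ⟨rfl, h⟩, fun a => by rw [isoGrp_zero]; trivial, fun ε => by simp [dblΦ]⟩
      · exact ⟨1, Or.inr ⟨rfl, h⟩, hstd σ, fun ε => by simp [dblΦ, fromBlocks_one]⟩
    have hcard : Fintype.card ι = Fintype.card ((κ ⊕ κ) ⊕ (κ ⊕ κ)) := by
      have h1 := S.card_eq
      rw [hm] at h1
      simp only [Fintype.card_sum]
      rw [hB] at hκ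
      refine Nat.pow_left_injective two_ne_zero ?_
      simp only [pow_two]
      rw [← h1, show (Fintype.card κ + Fintype.card κ + (Fintype.card κ + Fintype.card κ)) *
        (Fintype.card κ + Fintype.card κ + (Fintype.card κ + Fintype.card κ)) =
        16 * (Fintype.card κ * Fintype.card κ) by ring, ← hκ]
      ring
    let ε := Fintype.equivOfCardEq hcard
    have hu₁ := S₀.dp.dp_u_mem_iso (S₀.dp_u_mem_iso hu₀)
    have hT : S₀.dp.dp.Dich σ (dblΦ (dblΦ Φ₀)) := by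
      refine dich_dp_dp S₀ hk₀ hu₀ (by rw [hB, pow_succ]; have := Nat.one_le_pow m 4 (by norm_num); omega) ?_
      exact ih S₀.dp hk₀.dbl (S₀.dp_u_mem_iso hu₀) (by rw [dp_card, hB, pow_succ _ (m + 1)]; ring)
    obtain ⟨φ, g, c, -, h4, hg⟩ := S.exists_conj_of_sq S₀.dp.dp ε hi
    refine dich_conj hk hu (T := (S₀.dp.dp.comap φ).reindex ε) (fun a => ?_) h4 hg
      (dich_reindex _ ε (hΦ ε) ((dich_comap _ φ).2 hT))
    have e : glMove ε (((S₀.dp.dp.comap φ).reindex ε).u a) = S₀.dp.dp.u (φ a) := Units.ext (by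
      rw [glMove_val, u_val, u_val, reindex_e, comap_e, Matrix.submatrix_submatrix]; simp)
    rw [← hΦ ε, ← glMove_iso, e]
    exact hu₁ _

/-- the dichotomy for every system with at least two qubits -/
theorem dich {A : Type*} [AddCommGroup A] [Module (ZMod 2) A] [Fintype A] {ι : Type} [Fintype ι] [DecidableEq ι]
    (S : Sys A ι F) {Φ : Matrix ι ι F} (hk : Cx σ Φ) (hu : ∀ a, S.u a ∈ isoGrp σ Φ)
    (hA : 16 ≤ Fintype.card A) : S.Dich σ Φ := by
  haveI : Module.Finite (ZMod 2) A := Module.Finite.of_finite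
  let φ : (Fin (Module.finrank (ZMod 2) A) → ZMod 2) ≃ₗ[ZMod 2] A :=
    (Module.finBasis (ZMod 2) A).equivFun.symm
  refine (dich_comap S φ).1 (dich_aux (S.comap φ) hk (fun a => ?_) ?_)
  · have e : (S.comap φ).u a = S.u (φ a) := Units.ext rfl
    rw [e]
    exact hu _
  · rwa [Fintype.card_congr φ.toEquiv]

end Sys

end Cfsg.Agent.Forms.Max.TwoGroup
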