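import Cfsg.Agent.Lib.Forms.Max.TwoGroup.Isometry

/-!
# Adjoining one tensor factor of dimension two

`blk M X` is the Kronecker product of a two by two matrix with `X`, written in blocks on `ι ⊕ ι`.
-/

set_option autoImplicit false
set_option linter.unusedSectionVars false

namespace Cfsg.Agent.Forms.Max.TwoGroup

open Matrix

variable {ι F : Type*} [Field F] [Fintype ι] [DecidableEq ι]

/-- the Kronecker product in blocks -/
def blk (M : Matrix (Fin 2) (Fin 2) F) (X : Matrix ι ι F) : Matrix (ι ⊕ ι) (ι ⊕ ι) F :=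
  fromBlocks (M 0 0 • X) (M 0 1 • X) (M 1 0 • X) (M 1 1 • X)

theorem blk_mul (M M' : Matrix (Fin 2) (Fin 2) F) (X X' : Matrix ι ι F) :
    blk M X * blk M' X' = blk (M * M') (X * X') := by
  simp only [blk, fromBlocks_multiply, Matrix.smul_mul, Matrix.mul_smul, smul_smul, Matrix.mul_apply,
    Fin.sum_univ_two, add_smul, mul_comm]

theorem blk_one : blk (1 : Matrix (Fin 2) (Fin 2) F) (1 : Matrix ι ι F) = 1 := by
  simp [blk, fromBlocks_one]

theorem blk_smul_left (c : F) (M : Matrix (Fin 2) (Fin 2) F) (X : Matrix ι ι F) : blk (c • M) X = c • blk M X := by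
  simp only [blk, fromBlocks_smul, Matrix.smul_apply, smul_eq_mul, smul_smul]

theorem blk_smul_right (c : F) (M : Matrix (Fin 2) (Fin 2) F) (X : Matrix ι ι F) : blk M (c • X) = c • blk M X := by
  simp only [blk, fromBlocks_smul, smul_smul, mul_comm c]

theorem trace_blk (M : Matrix (Fin 2) (Fin 2) F) (X : Matrix ι ι F) :
    Matrix.trace (blk M X) = Matrix.trace M * Matrix.trace X := by
  simp [blk, Matrix.trace, Fin.sum_univ_two, Fintype.sum_sum_type, Finset.mul_sum, add_mul, Finset.sum_add_distrib]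

theorem blk_map (σ : F →+* F) (M : Matrix (Fin 2) (Fin 2) F) (X : Matrix ι ι F) :
    (blk M X).map σ = blk (M.map σ) (X.map σ) := by
  simp [blk, fromBlocks_map, map_smul']

theorem blk_transpose (M : Matrix (Fin 2) (Fin 2) F) (X : Matrix ι ι F) : (blk M X)ᵀ = blk Mᵀ Xᵀ := by
  simp [blk, fromBlocks_transpose]

namespace Sys

variable {A A₂ : Type*} [AddCommGroup A] [Module (ZMod 2) A] [Fintype A] [AddCommGroup A₂] [Module (ZMod 2) A₂]
  [Fintype A₂]

/-- the tensor product with a system of dimension two -/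
def dbl (T : Sys A₂ (Fin 2) F) (S : Sys A ι F) : Sys (A₂ × A) (ι ⊕ ι) F where
  e p := blk (T.e p.1) (S.e p.2)
  β := T.β.compl₁₂ (LinearMap.fst (ZMod 2) A₂ A) (LinearMap.fst (ZMod 2) A₂ A) +
    S.β.compl₁₂ (LinearMap.snd (ZMod 2) A₂ A) (LinearMap.snd (ZMod 2) A₂ A)
  two_ne := S.two_ne
  card_ne := by
    rw [Fintype.card_sum, Nat.cast_add, ← two_mul]
    exact mul_ne_zero S.two_ne S.card_ne
  e_zero := by rw [Prod.fst_zero, Prod.snd_zero, T.e_zero, S.e_zero, blk_one]
  e_mul p p' := by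
    rw [blk_mul, T.e_mul, S.e_mul, blk_smul_left, blk_smul_right, smul_smul, ← sgn_add]
    rfl
  trace_eq p hp := by
    rw [trace_blk]
    by_cases h : p.1 = 0
    · rw [S.trace_eq _ (fun h' => hp (Prod.ext h h')), mul_zero]
    · rw [T.trace_eq _ h, zero_mul]
  card_eq := by
    rw [Fintype.card_prod, T.card_eq, S.card_eq, Fintype.card_sum, Fintype.card_fin]
    ring
  nondeg p hp := by
    refine Prod.ext (T.nondeg _ fun b => ?_) (S.nondeg _ fun b => ?_)
    · simpa using hp (b, 0)
    · simpa using hp (0, b)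

variable (T : Sys A₂ (Fin 2) F) (S : Sys A ι F)

theorem dbl_e (p : A₂ × A) : (dbl T S).e p = blk (T.e p.1) (S.e p.2) := rfl

theorem dbl_β (p p' : A₂ × A) : (dbl T S).β p p' = T.β p.1 p'.1 + S.β p.2 p'.2 := rfl

theorem dbl_ω (p p' : A₂ × A) : (dbl T S).ω p p' = T.ω p.1 p'.1 + S.ω p.2 p'.2 := by
  simp only [ω_apply, dbl_β]; ring

theorem dbl_q (p : A₂ × A) : (dbl T S).q p = T.q p.1 + S.q p.2 := rfl

end Sys

/-- the bilinear form with given coefficients on pairs of bits -/
def cocycle (x y z w : ZMod 2) : LinearMap.BilinForm (ZMod 2) (ZMod 2 × ZMod 2) :=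
  LinearMap.mk₂ (ZMod 2) (fun p p' => x * (p.1 * p'.1) + y * (p.1 * p'.2) + z * (p.2 * p'.1) + w * (p.2 * p'.2))
    (fun p p' r => by simp only [Prod.fst_add, Prod.snd_add]; ring)
    (fun c p r => by simp only [Prod.smul_fst, Prod.smul_snd, smul_eq_mul]; ring)
    (fun p p' r => by simp only [Prod.fst_add, Prod.snd_add]; ring)
    (fun c p r => by simp only [Prod.smul_fst, Prod.smul_snd, smul_eq_mul]; ring)

/-- the matrix `[[a, b], [b, -a]]` -/
def refl2 (a b : F) : Matrix (Fin 2) (Fin 2) F := !![a, b; b, -a]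

/-- the rotation `[[0, -1], [1, 0]]` -/
def rot2 : Matrix (Fin 2) (Fin 2) F := !![0, -1; 1, 0]

/-- a system of dimension two from two anticommuting matrices of trace zero -/
def two (h2 : (2 : F) ≠ 0) (X Z : Matrix (Fin 2) (Fin 2) F) (x w : ZMod 2)
    (hX : X * X = sgn F x • 1) (hZ : Z * Z = sgn F w • 1) (hZX : Z * X = -(X * Z)) (tX : X.trace = 0)
    (tZ : Z.trace = 0) (tXZ : (X * Z).trace = 0) : Sys (ZMod 2 × ZMod 2) (Fin 2) F where
  e p := (if p.1 = 0 then 1 else X) * (if p.2 = 0 then 1 else Z)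
  β := cocycle x 0 1 w
  two_ne := h2
  card_ne := by simpa using h2
  e_zero := by simp
  e_mul p p' := by
    have hXX : ∀ Y, X * (X * Y) = sgn F x • Y := fun Y => by rw [← mul_assoc, hX, Matrix.smul_mul, one_mul]
    have hZXY : ∀ Y, Z * (X * Y) = -(X * (Z * Y)) := fun Y => by rw [← mul_assoc, hZX, neg_mul, mul_assoc]
    obtain ⟨a, b⟩ := p
    obtain ⟨a', b'⟩ := p'
    rcases z2_cases a with rfl | rfl <;> rcases z2_cases b with rfl | rfl <;>
      rcases z2_cases a' with rfl | rfl <;> rcases z2_cases b' with rfl | rfl <;>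
      simp [cocycle, show (1 : ZMod 2) + 1 = 0 from rfl, sgn_add, mul_assoc, hX, hZ, hXX, hZXY, hZX, smul_smul, mul_comm (sgn F x)]
  trace_eq p hp := by
    obtain ⟨a, b⟩ := p
    rcases z2_cases a with rfl | rfl <;> rcases z2_cases b with rfl | rfl <;> simp [tX, tZ, tXZ] at hp ⊢
  card_eq := by simp
  nondeg p hp := by
    obtain ⟨a, b⟩ := p
    have h1 := hp (1, 0)
    have h2' := hp (0, 1)
    simp [cocycle] at h1 h2'
    rcases z2_cases a with rfl | rfl <;> rcases z2_cases b with rfl | rfl <;> rcases z2_cases x with rfl | rfl <;>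
      rcases z2_cases w with rfl | rfl <;> first | rfl | (exfalso; revert h1 h2'; decide)

/-- the system generated by the swap and `diag (1, -1)` -/
def twoPlus (h2 : (2 : F) ≠ 0) : Sys (ZMod 2 × ZMod 2) (Fin 2) F :=
  two h2 !![0, 1; 1, 0] !![1, 0; 0, -1] 0 0
    (by ext i j; fin_cases i <;> fin_cases j <;> simp [Matrix.mul_apply, Fin.sum_univ_two])
    (by ext i j; fin_cases i <;> fin_cases j <;> simp [Matrix.mul_apply, Fin.sum_univ_two])
    (by ext i j; fin_cases i <;> fin_cases j <;> simp [Matrix.mul_apply, Fin.sum_univ_two])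
    (by simp [Matrix.trace, Fin.sum_univ_two]) (by simp [Matrix.trace, Fin.sum_univ_two])
    (by simp [Matrix.trace, Fin.sum_univ_two])

/-- the quaternion system for `a² + b² = -1` -/
def twoMinus (h2 : (2 : F) ≠ 0) (a b : F) (h : a * a + b * b = -1) : Sys (ZMod 2 × ZMod 2) (Fin 2) F :=
  two h2 rot2 (refl2 a b) 1 1
    (by ext i j; fin_cases i <;> fin_cases j <;> simp [rot2, Matrix.mul_apply, Fin.sum_univ_two])
    (by ext i j; fin_cases i <;> fin_cases j <;> simp [refl2, Matrix.mul_apply, Fin.sum_univ_two] <;>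
      first | ring1 | linear_combination h)
    (by ext i j; fin_cases i <;> fin_cases j <;> simp [rot2, refl2, Matrix.mul_apply, Fin.sum_univ_two])
    (by simp [rot2, Matrix.trace, Fin.sum_univ_two]) (by simp [refl2, Matrix.trace, Fin.sum_univ_two])
    (by simp [rot2, refl2, Matrix.trace, Fin.sum_univ_two])

/-- the symplectic form on the first factor, for the minus type -/
theorem refl2_adjoint (a b : F) : (refl2 a b)ᵀ * rot2 = -(rot2 * refl2 a b) := by
  ext i j; fin_cases i <;> fin_cases j <;> simp [rot2, refl2, Matrix.mul_apply, Fin.sum_univ_two]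

end Cfsg.Agent.Forms.Max.TwoGroup
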