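import Cfsg.Agent.Lib.Forms.Max.TwoGroup.Complex
import Cfsg.Agent.Lib.Forms.Max.TwoGroup.Extract

/-!
# Normalisers of `4 ∘ 2^{1+2m}` in the special linear and unitary groups, from the dichotomy

The group gives a system of monomials; its normaliser is the normaliser of the lines, so the maximality statement of
the complex kind applies. The dichotomy is taken as a hypothesis.
-/

set_option autoImplicit false
set_option linter.unusedSectionVars false

namespace Cfsg.Agent.Forms.Max.TwoGroup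

open Matrix

variable {F : Type*} [Field F] [Fintype F] {n : ℕ}

theorem card_vectors (m : ℕ) (hm : 3 ≤ m) : 64 ≤ Fintype.card (Fin (2 * m) → ZMod 2) := by
  rw [Fintype.card_fun, ZMod.card, Fintype.card_fin]
  calc 64 = 2 ^ 6 := by norm_num
    _ ≤ _ := Nat.pow_le_pow_right two_pos (by omega)

/-- the linear case -/
theorem maximal_linear {p : ℕ} (hp : p.Prime) (hF : Fintype.card F = p) (hp4 : p % 4 = 1) {m : ℕ} (hm : 3 ≤ m)
    {R : Subgroup (GL (Fin n) F)} (hRs : Cfsg.Geo.IsSymplecticTypeGroup 2 R)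
    (hRi : Cfsg.Geo.ActsAbsolutelyIrreducibly (Cfsg.Geo.matrixSet R)) (hR : Nat.card R = 2 ^ (2 + 2 * m))
    (hZ : Nat.card (Subgroup.center R) = 4)
    (hdich : ∀ S : Sys (Fin (2 * m) → ZMod 2) (Fin n) F, Cx (RingHom.id F) (0 : Matrix (Fin n) (Fin n) F) →
      (∀ a, S.u a ∈ isoGrp (RingHom.id F) (0 : Matrix (Fin n) (Fin n) F)) →
      S.Dich (RingHom.id F) (0 : Matrix (Fin n) (Fin n) F)) :
    Cfsg.Geo.IsMaximalIn (Cfsg.Geo.specialLinear (Fin n) F)
      (Cfsg.Geo.subgroupNormalizer R ⊓ Cfsg.Geo.specialLinear (Fin n) F) := by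
  have h2 : (2 : F) ≠ 0 := fun h => by
    have : CharP F p := by
      have : Fact p.Prime := ⟨hp⟩
      exact charP_of_card_eq_prime hF
    have := Nat.le_of_dvd two_pos ((CharP.cast_eq_zero_iff F p 2).1 (by exact_mod_cast h))
    have := hp.two_le
    omega
  obtain ⟨S, i, -, -, hu, hdec, hall⟩ := exists_sys_four h2 hRs hRi hR hZ
  have hk : Cx (RingHom.id F) (0 : Matrix (Fin n) (Fin n) F) := Or.inl ⟨rfl, rfl, hF ▸ hp, by rw [hF]; exact hp4⟩
  have hiso : ∀ a, S.u a ∈ isoGrp (RingHom.id F) (0 : Matrix (Fin n) (Fin n) F) := fun a => by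
    rw [isoGrp_zero]; trivial
  have hbig : big (RingHom.id F) (0 : Matrix (Fin n) (Fin n) F) = Cfsg.Geo.specialLinear (Fin n) F := by
    rw [big, isoGrp_zero, top_inf_eq]; rfl
  have hN := normalizer_eq_four S hu (fun g hg => by
    obtain ⟨a, c, -, h⟩ := hdec g hg
    exact ⟨a, c, h⟩) hall
  have h := S.isMaximalIn_of_dich hk hiso (card_vectors m hm) (hdich S hk hiso)
  rw [hbig] at h
  rwa [hN]

/-- the unitary case -/
theorem maximal_unitary {p : ℕ} (hp : p.Prime) (hF : Fintype.card F = p ^ 2) (hp4 : p % 4 = 3) {m : ℕ} (hm : 3 ≤ m)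
    {R : Subgroup (GL (Fin n) F)} (hRs : Cfsg.Geo.IsSymplecticTypeGroup 2 R)
    (hRi : Cfsg.Geo.ActsAbsolutelyIrreducibly (Cfsg.Geo.matrixSet R)) (hRU : R ≤ Cfsg.GU n F p)
    (hR : Nat.card R = 2 ^ (2 + 2 * m)) (hZ : Nat.card (Subgroup.center R) = 4)
    (hdich : ∀ S : Sys (Fin (2 * m) → ZMod 2) (Fin n) F,
      Cx (Cfsg.Agent.Forms.HermStd.qHom hF) (1 : Matrix (Fin n) (Fin n) F) →
      (∀ a, S.u a ∈ isoGrp (Cfsg.Agent.Forms.HermStd.qHom hF) (1 : Matrix (Fin n) (Fin n) F)) →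
      S.Dich (Cfsg.Agent.Forms.HermStd.qHom hF) (1 : Matrix (Fin n) (Fin n) F)) :
    Cfsg.Geo.IsMaximalIn (Cfsg.GU n F p ⊓ Cfsg.Geo.specialLinear (Fin n) F)
      (Cfsg.Geo.subgroupNormalizer R ⊓ (Cfsg.GU n F p ⊓ Cfsg.Geo.specialLinear (Fin n) F)) := by
  have h2 : (2 : F) ≠ 0 := fun h => by
    have : Fact p.Prime := ⟨hp⟩
    have : CharP F p := charP_of_card_eq_prime_pow hF
    have := Nat.le_of_dvd two_pos ((CharP.cast_eq_zero_iff F p 2).1 (by exact_mod_cast h))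
    have := hp.two_le
    omega
  obtain ⟨S, i, -, -, hu, hdec, hall⟩ := exists_sys_four h2 hRs hRi hR hZ
  set σ := Cfsg.Agent.Forms.HermStd.qHom hF
  have hk : Cx σ (1 : Matrix (Fin n) (Fin n) F) :=
    Or.inr ⟨rfl, p, hp, hp4, hF, fun x => Cfsg.Agent.Forms.HermStd.qHom_apply hF x⟩
  have hGU : isoGrp σ (1 : Matrix (Fin n) (Fin n) F) = Cfsg.GU n F p := by
    ext g
    rw [Cfsg.Agent.Classical.UnitaryConj.mem_GU_iff hF, mem_isoGrp, mul_one]
    rfl
  have hiso : ∀ a, S.u a ∈ isoGrp σ (1 : Matrix (Fin n) (Fin n) F) := fun a => hGU ▸ hRU (hu a)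
  have hbig : big σ (1 : Matrix (Fin n) (Fin n) F) = Cfsg.GU n F p ⊓ Cfsg.Geo.specialLinear (Fin n) F := by
    rw [big, hGU]; rfl
  have hN := normalizer_eq_four S hu (fun g hg => by
    obtain ⟨a, c, -, h⟩ := hdec g hg
    exact ⟨a, c, h⟩) hall
  have h := S.isMaximalIn_of_dich hk hiso (card_vectors m hm) (hdich S hk hiso)
  rw [hbig] at h
  rwa [hN]

end Cfsg.Agent.Forms.Max.TwoGroup
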