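import Mathlib

/-!
# An abelian normal subgroup of a subgroup controlling centralisers

`A` is an elementary abelian 2-subgroup normalised by `N`; the centraliser of each of its non-identity elements lies
in `N`, and an element conjugating such an element into `N` lies in `N`. With one further involution of `N` this
forces `N` to be the whole group. No classification is used: two conjugates from different subgroups generate a
dihedral group of twice odd order.
-/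

set_option autoImplicit false
set_option linter.unusedSectionVars false

namespace Cfsg.Agent.Forms.Max.TwoGroup

variable {G : Type*} [Group G] [Finite G]

/-- the hypotheses -/
structure Ctrl (A N : Subgroup G) : Prop where
  le : A ≤ N
  norm : ∀ g ∈ N, ∀ a ∈ A, g * a * g⁻¹ ∈ A
  comm : ∀ a ∈ A, ∀ b ∈ A, a * b = b * a
  sq : ∀ a ∈ A, a * a = 1
  cent : ∀ a ∈ A, a ≠ 1 → ∀ g : G, g * a = a * g → g ∈ N
  wc : ∀ a ∈ A, a ≠ 1 → ∀ g : G, g * a * g⁻¹ ∈ N → g ∈ N

variable {A N : Subgroup G}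

theorem inv_eq {x : G} (hx : x * x = 1) : x⁻¹ = x := inv_eq_of_mul_eq_one_right hx

theorem flip_pow {x y : G} (hx : x * x = 1) (hy : y * y = 1) (k : ℕ) : (x * y) ^ k * x = x * ((x * y) ^ k)⁻¹ := by
  have h : SemiconjBy x (x * y)⁻¹ (x * y) := by
    show x * (x * y)⁻¹ = x * y * x
    rw [mul_inv_rev, inv_eq hx, inv_eq hy, mul_assoc]
  rw [← inv_pow]
  exact (h.pow_right k).eq.symm

theorem conj_pow_x {x y : G} (hx : x * x = 1) (hy : y * y = 1) (k : ℕ) :
    (x * y) ^ k * x * ((x * y) ^ k)⁻¹ = (x * y) ^ (2 * k) * x := by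
  rw [mul_assoc, ← flip_pow hx hy k, ← mul_assoc, two_mul, pow_add]

/-- the case of an even order: the central involution of the dihedral group -/
theorem exists_central {x y : G} (hx : x * x = 1) (hy : y * y = 1) (he : Even (orderOf (x * y))) :
    ∃ u : G, u ≠ 1 ∧ u * u = 1 ∧ u * x = x * u ∧ u * y = y * u ∧
      ((∃ g : G, u * x = g * x * g⁻¹) ∨ (∃ g : G, u * x = g * y * g⁻¹)) := by
  obtain ⟨j, hj⟩ := he
  have hpos : 0 < orderOf (x * y) := orderOf_pos (x * y)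
  set w := x * y with hw
  have hu2 : w ^ j * w ^ j = 1 := by rw [← pow_add, ← hj, pow_orderOf_eq_one]
  have hux : w ^ j * x = x * w ^ j := by rw [flip_pow hx hy j, inv_eq hu2]
  have hwu : w ^ j * w = w * w ^ j := by rw [← pow_succ, pow_succ']
  have hyw : y = x * w := by rw [hw, ← mul_assoc, hx, one_mul]
  refine ⟨w ^ j, fun h => ?_, hu2, hux, ?_, ?_⟩
  · have := Nat.le_of_dvd (by omega) (orderOf_dvd_of_pow_eq_one h)
    omega
  · rw [hyw, ← mul_assoc, hux, mul_assoc, hwu, ← mul_assoc]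
  · rcases Nat.even_or_odd' j with ⟨k, hk | hk⟩
    · exact Or.inl ⟨w ^ k, by rw [conj_pow_x hx hy k, hk]⟩
    · refine Or.inr ⟨w ^ k * x, ?_⟩
      have h1 : x * y * x⁻¹ = w * x := by rw [inv_eq hx]
      calc w ^ j * x = w ^ (2 * k) * (w * x) := by rw [hk, pow_succ, mul_assoc]
        _ = w ^ k * (w * x) * (w ^ k)⁻¹ := by
          rw [mul_assoc (w ^ k), mul_assoc w, ← flip_pow hx hy k, ← mul_assoc w, ← pow_succ',
            ← mul_assoc (w ^ k), ← pow_add, two_mul]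
          rw [← mul_assoc, ← pow_succ]; ring_nf
        _ = _ := by rw [← h1, mul_inv_rev]; group

namespace Ctrl

variable (S : Ctrl A N)

include S

theorem inv_mem_norm {g : G} (hg : g ∈ N) {a : G} (ha : a ∈ A) : g⁻¹ * a * g ∈ A := by
  simpa using S.norm g⁻¹ (N.inv_mem hg) a ha

/-- conjugates from outside generate dihedral groups of twice odd order -/
theorem odd_order {a b h : G} (ha : a ∈ A) (ha1 : a ≠ 1) (hb : b ∈ A) (hb1 : b ≠ 1) (hh : h ∉ N) :
    Odd (orderOf (a * (h * b * h⁻¹))) := by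
  rw [← Nat.not_even_iff_odd]
  intro he
  set y := h * b * h⁻¹ with hy
  have hy2 : y * y = 1 := by rw [hy, show h * b * h⁻¹ * (h * b * h⁻¹) = h * (b * b) * h⁻¹ by group, S.sq b hb]; group
  obtain ⟨u, hu1, -, hua, huy, hc⟩ := exists_central (S.sq a ha) hy2 he
  have huN : u ∈ N := S.cent a ha ha1 u hua
  have huaN : u * a ∈ N := N.mul_mem huN (S.le ha)
  have huA : u ∈ A := by
    have key : ∀ g c : G, c ∈ A → c ≠ 1 → u * a = g * c * g⁻¹ → u * a ∈ A := fun g c hc hc1 e =>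
      e ▸ S.norm g (S.wc c hc hc1 g (e ▸ huaN)) c hc
    have hmem : u * a ∈ A := by
      rcases hc with ⟨g, e⟩ | ⟨g, e⟩
      · exact key g a ha ha1 e
      · exact key (g * h) b hb hb1 (by rw [e, hy]; group)
    have e : u = u * a * a := by rw [mul_assoc, S.sq a ha, mul_one]
    exact e ▸ A.mul_mem hmem ha
  exact hh (S.wc b hb hb1 h (S.cent u huA hu1 y huy.symm))

/-- an involution with two unfused fixed elements of `A` has its centraliser in `N` -/
theorem cent_of_unfused {u : G} (hu : u ∈ N) {a b : G} (ha : a ∈ A) (ha1 : a ≠ 1) (hua : u * a = a * u)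
    (hb : b ∈ A) (hb1 : b ≠ 1) (hub : u * b = b * u)
    (hnf : ∀ g ∈ N, g * u = u * g → g * a * g⁻¹ ≠ b) {g : G} (hg : g * u = u * g) : g ∈ N := by
  by_contra hgN
  set y := g * a * g⁻¹ with hy
  have huy : u * y = y * u := by
    have h1 : g⁻¹ * u = u * g⁻¹ := by
      calc g⁻¹ * u = g⁻¹ * (u * g) * g⁻¹ := by group
        _ = g⁻¹ * (g * u) * g⁻¹ := by rw [hg]
        _ = _ := by group
    rw [hy]
    calc u * (g * a * g⁻¹) = (u * g) * a * g⁻¹ := by group
      _ = g * (u * a) * g⁻¹ := by rw [← hg]; group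
      _ = g * a * (u * g⁻¹) := by rw [hua]; group
      _ = g * a * (g⁻¹ * u) := by rw [h1]
      _ = _ := by group
  have mk : ∀ c ∈ A, c ≠ 1 → u * c = c * u → ∃ d : G, d * u = u * d ∧ d * c * d⁻¹ = y := by
    intro c hc hc1 huc
    obtain ⟨k, hk⟩ := S.odd_order hc hc1 ha ha1 hgN
    rw [← hy] at hk
    have hy2 : y * y = 1 := by rw [hy, show g * a * g⁻¹ * (g * a * g⁻¹) = g * (a * a) * g⁻¹ by group, S.sq a ha]; group
    set w := c * y with hw
    have hwu : Commute w u := (Commute.mul_left (show Commute c u from huc.symm) huy.symm)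
    refine ⟨w ^ k, (hwu.pow_left k).eq, ?_⟩
    rw [hw, conj_pow_x (S.sq c hc) hy2 k, ← hw]
    have h1 : w ^ (2 * k) * w = 1 := by rw [← pow_succ, ← hk, pow_orderOf_eq_one]
    have h2 : w ^ (2 * k) = w⁻¹ := eq_inv_of_mul_eq_one_left h1
    rw [h2, hw, mul_inv_rev, inv_eq (S.sq c hc), inv_eq hy2, mul_assoc, S.sq c hc, mul_one]
  obtain ⟨d, hdu, hd⟩ := mk a ha ha1 hua
  obtain ⟨d', hd'u, hd'⟩ := mk b hb hb1 hub
  have h1 : g⁻¹ * d ∈ N := S.wc a ha ha1 _ (by
    rw [show g⁻¹ * d * a * (g⁻¹ * d)⁻¹ = g⁻¹ * (d * a * d⁻¹) * g by group, hd, hy]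
    simpa [mul_assoc] using S.le ha)
  have h2 : g⁻¹ * d' ∈ N := S.wc b hb hb1 _ (by
    rw [show g⁻¹ * d' * b * (g⁻¹ * d')⁻¹ = g⁻¹ * (d' * b * d'⁻¹) * g by group, hd', hy]
    simpa [mul_assoc] using S.le ha)
  have h3 : d'⁻¹ * d ∈ N := by
    have := N.mul_mem (N.inv_mem h2) h1
    simpa [mul_assoc] using this
  refine hnf _ h3 ?_ ?_
  · exact (((show Commute d' u from hd'u).inv_left).mul_left (show Commute d u from hdu)).eq
  · rw [show d'⁻¹ * d * a * (d'⁻¹ * d)⁻¹ = d'⁻¹ * (d * a * d⁻¹) * d' by group, hd, ← hd']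
    group

/-- `N` is the whole group -/
theorem eq_top {z : G} (hz : z ∈ N) (hzA : z ∉ A) (hz2 : z * z = 1)
    {a0 b0 : G} (ha0 : a0 ∈ A) (hb0 : b0 ∈ A) (ha01 : a0 ≠ 1) (hb01 : b0 ≠ 1)
    (hza : z * a0 = a0 * z) (hzb : z * b0 = b0 * z)
    (hin : ∃ c ∈ A, a0 = c * z * c⁻¹ * z⁻¹) (hout : ∀ c ∈ A, b0 ≠ c * z * c⁻¹ * z⁻¹)
    (hfix : ∀ x : G, x ∈ N → ∃ a ∈ A, a ≠ 1 ∧ (x * x = 1 → x * a = a * x)) : N = ⊤ := by
  -- centralisers of the conjugates of `z` times elements of `A`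
  have hcent : ∀ k ∈ N, ∀ a ∈ A, (k * z * k⁻¹) * a = a * (k * z * k⁻¹) →
      ∀ g : G, g * ((k * z * k⁻¹) * a) = ((k * z * k⁻¹) * a) * g → g ∈ N := by
    intro k hk a ha hca g hg
    set s := k * z * k⁻¹ with hs
    have hcom : ∀ c ∈ A, c * s = s * c → c * (s * a) = (s * a) * c := fun c hc e => by
      rw [← mul_assoc, e, mul_assoc, S.comm c hc a ha, ← mul_assoc]
    have hbr : ∀ c ∈ A, c * (s * a) * c⁻¹ * (s * a)⁻¹ = c * s * c⁻¹ * s⁻¹ := fun c hc => by
      have e : a * c⁻¹ = c⁻¹ * a := S.comm a ha _ (A.inv_mem hc)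
      calc c * (s * a) * c⁻¹ * (s * a)⁻¹ = c * s * (a * c⁻¹) * a⁻¹ * s⁻¹ := by group
        _ = c * s * (c⁻¹ * a) * a⁻¹ * s⁻¹ := by rw [e]
        _ = _ := by group
    have hk1 : ∀ c : G, k * c * k⁻¹ * s = s * (k * c * k⁻¹) ↔ c * z = z * c := fun c => by
      rw [hs]
      constructor
      · intro e
        have := congrArg (fun t => k⁻¹ * t * k) e
        simpa [mul_assoc] using this
      · intro e
        calc k * c * k⁻¹ * (k * z * k⁻¹) = k * (c * z) * k⁻¹ := by group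
          _ = k * (z * c) * k⁻¹ := by rw [e]
          _ = _ := by group
    refine S.cent_of_unfused (u := s * a) (N.mul_mem (N.mul_mem (N.mul_mem hk hz) (N.inv_mem hk)) (S.le ha))
      (S.norm k hk a0 ha0) (by simpa using ha01)
      ((hcom _ (S.norm k hk a0 ha0) ((hk1 a0).2 hza.symm)).symm)
      (S.norm k hk b0 hb0) (by simpa using hb01)
      ((hcom _ (S.norm k hk b0 hb0) ((hk1 b0).2 hzb.symm)).symm) ?_ hg
    intro n hn hnu e
    obtain ⟨c, hc, hc0⟩ := hin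
    have hkc := S.norm k hk c hc
    have hA1 : k * a0 * k⁻¹ = (k * c * k⁻¹) * (s * a) * (k * c * k⁻¹)⁻¹ * (s * a)⁻¹ := by
      rw [hbr _ hkc, hs, hc0]; group
    have hkb : k * b0 * k⁻¹ = (n * (k * c * k⁻¹) * n⁻¹) * (s * a) * (n * (k * c * k⁻¹) * n⁻¹)⁻¹ * (s * a)⁻¹ := by
      have hn' : n * (s * a) * n⁻¹ = s * a := by rw [hnu]; group
      rw [← e, hA1]
      calc n * (k * c * k⁻¹ * (s * a) * (k * c * k⁻¹)⁻¹ * (s * a)⁻¹) * n⁻¹
          = (n * (k * c * k⁻¹) * n⁻¹) * (n * (s * a) * n⁻¹) * (n * (k * c * k⁻¹) * n⁻¹)⁻¹ *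
            (n * (s * a) * n⁻¹)⁻¹ := by group
        _ = _ := by rw [hn']
    have hd := S.norm n hn _ hkc
    rw [hbr _ hd] at hkb
    refine hout _ (S.inv_mem_norm hk hd) ?_
    rw [hs] at hkb
    have := congrArg (fun t => k⁻¹ * t * k) hkb
    simpa [mul_assoc] using this
  have hcentz : ∀ g : G, g * z = z * g → g ∈ N := by
    simpa using hcent 1 N.one_mem 1 A.one_mem (by simp)
  -- an element conjugating `z` into `N` lies in `N`
  have wcz : ∀ g : G, g * z * g⁻¹ ∈ N → g ∈ N := fun g hg => by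
    obtain ⟨a, ha, ha1, hcomm⟩ := hfix _ hg
    have h2 : g * z * g⁻¹ * (g * z * g⁻¹) = 1 := by
      rw [show g * z * g⁻¹ * (g * z * g⁻¹) = g * (z * z) * g⁻¹ by group, hz2]; group
    have h1 : g⁻¹ * a * g ∈ N := hcentz _ (by
      have := congrArg (fun t => g⁻¹ * t * g) (hcomm h2)
      simpa [mul_assoc] using this.symm)
    exact by simpa using N.inv_mem (S.wc a ha ha1 g⁻¹ (by simpa using h1))
  rw [Subgroup.eq_top_iff']
  intro h
  by_contra hh
  set y := h * z * h⁻¹ with hy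
  have hy2 : y * y = 1 := by rw [hy, show h * z * h⁻¹ * (h * z * h⁻¹) = h * (z * z) * h⁻¹ by group, hz2]; group
  rcases Nat.even_or_odd (orderOf (a0 * y)) with he | ⟨k, hk⟩
  · obtain ⟨u, hu1, -, hua, huy, hc⟩ := exists_central (S.sq a0 ha0) hy2 he
    have huN : u ∈ N := S.cent a0 ha0 ha01 u hua
    have huaN : u * a0 ∈ N := N.mul_mem huN (S.le ha0)
    have e0 : u = u * a0 * a0 := by rw [mul_assoc, S.sq a0 ha0, mul_one]
    refine hh (wcz h ?_)
    rcases hc with ⟨g, e⟩ | ⟨g, e⟩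
    · exact S.cent u (e0 ▸ A.mul_mem (e ▸ S.norm g (S.wc a0 ha0 ha01 g (e ▸ huaN)) a0 ha0) ha0) hu1 y huy.symm
    · have e' : u * a0 = g * h * z * (g * h)⁻¹ := by rw [e, hy]; group
      refine hcent (g * h) (wcz _ (e' ▸ huaN)) a0 ha0 ?_ y ?_
      · rw [← e', hua, mul_assoc, hua, ← mul_assoc]
      · rw [← e', ← e0, huy]
  · set w := a0 * y with hw
    have h1 : w ^ (2 * k) * w = 1 := by rw [← pow_succ, ← hk, pow_orderOf_eq_one]
    have e : (w ^ k) * a0 * (w ^ k)⁻¹ = y := by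
      rw [hw, conj_pow_x (S.sq a0 ha0) hy2 k, ← hw, eq_inv_of_mul_eq_one_left h1, hw, mul_inv_rev,
        inv_eq (S.sq a0 ha0), inv_eq hy2, mul_assoc, S.sq a0 ha0, mul_one]
    have e' : z = (h⁻¹ * w ^ k) * a0 * (h⁻¹ * w ^ k)⁻¹ := by
      rw [show h⁻¹ * w ^ k * a0 * (h⁻¹ * w ^ k)⁻¹ = h⁻¹ * (w ^ k * a0 * (w ^ k)⁻¹) * h by group, e, hy]; group
    exact hzA (e' ▸ S.norm _ (S.wc a0 ha0 ha01 _ (e' ▸ hz)) a0 ha0)

end Ctrl

end Cfsg.Agent.Forms.Max.TwoGroup
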