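import Cfsg.Agent.Lib.Forms.Max.TwoGroup.Isometry
import Cfsg.Agent.Lib.Forms.Max.OrthBase
import Cfsg.Agent.Lib.Forms.Max.Symp
import Cfsg.Agent.Lib.Forms.Bases

/-!
# Generation of orthogonal and symplectic groups by the root elements of complex structures

In the orthogonal case skew-adjoint matrices of square minus one spanning all skew-adjoint matrices give all Eichler
transformations. In the symplectic case an anticommuting pair is enough: commutators of their root elements are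
transvections, and the centres obtained are connected and span the space.
-/

set_option autoImplicit false
set_option linter.unusedSectionVars false
set_option linter.unusedSimpArgs false

namespace Cfsg.Agent.Forms.Max.TwoGroup

open Matrix

variable {F : Type*} [Field F]

section orth

open Cfsg.Agent.Classical.Orth Cfsg.Agent.Forms.Reflections

variable {ι : Type} [Fintype ι] [DecidableEq ι]

theorem vecMul_of_symm {Φ : Matrix ι ι F} (hs : Φᵀ = Φ) (x : ι → F) : x ᵥ* Φ = Φ *ᵥ x := by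
  conv_lhs => rw [← hs, Matrix.vecMul_transpose]

theorem form_comm {Φ : Matrix ι ι F} (hs : Φᵀ = Φ) (x y : ι → F) : x ⬝ᵥ Φ *ᵥ y = y ⬝ᵥ Φ *ᵥ x := by
  rw [Matrix.dotProduct_mulVec, vecMul_of_symm hs, dotProduct_comm]

/-- generation of the orthogonal group -/
theorem omega_le_of_roots [Finite F] (h2 : (2 : F) ≠ 0) (hn : 5 ≤ Fintype.card ι) {Φ : Matrix ι ι F}
    (hs : Φᵀ = Φ) (hd : IsUnit Φ) (J : Set (Matrix ι ι F))
    (hJ : ∀ X ∈ J, X * X = -1 ∧ Xᵀ * Φ = -(Φ * X))
    (hspan : ∀ X : Matrix ι ι F, Xᵀ * Φ = -(Φ * X) → X ∈ Submodule.span F J) {M : Subgroup (GL ι F)}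
    (hM : ∀ X ∈ J, ∀ u : ι → F, u ⬝ᵥ Φ *ᵥ u = 0 → ∀ g : GL ι F,
      (∀ x, (g : Matrix ι ι F) *ᵥ x = x + (x ⬝ᵥ Φ *ᵥ u) • (X *ᵥ u) - (x ⬝ᵥ Φ *ᵥ (X *ᵥ u)) • u) → g ∈ M) :
    Cfsg.Geo.omegaGL (fun x => x ⬝ᵥ Φ *ᵥ x) ≤ M := by
  cases nonempty_fintype F
  let Q : QuadraticForm F (ι → F) := (Matrix.toBilin' Φ).toQuadraticMap
  have hQ0 : ∀ x, Q x = x ⬝ᵥ Φ *ᵥ x := fun x => Matrix.toBilin'_apply' Φ x x
  have hB : ∀ x y, QuadraticMap.polar Q x y = 2 * (x ⬝ᵥ Φ *ᵥ y) := fun x y => by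
    rw [QuadraticMap.polar, hQ0, hQ0, hQ0, mulVec_add, add_dotProduct, dotProduct_add, dotProduct_add,
      form_comm hs y x]
    ring
  have hinj := Matrix.mulVec_injective_of_isUnit hd
  have hnd : ∀ x, (∀ y, QuadraticMap.polar Q x y = 0) → x = 0 := fun x hx => by
    have h0 : Φ *ᵥ x = 0 := by
      funext i
      have := hx (Pi.single i 1)
      rw [hB, form_comm hs, single_dotProduct, one_mul] at this
      exact (mul_eq_zero.1 this).resolve_left h2
    exact hinj (h0.trans (mulVec_zero Φ).symm)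
  have hQ : (QuadraticMap.polarBilin Q).Nondegenerate :=
    ⟨hnd, fun y hy => hnd y fun x => (QuadraticMap.polar_comm _ y x).trans (hy x)⟩
  have hfun : (fun x => x ⬝ᵥ Φ *ᵥ x) = ⇑Q := funext fun x => (hQ0 x).symm
  rw [hfun]
  let M' : Subgroup (Cfsg.isometryGroup F ⇑Q) := M.comap (Cfsg.isometryGroup F ⇑Q).subtype
  have hle : Cfsg.Omega F ⇑Q ≤ M' := Orth.omega_le_of_centres hQ hn fun u hu0 hu => by
    refine ⟨hu, fun w hu' huw => ?_⟩
    let L : Submodule F (ι → F) :=
      { carrier := {w | ∃ h : QuadraticMap.polar Q u w = 0, ∀ c : F,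
          eich u (c • w) hu (by rw [QuadraticMap.polar_smul_right, h, smul_zero]) ∈ M'}
        add_mem' := by
          rintro a b ⟨ha, ha'⟩ ⟨hb, hb'⟩
          refine ⟨by rw [QuadraticMap.polar_add_right, ha, hb, add_zero], fun c => ?_⟩
          rw [eich_congr (smul_add c a b), ← eich_mul hu (by rw [QuadraticMap.polar_smul_right, ha, smul_zero])
            (by rw [QuadraticMap.polar_smul_right, hb, smul_zero])]
          exact mul_mem (ha' c) (hb' c)
        zero_mem' := ⟨QuadraticMap.polar_zero_right _ _, fun c => by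
          rw [eich_congr (smul_zero c), eich_zero_right]; exact one_mem _⟩
        smul_mem' := by
          rintro s a ⟨ha, ha'⟩
          refine ⟨by rw [QuadraticMap.polar_smul_right, ha, smul_zero], fun c => ?_⟩
          rw [eich_congr (smul_smul c s a)]
          exact ha' _ }
    suffices hw : w ∈ L by
      obtain ⟨_, hw⟩ := hw
      simpa only [one_smul] using hw 1
    have hu2 : u ⬝ᵥ Φ *ᵥ u = 0 := (hQ0 u).symm.trans hu
    have hroot : ∀ X ∈ J, X *ᵥ u ∈ L := by
      intro X hX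
      obtain ⟨hXX, hXs⟩ := hJ X hX
      have hadj : ∀ a b, (X *ᵥ a) ⬝ᵥ Φ *ᵥ b = -(a ⬝ᵥ Φ *ᵥ (X *ᵥ b)) := fun a b => by
        rw [Matrix.dotProduct_mulVec, Matrix.vecMul_mulVec, ← Matrix.dotProduct_mulVec, hXs, neg_mulVec,
          dotProduct_neg, mulVec_mulVec]
      have huX : u ⬝ᵥ Φ *ᵥ (X *ᵥ u) = 0 := by
        have h := hadj u u
        rw [form_comm hs] at h
        refine (mul_eq_zero.1 (?_ : (2 : F) * _ = 0)).resolve_left h2
        linear_combination h
      have hXX' : (X *ᵥ u) ⬝ᵥ Φ *ᵥ (X *ᵥ u) = 0 := by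
        rw [hadj, mulVec_mulVec u X X, hXX, neg_mulVec, one_mulVec, mulVec_neg, dotProduct_neg, hu2, neg_zero,
          neg_zero]
      have hpol : ∀ t : F, QuadraticMap.polar Q u (t • (X *ᵥ u)) = 0 := fun t => by
        rw [QuadraticMap.polar_smul_right, hB, huX, mul_zero, smul_zero]
      have hsq : ∀ s : F, eich u ((s * s / 2) • (X *ᵥ u)) hu (hpol _) ∈ M' := by
        intro s
        refine hM X hX (s • u) (by rw [mulVec_smul, dotProduct_smul, smul_dotProduct, hu2, smul_zero, smul_zero]) _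
          fun x => ?_
        have he := act_eich hu (hpol (s * s / 2)) x
        rw [act_apply] at he
        refine Eq.trans he ?_
        rw [hB, hB, Classical.Orth.map_smul', hQ0 (X *ᵥ u), hXX']
        simp only [mulVec_smul, dotProduct_smul, smul_eq_mul, smul_smul, mul_zero, zero_mul, zero_smul, sub_zero]
        congr 1
        · congr 2
          field_simp
        · congr 1
          field_simp
      refine ⟨by rw [hB, huX, mul_zero], fun c => ?_⟩
      obtain ⟨s, t, hst⟩ := Bases.exists_sq_add_sq h2 (one_ne_zero : (1 : F) ≠ 0) one_ne_zero (2 * c)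
      have e : c • (X *ᵥ u) = (s * s / 2) • (X *ᵥ u) + (t * t / 2) • (X *ᵥ u) := by
        rw [← add_smul]
        congr 1
        field_simp
        linear_combination -hst
      rw [eich_congr e, ← eich_mul hu (hpol _) (hpol _)]
      exact mul_mem (hsq s) (hsq t)
    rcases eq_or_ne u 0 with h | h
    · exact absurd h hu0
    obtain ⟨y, hy⟩ : ∃ y, (Φ *ᵥ y) ⬝ᵥ u = 1 := by
      have h0 : ¬ ∀ y, QuadraticMap.polar Q u y = 0 := fun h' => h (hnd u h')
      push Not at h0
      obtain ⟨y, hy⟩ := h0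
      rw [hB] at hy
      have hy' : u ⬝ᵥ Φ *ᵥ y ≠ 0 := fun h' => hy (by rw [h', mul_zero])
      exact ⟨(u ⬝ᵥ Φ *ᵥ y)⁻¹ • y, by rw [mulVec_smul, smul_dotProduct, dotProduct_comm (Φ *ᵥ y) u, smul_eq_mul,
        inv_mul_cancel₀ hy']⟩
    have hwu : (Φ *ᵥ w) ⬝ᵥ u = 0 := by
      rw [hB] at huw
      rw [dotProduct_comm]
      exact (mul_eq_zero.1 huw).resolve_left h2
    have hX : vecMulVec w (Φ *ᵥ y) - vecMulVec y (Φ *ᵥ w) ∈ Submodule.span F J := hspan _ (by
      rw [Matrix.transpose_sub, transpose_vecMulVec, transpose_vecMulVec, sub_mul, mul_sub, vecMulVec_mul,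
        vecMulVec_mul, mul_vecMulVec, mul_vecMulVec, vecMul_of_symm hs, vecMul_of_symm hs, neg_sub])
    have hmap : Submodule.span F J ≤ L.comap ((Matrix.mulVecBilin F F).flip u) := Submodule.span_le.2 hroot
    have := hmap hX
    rwa [Submodule.mem_comap, LinearMap.flip_apply, Matrix.mulVecBilin_apply, sub_mulVec,
      Aschbacher.vecMulVec_mulVec', Aschbacher.vecMulVec_mulVec', hy, hwu, one_smul, zero_smul, sub_zero] at this
  rintro _ ⟨g, hg, rfl⟩
  exact hle hg

end orth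

/-! ### The symplectic case -/

namespace Centres

variable {V : Type*} [AddCommGroup V] [Module F V]

/-- a set of centres for two anticommuting complex structures -/
structure Cfg (B : LinearMap.BilinForm F V) (J J' : V →ₗ[F] V) (C : Set V) : Prop where
  alt : ∀ x, B x x = 0
  nd : ∀ x, (∀ y, B x y = 0) → x = 0
  sq : ∀ x, J (J x) = -x
  sq' : ∀ x, J' (J' x) = -x
  anti : ∀ x, J' (J x) = -J (J' x)
  skew : ∀ x y, B (J x) y = -B x (J y)
  skew' : ∀ x y, B (J' x) y = -B x (J' y)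
  smul : ∀ (t : F), ∀ x ∈ C, t • x ∈ C
  plane : ∀ x ∈ C, ∀ y ∈ C, B x y ≠ 0 → x + y ∈ C
  base : ∀ u, B u (J u) = 0 → B u (J' u) = 0 → B u (J (J' u)) ≠ 0 → u ∈ C
  move : ∀ x ∈ C, ∀ u, B u (J u) = 0 → x + B x u • J u + B x (J u) • u ∈ C

variable {B : LinearMap.BilinForm F V} {J J' : V →ₗ[F] V} {C : Set V}

/-- the base vectors -/
def Base (B : LinearMap.BilinForm F V) (J J' : V →ₗ[F] V) (u : V) : Prop :=
  B u (J u) = 0 ∧ B u (J' u) = 0 ∧ B u (J (J' u)) ≠ 0

/-- two centres with a common non-orthogonal centre -/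
def Two (B : LinearMap.BilinForm F V) (C : Set V) (x y : V) : Prop :=
  ∃ w ∈ C, B x w ≠ 0 ∧ B w y ≠ 0

variable (h : Cfg B J J' C)
include h

theorem swap (x y : V) : B y x = -B x y := by
  have := h.alt (x + y)
  simp only [map_add, LinearMap.add_apply, h.alt, zero_add, add_zero] at this
  linear_combination this

theorem two_symm {x y : V} : Two B C x y → Two B C y x := fun ⟨w, hw, h1, h2⟩ =>
  ⟨w, hw, by rw [swap h]; exact neg_ne_zero.2 h2, by rw [swap h]; exact neg_ne_zero.2 h1⟩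

theorem two_step {x y z : V} (hy : y ∈ C) (h1 : Two B C x y) (h2 : B y z ≠ 0) : Two B C x z := by
  obtain ⟨w, hw, hxw, hwy⟩ := h1
  by_cases hwz : B w z = 0
  · by_cases hxy : B x y = 0
    · refine ⟨w + y, h.plane w hw y hy hwy, ?_, ?_⟩
      · rwa [map_add, hxy, add_zero]
      · rwa [map_add, LinearMap.add_apply, hwz, zero_add]
    · exact ⟨y, hy, hxy, h2⟩
  · exact ⟨w, hw, hxw, hwz⟩

theorem two_trans {x y z : V} (hy : y ∈ C) (h1 : Two B C x y) (h2 : Two B C y z) : Two B C x z := by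
  obtain ⟨w, hw, hyw, hwz⟩ := h2
  exact two_step h hw (two_step h hy h1 hyw) hwz

theorem two_of_ne {x y : V} (hx : x ∈ C) (hy : y ∈ C) (hxy : B x y ≠ 0) : Two B C x y :=
  ⟨x + y, h.plane x hx y hy hxy, by rwa [map_add, h.alt, zero_add],
    by rwa [map_add, LinearMap.add_apply, h.alt, add_zero]⟩

theorem mem_base {u : V} (hu : Base B J J' u) : u ∈ C := h.base u hu.1 hu.2.1 hu.2.2

theorem kk (x : V) : J (J' (J (J' x))) = -x := by rw [h.anti, map_neg, h.sq, neg_neg, h.sq']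

theorem kj (x : V) : J (J' (J x)) = J' x := by rw [h.anti, map_neg, h.sq, neg_neg]

theorem kj' (x : V) : J (J' (J' x)) = -J x := by rw [h.sq', map_neg]

theorem j'k (x : V) : J' (J (J' x)) = J x := by rw [h.anti, h.sq', map_neg, neg_neg]

theorem skewK (x y : V) : B (J (J' x)) y = -B x (J (J' y)) := by
  rw [h.skew, h.skew', neg_neg, h.anti, map_neg]

theorem symJ (x y : V) : B y (J x) = B x (J y) := by rw [swap h (J x), h.skew, neg_neg]

theorem symJ' (x y : V) : B y (J' x) = B x (J' y) := by rw [swap h (J' x), h.skew', neg_neg]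

theorem symK (x y : V) : B y (J (J' x)) = B x (J (J' y)) := by rw [swap h (J (J' x)), skewK h, neg_neg]

/-- the values on the quaternion block of a base vector -/
theorem table {u : V} (hu : Base B J J' u) : B u (J u) = 0 ∧ B u (J' u) = 0 ∧
    B (J u) (J' u) = -B u (J (J' u)) ∧ B (J u) (J (J' u)) = 0 ∧ B (J' u) (J (J' u)) = 0 := by
  refine ⟨hu.1, hu.2.1, ?_, ?_, ?_⟩
  · rw [h.skew]
  · rw [h.skew, h.sq, map_neg, hu.2.1, neg_zero, neg_zero]
  · rw [h.skew', j'k h, hu.1, neg_zero]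

theorem base_J {u : V} (hu : Base B J J' u) : Base B J J' (J u) := by
  obtain ⟨t1, t2, t3, t4, t5⟩ := table h hu
  refine ⟨by rw [h.sq, map_neg, swap h, t1, neg_zero, neg_zero], ?_, ?_⟩
  · rw [h.anti, map_neg, t4, neg_zero]
  · rw [kj h, t3]; exact neg_ne_zero.2 hu.2.2

theorem base_J' {u : V} (hu : Base B J J' u) : Base B J J' (J' u) := by
  obtain ⟨t1, t2, t3, t4, t5⟩ := table h hu
  refine ⟨t5, by rw [h.sq', map_neg, swap h, t2, neg_zero, neg_zero], ?_⟩
  rw [kj' h, map_neg, swap h (J u) (J' u), t3, neg_neg]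
  exact neg_ne_zero.2 hu.2.2

theorem base_K {u : V} (hu : Base B J J' u) : Base B J J' (J (J' u)) := by
  obtain ⟨t1, t2, t3, t4, t5⟩ := table h hu
  refine ⟨?_, ?_, ?_⟩
  · rw [h.sq, map_neg, swap h (J' u), t5, neg_zero, neg_zero]
  · rw [j'k h, swap h (J u), t4, neg_zero]
  · rw [kk h, map_neg, swap h u, neg_neg]; exact hu.2.2

theorem two_block {u : V} (hu : Base B J J' u) :
    Two B C u (J u) ∧ Two B C u (J' u) ∧ Two B C u (J (J' u)) := by
  obtain ⟨t1, t2, t3, t4, t5⟩ := table h hu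
  have hd := hu.2.2
  have e1 : B (J (J' u)) u = -B u (J (J' u)) := swap h _ _
  have ha := h.move _ (mem_base h (base_K h hu)) u t1
  rw [e1, swap h (J u), t4, neg_zero, zero_smul, add_zero, neg_smul] at ha
  have hJ' : Two B C u (J' u) := ⟨_, ha, by simpa [t1] using hd, by
    simp only [map_add, map_neg, map_smul, LinearMap.add_apply, LinearMap.neg_apply, LinearMap.smul_apply, t3,
      swap h (J' u) (J (J' u)), t5, smul_eq_mul]
    simpa using hd⟩
  exact ⟨two_step h (mem_base h (base_J' h hu)) hJ' (by rw [swap h, t3, neg_neg]; exact hd), hJ',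
    two_of_ne h (mem_base h hu) (mem_base h (base_K h hu)) hd⟩

theorem two_base (h2 : (2 : F) ≠ 0) {u v : V} (hu : Base B J J' u) (hv : Base B J J' v) : Two B C u v := by
  have huC := mem_base h hu
  have hvC := mem_base h hv
  obtain ⟨bJ, bJ', bK⟩ := two_block h hv
  by_cases h0 : B u v = 0
  swap; · exact two_of_ne h huC hvC h0
  by_cases h1 : B u (J v) = 0
  swap; · exact two_trans h (mem_base h (base_J h hv)) (two_of_ne h huC (mem_base h (base_J h hv)) h1) (two_symm h bJ)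
  by_cases h3 : B u (J' v) = 0
  swap
  · exact two_trans h (mem_base h (base_J' h hv)) (two_of_ne h huC (mem_base h (base_J' h hv)) h3) (two_symm h bJ')
  by_cases h4 : B u (J (J' v)) = 0
  swap
  · exact two_trans h (mem_base h (base_K h hv)) (two_of_ne h huC (mem_base h (base_K h hv)) h4) (two_symm h bK)
  have key : ∀ w, Base B J J' w → B u w = 0 → B u (J w) = 0 → B u (J' w) = 0 → B u (J (J' w)) = 0 →
      B u (J (J' u)) + B w (J (J' w)) ≠ 0 → Two B C u w := by
    intro w hw w0 w1 w2 w3 hne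
    have hs : Base B J J' (u + w) := by
      refine ⟨?_, ?_, ?_⟩
      · simp only [map_add, LinearMap.add_apply, symJ h u w, w1, hu.1, hw.1, add_zero]
      · simp only [map_add, LinearMap.add_apply, symJ' h u w, w2, hu.2.1, hw.2.1, add_zero]
      · simpa only [map_add, LinearMap.add_apply, symK h u w, w3, add_zero, zero_add] using hne
    refine two_trans h (mem_base h hs) ⟨_, mem_base h (base_K h hu), hu.2.2, ?_⟩
      ⟨_, mem_base h (base_K h hw), ?_, ?_⟩
    · rw [map_add, swap h u, skewK h u w, w3, neg_zero, add_zero]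
      exact neg_ne_zero.2 hu.2.2
    · rw [map_add, LinearMap.add_apply, w3, zero_add]
      exact hw.2.2
    · rw [swap h w]; exact neg_ne_zero.2 hw.2.2
  by_cases hne : B u (J (J' u)) + B v (J (J' v)) = 0
  · refine two_trans h (mem_base h (base_J h hv)) (key _ (base_J h hv) h1 ?_ ?_ ?_ ?_) (two_symm h bJ)
    · rw [h.sq, map_neg, h0, neg_zero]
    · rw [h.anti, map_neg, h4, neg_zero]
    · rw [kj h, h3]
    · rw [kj h, (table h hv).2.2.1]
      intro e
      exact mul_ne_zero h2 hu.2.2 (by linear_combination e + hne)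
  · exact key v hv h0 h1 h3 h4 hne

/-- a vector orthogonal to a block, corrected inside the block -/
theorem exists_corr (h2 : (2 : F) ≠ 0) (hsum : ∃ a e : F, a * a + e * e = -1) {u : V} (hu : Base B J J' u) {y : V}
    (o1 : B y u = 0) (o2 : B y (J u) = 0) (o3 : B y (J' u) = 0) (o4 : B y (J (J' u)) = 0)
    (hy : B y (J (J' y)) ≠ 0 ∨ (B y (J y) = 0 ∧ B y (J' y) = 0)) :
    y ∈ Submodule.span F {v | Base B J J' v} := by
  obtain ⟨t1, t2, t3, t4, t5⟩ := table h hu
  set d := B u (J (J' u)) with hd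
  set W := Submodule.span F {v | Base B J J' v} with hW
  have hmem : ∀ a b c e : F, a • u + b • J u + c • J' u + e • J (J' u) ∈ W := fun a b c e =>
    W.add_mem (W.add_mem (W.add_mem (W.smul_mem a (Submodule.subset_span hu))
      (W.smul_mem b (Submodule.subset_span (base_J h hu)))) (W.smul_mem c (Submodule.subset_span (base_J' h hu))))
      (W.smul_mem e (Submodule.subset_span (base_K h hu)))
  have r1 : B (J u) u = 0 := by rw [swap h, t1, neg_zero]
  have r2 : B (J' u) u = 0 := by rw [swap h, t2, neg_zero]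
  have r3 : B (J' u) (J u) = d := by rw [swap h, t3, neg_neg]
  have r4 : B (J (J' u)) (J u) = 0 := by rw [swap h, t4, neg_zero]
  have r5 : B (J (J' u)) (J' u) = 0 := by rw [swap h, t5, neg_zero]
  have r6 : B (J (J' u)) u = -d := swap h _ _
  suffices hs : ∃ a b c e : F, 2 * d * (a * c + b * e) = -B y (J y) ∧ 2 * d * (c * e - a * b) = -B y (J' y) ∧
      B y (J (J' y)) + d * (a * a + e * e - b * b - c * c) ≠ 0 by
    obtain ⟨a, b, c, e, ha, hb, hc⟩ := hs
    set z := a • u + b • J u + c • J' u + e • J (J' u) with hz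
    have ex : ∀ (X : V →ₗ[F] V) (p q : V), B q (X p) = B p (X q) →
        B (p + q) (X (p + q)) = B p (X p) + (2 * B p (X q) + B q (X q)) := fun X p q hpq => by
      simp only [map_add, LinearMap.add_apply, hpq]; ring
    have hbase : Base B J J' (y + z) := by
      refine ⟨?_, ?_, ?_⟩
      · have : B (y + z) (J (y + z)) = B y (J y) + 2 * d * (a * c + b * e) := by
          rw [ex J y z (symJ h y z)]
          simp only [hz, map_add, map_smul, LinearMap.add_apply, LinearMap.smul_apply, smul_eq_mul, h.sq, h.anti,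
            kk h, map_neg, h.alt, o1, o2, o3, o4, t1, t2, t3, t4, t5, r1, r2, r3, r4, r5, r6]
          rw [← hd]
          ring
        rw [this, ha, add_neg_cancel]
      · have : B (y + z) (J' (y + z)) = B y (J' y) + 2 * d * (c * e - a * b) := by
          rw [ex J' y z (symJ' h y z)]
          simp only [hz, map_add, map_smul, LinearMap.add_apply, LinearMap.smul_apply, smul_eq_mul, h.sq', h.anti,
            j'k h, map_neg, h.alt, o1, o2, o3, o4, t1, t2, t3, t4, t5, r1, r2, r3, r4, r5, r6]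
          rw [← hd]
          ring
        rw [this, hb, add_neg_cancel]
      · have : B (y + z) (J (J' (y + z))) = B y (J (J' y)) + d * (a * a + e * e - b * b - c * c) := by
          rw [show J (J' (y + z)) = (J ∘ₗ J') (y + z) from rfl, ex (J ∘ₗ J') y z (symK h y z)]
          simp only [hz, map_add, map_smul, LinearMap.add_apply, LinearMap.smul_apply, smul_eq_mul, LinearMap.comp_apply,
            h.sq, h.sq', h.anti, kk h, map_neg, neg_neg, h.alt, o1, o2, o3, o4, t1, t2, t3, t4, t5, r1, r2, r3, r4, r5, r6]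
          rw [← hd]
          ring
        rwa [this]
    have e1 : y = (y + z) - z := by abel
    rw [e1]
    exact W.sub_mem (Submodule.subset_span hbase) (hmem a b c e)
  obtain ⟨a₁, e₁, hn1⟩ := hsum
  have hd0 : d ≠ 0 := hu.2.2
  have h2d : 2 * d ≠ 0 := mul_ne_zero h2 hd0
  set p := -B y (J y) / (2 * d) with hp
  set q := -B y (J' y) / (2 * d) with hq
  have hp' : 2 * d * p = -B y (J y) := by rw [hp]; field_simp
  have hq' : 2 * d * q = -B y (J' y) := by rw [hq]; field_simp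
  by_cases hA : B y (J (J' y)) + d * (1 - q * q - p * p) = 0
  · refine ⟨a₁, -(p * e₁ - q * a₁), -(p * a₁ + q * e₁), e₁, ?_, ?_, ?_⟩
    · linear_combination hp' + (-(2 * d * p)) * hn1
    · linear_combination hq' + (-(2 * d * q)) * hn1
    · intro hc
      have hr : (2 : F) * B y (J (J' y)) = 0 := by
        linear_combination hA + hc + (d * (p * p + q * q - 1)) * hn1
      rcases hy with hy | ⟨y1, y2⟩
      · exact hy ((mul_eq_zero.1 hr).resolve_left h2)
      · simp only [hp, hq, y1, y2, (mul_eq_zero.1 hr).resolve_left h2, neg_zero, zero_div, mul_zero, sub_zero,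
          zero_add, mul_one] at hA
        exact hd0 hA
  · exact ⟨1, -q, p, 0, by linear_combination hp', by linear_combination hq', by
      intro hc; exact hA (by linear_combination hc)⟩

theorem span_base (h2 : (2 : F) ≠ 0) (hsum : ∃ a e : F, a * a + e * e = -1) {u : V} (hu : Base B J J' u) (y : V) :
    y ∈ Submodule.span F {v | Base B J J' v} := by
  obtain ⟨t1, t2, t3, t4, t5⟩ := table h hu
  set d := B u (J (J' u)) with hd
  have hd0 : d ≠ 0 := hu.2.2
  set W := Submodule.span F {v | Base B J J' v} with hW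
  set z := (B y (J (J' u)) / d) • u + (-(B y (J' u)) / d) • J u + (B y (J u) / d) • J' u +
    (-(B y u) / d) • J (J' u) with hz
  have hzW : z ∈ W := W.add_mem (W.add_mem (W.add_mem (W.smul_mem _ (Submodule.subset_span hu))
    (W.smul_mem _ (Submodule.subset_span (base_J h hu)))) (W.smul_mem _ (Submodule.subset_span (base_J' h hu))))
    (W.smul_mem _ (Submodule.subset_span (base_K h hu)))
  set w := y - z with hw
  have o : B w u = 0 ∧ B w (J u) = 0 ∧ B w (J' u) = 0 ∧ B w (J (J' u)) = 0 := by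
    refine ⟨?_, ?_, ?_, ?_⟩ <;>
    · simp only [hw, hz, map_sub, map_add, map_smul, LinearMap.sub_apply, LinearMap.add_apply, LinearMap.smul_apply,
        smul_eq_mul, h.alt, t1, t2, t3, t4, t5, swap h u (J u), swap h u (J' u), swap h u (J (J' u)),
        swap h (J u) (J' u), swap h (J u) (J (J' u)), swap h (J' u) (J (J' u)), ← hd]
      field_simp
      ring
  suffices hwW : w ∈ W by
    rw [show y = w + z by rw [hw]; abel]
    exact W.add_mem hwW hzW
  obtain ⟨o1, o2, o3, o4⟩ := o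
  by_cases hgood : B w (J (J' w)) ≠ 0 ∨ (B w (J w) = 0 ∧ B w (J' w) = 0)
  · exact exists_corr h h2 hsum hu o1 o2 o3 o4 hgood
  push Not at hgood
  obtain ⟨hr, hpq⟩ := hgood
  suffices hx : ∃ X : V →ₗ[F] V, (∀ x, B (X w) x = -B w (X x)) ∧ (B w (X u) = 0 ∧ B w (X (J u)) = 0 ∧
      B w (X (J' u)) = 0 ∧ B w (X (J (J' u))) = 0) ∧ ∀ s : F, s ≠ 0 → B (w + s • X w) (J (J' (w + s • X w))) ≠ 0 by
    obtain ⟨X, hX, ⟨x1, x2, x3, x4⟩, hne⟩ := hx
    have hm : ∀ s : F, s ≠ 0 → w + s • X w ∈ W := fun s hs => by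
      refine exists_corr h h2 hsum hu ?_ ?_ ?_ ?_ (Or.inl (hne s hs)) <;>
        simp [hX, o1, o2, o3, o4, x1, x2, x3, x4]
    have e : (2 : F) • w = (w + (1 : F) • X w) + (w + (-1 : F) • X w) := by
      rw [two_smul]; module
    have := W.smul_mem (2 : F)⁻¹ (e ▸ W.add_mem (hm 1 one_ne_zero) (hm (-1) (neg_ne_zero.2 one_ne_zero)))
    rwa [smul_smul, inv_mul_cancel₀ h2, one_smul] at this
  by_cases hp : B w (J' w) = 0
  · refine ⟨J', fun x => h.skew' w x, ⟨o3, ?_, ?_, ?_⟩, fun s hs => ?_⟩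
    · rw [h.anti, map_neg, o4, neg_zero]
    · rw [h.sq', map_neg, o1, neg_zero]
    · rw [j'k h, o2]
    · have e1 : B (J' w) (J (J' (J' w))) = 0 := by
        rw [kj' h, map_neg, h.skew', h.anti, map_neg, hr, neg_zero, neg_zero, neg_zero]
      simp only [map_add, map_smul, LinearMap.add_apply, LinearMap.smul_apply, smul_eq_mul, hr, e1,
        symK h w (J' w)]
      rw [kj' h, map_neg]
      have hJ : B w (J w) ≠ 0 := fun e => hpq e hp
      intro e
      exact mul_ne_zero (mul_ne_zero h2 hs) hJ (by linear_combination -e)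
  · refine ⟨J, fun x => h.skew w x, ⟨o2, ?_, o4, ?_⟩, fun s hs => ?_⟩
    · rw [h.sq, map_neg, o1, neg_zero]
    · rw [h.sq, map_neg, o3, neg_zero]
    · have e1 : B (J w) (J (J' (J w))) = 0 := by
        rw [kj h, h.skew, hr, neg_zero]
      simp only [map_add, map_smul, LinearMap.add_apply, LinearMap.smul_apply, smul_eq_mul, hr, e1,
        symK h w (J w)]
      rw [kj h]
      intro e
      exact mul_ne_zero (mul_ne_zero h2 hs) hp (by linear_combination e)

theorem mem_of_ne {x y w : V} (hx : x ∈ C) (hy : y ∈ C) (hw : w ∈ C) (h1 : B x w ≠ 0) (h3 : B w y ≠ 0)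
    (hxy : B x y = 0) (hz : B (x + y) w ≠ 0) : x + y ∈ C := by
  have ha : x + w + y ∈ C := h.plane _ (h.plane x hx w hw h1) y hy (by
    rwa [map_add, LinearMap.add_apply, hxy, zero_add])
  have hb := h.plane _ ha _ (h.smul (-1) w hw) (by
    rw [map_smul, smul_eq_mul, neg_one_mul, neg_ne_zero, add_right_comm, map_add, LinearMap.add_apply, h.alt,
      add_zero]
    exact hz)
  rwa [show x + w + y + (-1 : F) • w = x + y by module] at hb

theorem add_mem_centres (h2 : (2 : F) ≠ 0) (hspan : ∀ z : V, z ≠ 0 → ∃ c, Base B J J' c ∧ B z c ≠ 0) {x y : V}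
    (hx : x ∈ C) (hy : y ∈ C) : x + y ∈ C := by
  rcases eq_or_ne x 0 with rfl | hx0
  · rwa [zero_add]
  rcases eq_or_ne y 0 with rfl | hy0
  · rwa [add_zero]
  by_cases hxy : B x y = 0
  swap; · exact h.plane x hx y hy hxy
  rcases eq_or_ne (x + y) 0 with hz | hz
  · rw [hz]; simpa using h.smul 0 x hx
  obtain ⟨cx, hcx, hxc⟩ := hspan x hx0
  obtain ⟨cy, hcy, hyc⟩ := hspan y hy0
  obtain ⟨w, hw, hxw, hwy⟩ : Two B C x y := two_step h (mem_base h hcy)
    (two_trans h (mem_base h hcx) (two_of_ne h hx (mem_base h hcx) hxc) (two_base h h2 hcx hcy))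
    (by rw [swap h]; exact neg_ne_zero.2 hyc)
  by_cases hzw : B (x + y) w = 0
  swap; · exact mem_of_ne h hx hy hw hxw hwy hxy hzw
  have main : ∀ x y c : V, x ∈ C → y ∈ C → c ∈ C → B x w ≠ 0 → B y w ≠ 0 → B x y = 0 → B (x + y) w = 0 →
      B x c ≠ 0 → B y c = 0 → x + y ∈ C := by
    intro x y c hx hy hc hxw hyw hxy hzw hxc hyc
    obtain ⟨a, ha, haw, hxa, hya⟩ : ∃ a ∈ C, B a w ≠ 0 ∧ B x a = B x c ∧ B y a = 0 := by
      by_cases hcw : B c w = 0
      · refine ⟨x + c, h.plane x hx c hc hxc, ?_, ?_, ?_⟩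
        · rwa [map_add, LinearMap.add_apply, hcw, add_zero]
        · rw [map_add, h.alt, zero_add]
        · rw [map_add, swap h, hxy, neg_zero, hyc, add_zero]
      · exact ⟨c, hc, hcw, rfl, hyc⟩
    obtain ⟨s, hs0, hs⟩ : ∃ s : F, s ≠ 0 ∧ B x c + s * B x w ≠ 0 := by
      by_cases h1 : B x c + 1 * B x w = 0
      · refine ⟨-1, neg_ne_zero.2 one_ne_zero, fun h3 => mul_ne_zero h2 hxc ?_⟩
        linear_combination h1 + h3
      · exact ⟨1, one_ne_zero, h1⟩
    refine mem_of_ne h hx hy (h.plane a ha _ (h.smul s w hw) ?_) ?_ ?_ hxy ?_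
    · rw [map_smul, smul_eq_mul]; exact mul_ne_zero hs0 haw
    · rwa [map_add, hxa, map_smul, smul_eq_mul]
    · rw [swap h, neg_ne_zero, map_add, hya, zero_add, map_smul, smul_eq_mul]
      exact mul_ne_zero hs0 hyw
    · rw [map_add, map_smul, smul_eq_mul, hzw, mul_zero, add_zero, map_add, LinearMap.add_apply, hxa, hya,
        add_zero]
      exact hxc
  have hyw : B y w ≠ 0 := by rw [swap h]; exact neg_ne_zero.2 hwy
  obtain ⟨c, hcb, hzc⟩ := hspan _ hz
  have hc := mem_base h hcb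
  by_cases h1 : B y c = 0
  · exact main x y c hx hy hc hxw hyw hxy hzw (fun e => hzc (by rw [map_add, LinearMap.add_apply, e, h1, add_zero])) h1
  by_cases h3 : B x c = 0
  · rw [add_comm]
    exact main y x c hy hx hc hyw hxw (by rw [swap h, hxy, neg_zero]) (by rwa [add_comm]) h1 h3
  exact mem_of_ne h hx hy hc h3 (by rw [swap h]; exact neg_ne_zero.2 h1) hxy hzc

/-- every vector is a centre -/
theorem all_mem (h2 : (2 : F) ≠ 0) (hsum : ∃ a e : F, a * a + e * e = -1) {u : V} (hu : Base B J J' u) (z : V) :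
    z ∈ C := by
  have hspan : ∀ x : V, x ≠ 0 → ∃ c, Base B J J' c ∧ B x c ≠ 0 := by
    intro x hx
    by_contra hc
    push Not at hc
    refine hx (h.nd x fun y => ?_)
    have hle : Submodule.span F {v | Base B J J' v} ≤ LinearMap.ker (B x) := Submodule.span_le.2 hc
    exact hle (span_base h h2 hsum hu y)
  induction span_base h h2 hsum hu z using Submodule.span_induction with
  | mem x hx => exact mem_base h hx
  | zero => simpa using h.smul 0 u (mem_base h hu)
  | add x y _ _ hx hy => exact add_mem_centres h h2 hspan hx hy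
  | smul a x _ hx => exact h.smul a x hx

end Centres

section symp

variable {ι : Type} [Fintype ι] [DecidableEq ι]

/-- a base vector exists -/
theorem exists_base [Finite F] (h2 : (2 : F) ≠ 0) {B : LinearMap.BilinForm F (ι → F)}
    {J J' : (ι → F) →ₗ[F] (ι → F)} (hn : 5 ≤ Fintype.card ι)
    (alt : ∀ x, B x x = 0) (nd : ∀ x, (∀ y, B x y = 0) → x = 0) (sq : ∀ x, J (J x) = -x)
    (sq' : ∀ x, J' (J' x) = -x) (anti : ∀ x, J' (J x) = -J (J' x)) (skew : ∀ x y, B (J x) y = -B x (J y))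
    (skew' : ∀ x y, B (J' x) y = -B x (J' y)) : ∃ u, Centres.Base B J J' u := by
  have swap : ∀ x y, B y x = -B x y := fun x y => by
    have := alt (x + y)
    simp only [map_add, LinearMap.add_apply, alt, zero_add, add_zero] at this
    linear_combination this
  obtain ⟨a, b, hab⟩ := Bases.exists_sq_add_sq h2 (one_ne_zero : (1 : F) ≠ 0) one_ne_zero (-1)
  set A : (ι → F) →ₗ[F] (ι → F) := a • J + b • J' with hA
  have hAA : ∀ x, A (A x) = x := fun x => by
    simp only [hA, LinearMap.add_apply, LinearMap.smul_apply, map_add, map_smul, sq, sq', anti]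
    linear_combination (norm := module) (-hab) • x
  set K : (ι → F) →ₗ[F] (ι → F) := J.comp J' with hK
  have hKK : ∀ x, K (K x) = -x := fun x => by
    simp only [hK, LinearMap.comp_apply, anti, map_neg, sq, sq', neg_neg]
  have hAK : ∀ x, A (K x) = -K (A x) := fun x => by
    simp only [hA, hK, LinearMap.comp_apply, LinearMap.add_apply, LinearMap.smul_apply, map_add, map_smul, sq, sq',
      anti, map_neg, neg_neg, neg_add_rev]
    module
  have hAskew : ∀ x y, B (A x) y = -B x (A y) := fun x y => by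
    simp only [hA, LinearMap.add_apply, LinearMap.smul_apply, map_add, map_smul, skew, skew', smul_eq_mul]
    ring
  have hKskew : ∀ x y, B (K x) y = -B x (K y) := fun x y => by
    simp only [hK, LinearMap.comp_apply, skew, skew', neg_neg, anti, map_neg]
  set P := LinearMap.ker (A - LinearMap.id) with hP
  set N := LinearMap.ker (A + LinearMap.id) with hN
  have mP : ∀ {x}, x ∈ P ↔ A x = x := by simp [hP, sub_eq_zero]
  have mN : ∀ {x}, x ∈ N ↔ A x = -x := by simp [hN, add_eq_zero_iff_eq_neg]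
  have hiso : ∀ x ∈ P, ∀ y ∈ P, B x y = 0 := fun x hx y hy => by
    have := hAskew x y
    rw [mP.1 hx, mP.1 hy] at this
    refine (mul_eq_zero.1 (?_ : (2 : F) * B x y = 0)).resolve_left h2
    linear_combination this
  have hKP : ∀ x ∈ P, K x ∈ N := fun x hx => mN.2 (by rw [hAK, mP.1 hx])
  have hKN : ∀ x ∈ N, K x ∈ P := fun x hx => mP.2 (by rw [hAK, mN.1 hx, map_neg, neg_neg])
  have hinj : Function.Injective K := fun x y e => by
    have := congrArg K e
    rwa [hKK, hKK, neg_inj] at this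
  have hsup : ∀ x, ∃ p ∈ P, ∃ n ∈ N, p + n = x := fun x => by
    refine ⟨(2 : F)⁻¹ • (x + A x), mP.2 ?_, (2 : F)⁻¹ • (x - A x), mN.2 ?_, ?_⟩
    · rw [map_smul, map_add, hAA, add_comm]
    · rw [map_smul, map_sub, hAA, ← smul_neg, neg_sub]
    · rw [← smul_add, show x + A x + (x - A x) = (2 : F) • x by rw [two_smul]; abel, smul_smul,
        inv_mul_cancel₀ h2, one_smul]
  have hdim : 3 ≤ Module.finrank F P := by
    have h1 : Module.finrank F N ≤ Module.finrank F P :=
      LinearMap.finrank_le_finrank_of_injective (f := K.restrict hKN) fun x y e =>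
        Subtype.ext (hinj (congrArg Subtype.val e))
    have h3 : P ⊔ N = ⊤ := eq_top_iff.2 fun x _ => by
      obtain ⟨p, hp, n, hn', rfl⟩ := hsup x
      exact Submodule.add_mem_sup hp hn'
    have h4 := Submodule.finrank_sup_add_finrank_inf_eq P N
    rw [h3, finrank_top, Module.finrank_fintype_fun_eq_card] at h4
    omega
  set S : LinearMap.BilinForm F (ι → F) := B.compl₂ K with hS
  have hSa : ∀ x y, S x y = B x (K y) := fun x y => rfl
  have hsym : S.IsSymm := ⟨fun x y => by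
    simp only [RingHom.id_apply, hSa]; rw [swap (K x) y, hKskew, neg_neg]⟩
  have hnd : Bases.NondegOn S P := fun x hx hxx => nd x fun y => by
    obtain ⟨p, hp, n, hn', rfl⟩ := hsup y
    rw [map_add, hiso x hx p hp, zero_add]
    have h5 := hxx (K n) (hKN n hn')
    rwa [hSa, hKK, map_neg, neg_eq_zero] at h5
  obtain ⟨w₁, hw₁, h11, -⟩ := Bases.exists_symm_unit h2 S hsym P hnd (by omega) 1 one_ne_zero
  obtain ⟨hnd', -, hfin⟩ := Bases.split_anisotropic S (fun u v e => by rw [hsym.eq, e]) hnd hw₁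
    (by rw [h11]; exact one_ne_zero)
  obtain ⟨w₂, hw₂, h22, -⟩ := Bases.exists_symm_unit h2 S hsym _ hnd' (by omega) 1 one_ne_zero
  have h12 : S w₁ w₂ = 0 := (Submodule.mem_inf.1 hw₂).2
  have hw₂' : w₂ ∈ P := (Submodule.mem_inf.1 hw₂).1
  have h21 : S w₂ w₁ = 0 := by rw [hsym.eq] at h12; exact h12
  rw [hSa] at h11 h22 h12 h21
  set u := w₁ + K w₂ with hu
  have hgK : B u (K u) = 2 := by
    simp only [hu, map_add, map_neg, hKK, LinearMap.add_apply, h11, hiso w₁ hw₁ w₂ hw₂', hKskew w₂ (K w₁),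
      hKskew w₂ w₂, hiso w₂ hw₂' w₁ hw₁, h22]
    ring
  have hgA : B u (A u) = 0 := by
    simp only [hu, map_add, map_neg, hAK, mP.1 hw₁, mP.1 hw₂', LinearMap.add_apply, alt, h12, hKskew w₂ w₁, h21]
    ring
  set C : (ι → F) →ₗ[F] (ι → F) := a • J' - b • J with hC
  have hCe : ∀ x, C x = K (A x) := fun x => by
    simp only [hC, hA, hK, LinearMap.comp_apply, LinearMap.sub_apply, LinearMap.add_apply, LinearMap.smul_apply,
      map_add, map_smul, sq, sq', anti, map_neg]
    module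
  have hgC : B u (C u) = 0 := by
    rw [hCe]
    simp only [hu, map_add, map_neg, hAK, mP.1 hw₁, mP.1 hw₂', hKK, neg_neg, LinearMap.add_apply, h11,
      hiso w₁ hw₁ w₂ hw₂', hKskew w₂ (K w₁), hKskew w₂ w₂, hiso w₂ hw₂' w₁ hw₁, h22]
    ring
  simp only [hA, hC, LinearMap.add_apply, LinearMap.sub_apply, LinearMap.smul_apply, map_add, map_sub, map_smul,
    smul_eq_mul] at hgA hgC
  refine ⟨u, ?_, ?_, by rw [show B u (J (J' u)) = B u (K u) from rfl, hgK]; exact h2⟩
  · linear_combination (-a) * hgA + b * hgC + (B u (J u)) * hab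
  · linear_combination (-b) * hgA + (-a) * hgC + (B u (J' u)) * hab

theorem vecMul_of_skew {Φ : Matrix ι ι F} (hs : Φᵀ = -Φ) (x : ι → F) : x ᵥ* Φ = -(Φ *ᵥ x) := by
  rw [← Matrix.mulVec_transpose, hs, neg_mulVec]

/-- all transvections of the form lie in the subgroup -/
theorem symp_transvections [Finite F] (h2 : (2 : F) ≠ 0) (hn : 5 ≤ Fintype.card ι) {Φ : Matrix ι ι F}
    (hs : Φᵀ = -Φ) (hd : IsUnit Φ) {J J' : Matrix ι ι F} (hJ : J * J = -1 ∧ Jᵀ * Φ = -(Φ * J))
    (hJ' : J' * J' = -1 ∧ J'ᵀ * Φ = -(Φ * J')) (hanti : J' * J = -(J * J')) {M : Subgroup (GL ι F)}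
    (hM : ∀ X, X = J ∨ X = J' → ∀ u : ι → F, u ⬝ᵥ Φ *ᵥ (X *ᵥ u) = 0 → ∀ g : GL ι F,
      (∀ x, (g : Matrix ι ι F) *ᵥ x = x + (x ⬝ᵥ Φ *ᵥ u) • (X *ᵥ u) + (x ⬝ᵥ Φ *ᵥ (X *ᵥ u)) • u) → g ∈ M)
    (v : ι → F) (c : F) (g : GL ι F) (hg : ∀ x, (g : Matrix ι ι F) *ᵥ x = x + (c * (x ⬝ᵥ Φ *ᵥ v)) • v) :
    g ∈ M := by
  let B : LinearMap.BilinForm F (ι → F) := Matrix.toBilin' Φ
  have hB : ∀ x y, B x y = x ⬝ᵥ Φ *ᵥ y := fun x y => Matrix.toBilin'_apply' Φ x y
  have hsw : ∀ x y, B y x = -B x y := fun x y => by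
    rw [hB, hB, Matrix.dotProduct_mulVec y, vecMul_of_skew hs, neg_dotProduct, dotProduct_comm]
  have alt : ∀ x, B x x = 0 := fun x => by
    refine (mul_eq_zero.1 (?_ : (2 : F) * B x x = 0)).resolve_left h2
    linear_combination hsw x x
  have nd : ∀ x, (∀ y, B x y = 0) → x = 0 := fun x hx => by
    have h0 : Φ *ᵥ x = 0 := by
      funext i
      have := hx (Pi.single i 1)
      rw [← neg_neg (B x _), ← hsw, hB, single_dotProduct, one_mul, neg_eq_zero] at this
      exact this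
    exact Matrix.mulVec_injective_of_isUnit hd (h0.trans (mulVec_zero Φ).symm)
  have skew : ∀ X : Matrix ι ι F, Xᵀ * Φ = -(Φ * X) → ∀ x y,
      B (Matrix.mulVecLin X x) y = -B x (Matrix.mulVecLin X y) := fun X hX x y => by
    rw [hB, hB, Matrix.mulVecLin_apply, Matrix.mulVecLin_apply, Matrix.dotProduct_mulVec, Matrix.vecMul_mulVec,
      ← Matrix.dotProduct_mulVec, hX, neg_mulVec, dotProduct_neg, mulVec_mulVec]
  have sq : ∀ X : Matrix ι ι F, X * X = -1 → ∀ x, Matrix.mulVecLin X (Matrix.mulVecLin X x) = -x := fun X hX x => by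
    rw [Matrix.mulVecLin_apply, Matrix.mulVecLin_apply, mulVec_mulVec, hX, neg_mulVec, one_mulVec]
  have hXself : ∀ X, X = J ∨ X = J' → ∀ u, B (X *ᵥ u) u = -B u (X *ᵥ u) ∧ B (X *ᵥ u) (X *ᵥ u) = 0 :=
    fun X hX u => ⟨hsw _ _, alt _⟩
  -- the elements
  have hphi : ∀ a x, (Φ *ᵥ a) ⬝ᵥ x = B x a := fun a x => by rw [hB, dotProduct_comm]
  have exT : ∀ a b, B a b = 0 → ∃ t : GL ι F, (∀ x, (t : Matrix ι ι F) *ᵥ x = x + B x a • b + B x b • a) ∧
      ∀ x y, B ((t : Matrix ι ι F) *ᵥ x) ((t : Matrix ι ι F) *ᵥ y) = B x y := by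
    intro a b hab
    have h1 : (Φ *ᵥ b) ⬝ᵥ a = 0 := by rw [hphi, hab]
    have h3 : (Φ *ᵥ a) ⬝ᵥ b = 0 := by rw [hphi, hsw, hab, neg_zero]
    have key : ∀ x, ((Aschbacher.trv a _ h1 * Aschbacher.trv b _ h3 : GL ι F) : Matrix ι ι F) *ᵥ x =
        x + B x a • b + B x b • a := by
      intro x
      rw [mulVec_mul_GL, Aschbacher.trv_mulVec, Aschbacher.trv_mulVec, hphi, hphi]
      simp [alt]
    refine ⟨_, key, fun x y => ?_⟩
    rw [key, key]
    simp only [map_add, map_smul, LinearMap.add_apply, LinearMap.smul_apply, smul_eq_mul, alt, hab, hsw a b,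
      hsw y a, hsw y b]
    ring
  have exV : ∀ (w : ι → F) (k : F), ∃ t : GL ι F, (∀ x, (t : Matrix ι ι F) *ᵥ x = x + (k * B x w) • w) ∧
      ∀ x y, B ((t : Matrix ι ι F) *ᵥ x) ((t : Matrix ι ι F) *ᵥ y) = B x y := by
    intro w k
    have h1 : (k • (Φ *ᵥ w)) ⬝ᵥ w = 0 := by rw [smul_dotProduct, hphi, alt, smul_zero]
    have key : ∀ x, ((Aschbacher.trv w _ h1 : GL ι F) : Matrix ι ι F) *ᵥ x = x + (k * B x w) • w := fun x => by
      rw [Aschbacher.trv_mulVec, smul_dotProduct, hphi, smul_eq_mul]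
    refine ⟨_, key, fun x y => ?_⟩
    rw [key, key]
    simp only [map_add, map_smul, LinearMap.add_apply, LinearMap.smul_apply, smul_eq_mul, alt, hsw y w]
    ring
  let C : Set (ι → F) := {w | ∀ (k : F) (t : GL ι F),
    (∀ x, (t : Matrix ι ι F) *ᵥ x = x + (k * B x w) • w) → t ∈ M}
  -- conjugates of centres
  have conj : ∀ g ∈ M, (∀ x y, B ((g : Matrix ι ι F) *ᵥ x) ((g : Matrix ι ι F) *ᵥ y) = B x y) → ∀ w ∈ C,
      (g : Matrix ι ι F) *ᵥ w ∈ C := by
    intro g hg hgB w hw k t ht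
    obtain ⟨s, hs', -⟩ := exV w k
    have e : g * s * g⁻¹ = t := by
      rw [mul_inv_eq_iff_eq_mul]
      refine gl_ext fun x => ?_
      rw [mulVec_mul_GL, mulVec_mul_GL, hs', ht, mulVec_add, mulVec_smul, hgB]
    exact e ▸ mul_mem (mul_mem hg (hw k s hs')) (inv_mem hg)
  have hcfg : Centres.Cfg B (Matrix.mulVecLin J) (Matrix.mulVecLin J') C := by
    refine ⟨alt, nd, sq J hJ.1, sq J' hJ'.1, fun x => ?_, skew J hJ.2, skew J' hJ'.2, ?_, ?_, ?_, ?_⟩
    · rw [Matrix.mulVecLin_apply, Matrix.mulVecLin_apply, Matrix.mulVecLin_apply, Matrix.mulVecLin_apply,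
        mulVec_mulVec, mulVec_mulVec, hanti, neg_mulVec]
    · intro t w hw k s hs'
      refine hw (k * t * t) s fun x => ?_
      rw [hs', map_smul, smul_eq_mul, smul_smul]
      congr 2
      ring
    · intro x hx y hy hxy
      obtain ⟨s, hs', hsB⟩ := exV x (B y x)⁻¹
      have := conj s (hx _ s hs') hsB y hy
      rwa [hs', inv_mul_cancel₀ (by rw [hsw]; exact neg_ne_zero.2 hxy), one_smul, add_comm] at this
    · intro u h1 h3 hdd
      simp only [Matrix.mulVecLin_apply] at h1 h3 hdd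
      have hbc : B (J' *ᵥ u) (J *ᵥ u) = B u (J *ᵥ (J' *ᵥ u)) := by
        rw [hsw, show B (J *ᵥ u) (J' *ᵥ u) = -B u (J *ᵥ (J' *ᵥ u)) from skew J hJ.2 u (J' *ᵥ u), neg_neg]
      have hsq : ∀ (s : F) (t : GL ι F), (∀ x, (t : Matrix ι ι F) *ᵥ x =
          x + ((2 * (s * s) * B u (J *ᵥ (J' *ᵥ u))) * B x u) • u) → t ∈ M := by
        intro s t ht
        obtain ⟨b, hb, -⟩ := exT u ((s * s) • (J *ᵥ u)) (by rw [map_smul, h1, smul_zero])
        obtain ⟨k, hk, -⟩ := exT u (J' *ᵥ u) h3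
        have hbM : b ∈ M := hM J (Or.inl rfl) (s • u)
          (by rw [← hB, mulVec_smul, map_smul, map_smul, LinearMap.smul_apply, h1, smul_zero, smul_zero]) b fun x => by
            rw [hb, ← hB, ← hB, mulVec_smul, map_smul, map_smul, map_smul, smul_smul, smul_smul, smul_eq_mul,
              smul_eq_mul, smul_eq_mul, smul_smul]
            congr 2
            · congr 1; ring
            · ring
        have hkM : k ∈ M := hM J' (Or.inr rfl) u ((hB _ _).symm.trans h3) k fun x => by rw [hk, ← hB, ← hB]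
        have e : t = (k * b)⁻¹ * (b * k) := by
          rw [eq_inv_mul_iff_mul_eq]
          refine gl_ext fun x => ?_
          rw [mulVec_mul_GL, mulVec_mul_GL, mulVec_mul_GL, hk ((b : Matrix ι ι F) *ᵥ _), hb, ht, hk x, hb]
          simp only [map_add, map_smul, LinearMap.add_apply, LinearMap.smul_apply, smul_eq_mul, alt, h1, h3,
            hsw u (J *ᵥ u), hsw u (J' *ᵥ u), hsw (J' *ᵥ u) (J *ᵥ u), hbc]
          module
        exact e ▸ mul_mem (inv_mem (mul_mem hkM hbM)) (mul_mem hbM hkM)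
      intro k t ht
      obtain ⟨s, s', hss⟩ := Bases.exists_sq_add_sq h2 (one_ne_zero : (1 : F) ≠ 0) one_ne_zero
        (k / (2 * B u (J *ᵥ (J' *ᵥ u))))
      obtain ⟨t₁, ht₁, -⟩ := exV u (2 * (s * s) * B u (J *ᵥ (J' *ᵥ u)))
      obtain ⟨t₂, ht₂, -⟩ := exV u (2 * (s' * s') * B u (J *ᵥ (J' *ᵥ u)))
      have e : t = t₁ * t₂ := gl_ext fun x => by
        rw [mulVec_mul_GL, ht₂, ht₁, ht]
        simp only [map_add, map_smul, LinearMap.add_apply, LinearMap.smul_apply, smul_eq_mul, alt, mul_zero,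
          add_zero]
        rw [add_assoc, ← add_smul, ← add_mul]
        congr 3
        have h2d : 2 * B u (J *ᵥ (J' *ᵥ u)) ≠ 0 := mul_ne_zero h2 hdd
        rw [eq_div_iff h2d] at hss
        linear_combination -hss
      exact e ▸ mul_mem (hsq s t₁ ht₁) (hsq s' t₂ ht₂)
    · intro w hw u hu
      simp only [Matrix.mulVecLin_apply] at hu ⊢
      obtain ⟨s, hs', hsB⟩ := exT u (J *ᵥ u) hu
      have := conj s (hM J (Or.inl rfl) u ((hB _ _).symm.trans hu) s fun x => by rw [hs', ← hB, ← hB]) hsB w hw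
      rwa [hs'] at this
  obtain ⟨u, hu⟩ := exists_base h2 hn alt nd hcfg.sq hcfg.sq' hcfg.anti hcfg.skew hcfg.skew'
  obtain ⟨a, e, hae⟩ := Bases.exists_sq_add_sq h2 (one_ne_zero : (1 : F) ≠ 0) one_ne_zero (-1)
  exact Centres.all_mem hcfg h2 ⟨a, e, by linear_combination hae⟩ hu v c g fun x => by rw [hg, hB]

/-- generation of the symplectic group -/
theorem isoGrp_le_of_roots [Finite F] (h2 : (2 : F) ≠ 0) (hn : 5 ≤ Fintype.card ι) {Φ : Matrix ι ι F}
    (hs : Φᵀ = -Φ) (hd : IsUnit Φ) {J J' : Matrix ι ι F} (hJ : J * J = -1 ∧ Jᵀ * Φ = -(Φ * J))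
    (hJ' : J' * J' = -1 ∧ J'ᵀ * Φ = -(Φ * J')) (hanti : J' * J = -(J * J')) {M : Subgroup (GL ι F)}
    (hM : ∀ X, X = J ∨ X = J' → ∀ u : ι → F, u ⬝ᵥ Φ *ᵥ (X *ᵥ u) = 0 → ∀ g : GL ι F,
      (∀ x, (g : Matrix ι ι F) *ᵥ x = x + (x ⬝ᵥ Φ *ᵥ u) • (X *ᵥ u) + (x ⬝ᵥ Φ *ᵥ (X *ᵥ u)) • u) → g ∈ M) :
    isoGrp (RingHom.id F) Φ ≤ M := by
  intro g hg
  rw [mem_isoGrp] at hg
  let D : LinearMap.BilinForm F (ι → F) := Matrix.toBilin' (-Φ)
  have hD : ∀ x y, D x y = -(x ⬝ᵥ Φ *ᵥ y) := fun x y => by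
    rw [show D x y = x ⬝ᵥ (-Φ) *ᵥ y from Matrix.toBilin'_apply' _ x y, neg_mulVec, dotProduct_neg]
  have hDa : D.IsAlt := fun x => by
    have h1 : x ⬝ᵥ Φ *ᵥ x = -(x ⬝ᵥ Φ *ᵥ x) := by
      conv_lhs => rw [Matrix.dotProduct_mulVec, vecMul_of_skew hs, neg_dotProduct, dotProduct_comm]
    rw [hD, neg_eq_zero]
    refine (mul_eq_zero.1 (?_ : (2 : F) * (x ⬝ᵥ Φ *ᵥ x) = 0)).resolve_left h2
    linear_combination h1
  have hDn : D.Nondegenerate := Matrix.Nondegenerate.toBilin' (Matrix.nondegenerate_of_det_ne_zero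
    (((Matrix.isUnit_iff_isUnit_det _).1 hd.neg).ne_zero))
  obtain ⟨m, hm⟩ := Bases.even_finrank_of_alt D hDa hDn
  obtain ⟨bs, b1, b2, b3⟩ := Bases.exists_sympBasis D hDa hDn hm
  let φ : (Fin m ⊕ Fin m → F) ≃ₗ[F] (ι → F) := bs.equivFun.symm
  have hφ : ∀ x y, φ x ⬝ᵥ Φ *ᵥ φ y = SympStd.sympB m F x y := by
    have e : (Matrix.toBilin' Φ).compl₁₂ φ.toLinearMap φ.toLinearMap = SympStd.sympB m F := by
      refine LinearMap.BilinForm.ext_basis (Pi.basisFun F (Fin m ⊕ Fin m)) fun i j => ?_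
      have hb : ∀ i, φ (Pi.single i 1) = bs i := fun i => by simp [φ]
      have hD' : ∀ i j, Matrix.toBilin' Φ (bs i) (bs j) = -D (bs i) (bs j) := fun i j => by
        rw [hD, neg_neg, Matrix.toBilin'_apply']
      simp only [LinearMap.compl₁₂_apply, Pi.basisFun_apply, LinearEquiv.coe_coe, hb, hD', SympStd.sympB,
        Matrix.toBilin'_single]
      rcases i with i | i <;> rcases j with j | j
      · simp [b2, Matrix.J]
      · simp [b1, Matrix.J, Matrix.one_apply]
      · rw [← LinearMap.IsAlt.neg hDa, b1]; simp [Matrix.J, Matrix.one_apply, eq_comm]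
      · simp [b3, Matrix.J]
    intro x y
    have := LinearMap.congr_fun (LinearMap.congr_fun e x) y
    rw [LinearMap.compl₁₂_apply, Matrix.toBilin'_apply'] at this
    exact this
  let M₀ : Subgroup (GL (Fin m ⊕ Fin m) F) :=
    { carrier := {k | ∃ h ∈ M, ∀ x, (h : Matrix ι ι F) *ᵥ φ x = φ ((k : Matrix _ _ F) *ᵥ x)}
      one_mem' := ⟨1, one_mem M, fun x => by simp⟩
      mul_mem' := by
        rintro k k' ⟨h, hh, e⟩ ⟨h', hh', e'⟩
        exact ⟨h * h', mul_mem hh hh', fun x => by rw [mulVec_mul_GL, e', e, mulVec_mul_GL]⟩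
      inv_mem' := by
        rintro k ⟨h, hh, e⟩
        refine ⟨h⁻¹, inv_mem hh, fun x => ?_⟩
        have := e (((k⁻¹ : GL _ F) : Matrix _ _ F) *ᵥ x)
        rw [mulVec_inv_cancel] at this
        rw [← this, inv_mulVec_cancel] }
  have hle : Cfsg.spGL m F ≤ M₀ := Symp.spGL_le_of_centres fun v c => by
    have halt : φ v ⬝ᵥ Φ *ᵥ φ v = 0 := by rw [hφ, Symp.B_self]
    have h1 : (c • (Φ *ᵥ φ v)) ⬝ᵥ φ v = 0 := by
      rw [smul_dotProduct, dotProduct_comm, halt, smul_zero]
    have ht : ∀ x, ((Aschbacher.trv (φ v) _ h1 : GL ι F) : Matrix ι ι F) *ᵥ x = x + (c * (x ⬝ᵥ Φ *ᵥ φ v)) • φ v :=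
      fun x => by rw [Aschbacher.trv_mulVec, smul_dotProduct, dotProduct_comm, smul_eq_mul]
    refine ⟨_, symp_transvections h2 hn hs hd hJ hJ' hanti hM (φ v) c _ ht, fun x => ?_⟩
    rw [ht, Symp.spTrv_apply, map_add, map_smul, hφ]
  let L : (Fin m ⊕ Fin m → F) →ₗ[F] (Fin m ⊕ Fin m → F) :=
    φ.symm.toLinearMap ∘ₗ Matrix.mulVecLin (g : Matrix ι ι F) ∘ₗ φ.toLinearMap
  let L' : (Fin m ⊕ Fin m → F) →ₗ[F] (Fin m ⊕ Fin m → F) :=
    φ.symm.toLinearMap ∘ₗ Matrix.mulVecLin ((g⁻¹ : GL ι F) : Matrix ι ι F) ∘ₗ φ.toLinearMap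
  let k : GL (Fin m ⊕ Fin m) F :=
    ⟨LinearMap.toMatrix' L, LinearMap.toMatrix' L',
      by rw [← LinearMap.toMatrix'_comp, ← LinearMap.toMatrix'_id]; congr 1; ext x; simp [L, L', mulVec_inv_cancel],
      by rw [← LinearMap.toMatrix'_comp, ← LinearMap.toMatrix'_id]; congr 1; ext x; simp [L, L', inv_mulVec_cancel]⟩
  have hk : ∀ x, φ ((k : Matrix _ _ F) *ᵥ x) = (g : Matrix ι ι F) *ᵥ φ x := fun x => by
    show φ (LinearMap.toMatrix' L *ᵥ x) = _
    rw [LinearMap.toMatrix'_mulVec]; simp [L]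
  have hkS : k ∈ Cfsg.spGL m F := Symp.mem_spGL_iff.2 fun u v => by
    rw [← hφ, ← hφ, hk, hk, Matrix.dotProduct_mulVec, Matrix.vecMul_mulVec, ← Matrix.dotProduct_mulVec,
      mulVec_mulVec]
    have hg' : (g : Matrix ι ι F)ᵀ * Φ * (g : Matrix ι ι F) = Φ := by simpa using hg
    rw [hg']
  obtain ⟨h, hh, he⟩ := hle hkS
  have hgh : h = g := gl_ext fun y => by
    obtain ⟨x, rfl⟩ := φ.surjective y
    rw [he, hk]
  exact hgh ▸ hh

end symp

end Cfsg.Agent.Forms.Max.TwoGroup
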