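import Cfsg.Agent.Lib.Forms.Max.TwoGroup.Isometry
import Cfsg.Agent.Lib.Forms.Max.Linear
import Cfsg.Agent.Lib.Forms.Max.Unitary
import Cfsg.Agent.Lib.AutPSL.GraphFieldCent

/-!
# Generation of the special linear and special unitary groups by the groups of four halves

Two cuts `P`, `Q` of the coordinates with all quarters of size at least two. A subgroup containing the elements
supported on one of the four halves contains the whole group.
-/

set_option autoImplicit false
set_option linter.unusedSectionVars false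

namespace Cfsg.Agent.Forms.Max.TwoGroup

open Matrix

/-- the matrix is the identity outside the half `f = x` -/
def Supp {ι F : Type*} [DecidableEq ι] [Zero F] [One F] (f : ι → Bool) (x : Bool) (A : Matrix ι ι F) : Prop :=
  ∀ i j, ¬ (f i = x ∧ f j = x) → A i j = if i = j then 1 else 0

variable {F : Type*} [Field F]

section linear

variable {ι : Type} [Fintype ι] [DecidableEq ι]

/-- generation of the special linear group -/
theorem specialLinear_le_of_halves (P Q : ι → Bool) (hne : ∀ x y, ∃ i, P i = x ∧ Q i = y) {M : Subgroup (GL ι F)}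
    (hM : ∀ g ∈ Cfsg.Geo.specialLinear ι F, (∃ x, Supp P x (g : Matrix ι ι F) ∨ Supp Q x (g : Matrix ι ι F)) → g ∈ M) :
    Cfsg.Geo.specialLinear ι F ≤ M := by
  intro g hg
  let S : Subgroup (SpecialLinearGroup ι F) := M.comap SpecialLinearGroup.toGL
  have hsame : ∀ {i j : ι} (hij : i ≠ j) (c : F), (P i = P j ∨ Q i = Q j) →
      SpecialLinearGroup.transvection hij c ∈ S := by
    intro i j hij c h
    refine hM _ (Aschbacher.mem_specialLinear.2 (SpecialLinearGroup.transvection hij c).2) ?_
    have hs : ∀ f : ι → Bool, f i = f j →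
        Supp f (f i) (SpecialLinearGroup.transvection hij c : Matrix ι ι F) := by
      intro f hf a b hab
      rw [SpecialLinearGroup.transvection_coe]
      have hne : ¬ (i = a ∧ j = b) := fun ⟨ha, hb⟩ => hab ⟨ha ▸ rfl, hb ▸ hf.symm⟩
      simp [Matrix.one_apply, Matrix.single_apply, hne]
    rcases h with h | h
    · exact ⟨_, Or.inl (hs P h)⟩
    · exact ⟨_, Or.inr (hs Q h)⟩
  have hS : S = ⊤ := Classical.Linear.eq_top_of_transvection_mem S fun i j hij c => by
    by_cases h : P i = P j ∨ Q i = Q j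
    · exact hsame hij c h
    push Not at h
    obtain ⟨k, hkP, hkQ⟩ := hne (P i) (Q j)
    have hik : i ≠ k := fun e => h.2 (e ▸ hkQ)
    have hkj : k ≠ j := fun e => h.1 (e ▸ hkP).symm
    have ha := hsame hik c (Or.inl hkP.symm)
    have hb := hsame hkj 1 (Or.inr hkQ)
    have key : SpecialLinearGroup.transvection hij c * SpecialLinearGroup.transvection hkj 1 *
        SpecialLinearGroup.transvection hik c =
        SpecialLinearGroup.transvection hik c * SpecialLinearGroup.transvection hkj (1 : F) := by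
      refine Subtype.ext ?_
      simp [SpecialLinearGroup.transvection_coe, mul_add, add_mul,
        Matrix.single_mul_single_of_ne _ _ _ _ (show j ≠ k from hkj.symm),
        Matrix.single_mul_single_of_ne _ _ _ _ (show j ≠ i from hij.symm), ← add_assoc]
      try abel
    rw [show SpecialLinearGroup.transvection hij c = SpecialLinearGroup.transvection hik c *
        SpecialLinearGroup.transvection hkj (1 : F) * (SpecialLinearGroup.transvection hik c)⁻¹ *
        (SpecialLinearGroup.transvection hkj (1 : F))⁻¹ by rw [← key]; group]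
    exact mul_mem (mul_mem (mul_mem ha hb) (inv_mem ha)) (inv_mem hb)
  let x : SpecialLinearGroup ι F := ⟨(g : Matrix ι ι F), Aschbacher.mem_specialLinear.1 hg⟩
  have hx : x ∈ S := hS ▸ Subgroup.mem_top _
  have : SpecialLinearGroup.toGL x = g := Units.ext rfl
  rw [← this]; exact hx

end linear

/-- an automorphism of order two of a finite field is a Frobenius map -/
theorem exists_q [Fintype F] {σ : F →+* F} (hne : σ ≠ RingHom.id F) (hinv : ∀ a, σ (σ a) = a) :
    ∃ q : ℕ, Fintype.card F = q ^ 2 ∧ ∀ a, σ a = a ^ q := by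
  classical
  let K : Subfield F := σ.eqLocusField (RingHom.id F)
  have hK : ∀ a, a ∈ K ↔ σ a = a := fun a => Iff.rfl
  obtain ⟨t, ht⟩ : ∃ t, σ t ≠ t := by
    by_contra hc
    push Not at hc
    exact hne (RingHom.ext hc)
  have hd : t - σ t ≠ 0 := sub_ne_zero.2 (Ne.symm ht)
  have hb : ∀ a : F, (a - σ a) / (t - σ t) ∈ K := fun a => by
    rw [hK, map_div₀, map_sub, map_sub, hinv, hinv, ← neg_sub a, ← neg_sub t, neg_div_neg_eq]
  have ha : ∀ a : F, a - (a - σ a) / (t - σ t) * t ∈ K := fun a => by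
    rw [hK, map_sub, map_mul, (hK _).1 (hb a)]
    field_simp
    ring
  let e : F ≃ K × K :=
    { toFun := fun a => (⟨_, ha a⟩, ⟨_, hb a⟩)
      invFun := fun p => (p.1 : F) + (p.2 : F) * t
      left_inv := fun a => by simp
      right_inv := fun p => by
        have h1 : σ (p.1 : F) = p.1 := (hK _).1 p.1.2
        have h2 : σ (p.2 : F) = p.2 := (hK _).1 p.2.2
        have e2 : ((p.1 : F) + p.2 * t - σ (p.1 + p.2 * t)) / (t - σ t) = p.2 := by
          rw [map_add, map_mul, h1, h2, div_eq_iff hd]; ring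
        refine Prod.ext (Subtype.ext ?_) (Subtype.ext e2)
        show (p.1 : F) + p.2 * t - ((p.1 : F) + p.2 * t - σ (p.1 + p.2 * t)) / (t - σ t) * t = p.1
        rw [e2]; ring }
  refine ⟨Fintype.card K, by rw [Fintype.card_congr e, Fintype.card_prod, sq], ?_⟩
  set q := Fintype.card K with hq
  have hfix : ∀ a, a ∈ K → a ^ q = a := fun a h => congrArg Subtype.val (FiniteField.pow_card (⟨a, h⟩ : K))
  have hq1 : 1 < q := Fintype.one_lt_card
  have hroot : ∀ a, a ^ q = a → a ∈ K := by
    intro a h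
    by_contra hn
    have h0 : (Polynomial.X ^ q - Polynomial.X : Polynomial F) ≠ 0 := FiniteField.X_pow_card_sub_X_ne_zero F hq1
    have hsub : insert a ((Finset.univ : Finset K).image Subtype.val) ⊆
        (Polynomial.X ^ q - Polynomial.X : Polynomial F).roots.toFinset := by
      intro x hx
      have hxq : x ^ q = x := by
        rcases Finset.mem_insert.1 hx with rfl | hx
        · exact h
        · obtain ⟨y, -, rfl⟩ := Finset.mem_image.1 hx
          exact hfix _ y.2
      rw [Multiset.mem_toFinset, Polynomial.mem_roots h0]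
      simp [hxq]
    have h1 := (Finset.card_le_card hsub).trans ((Multiset.toFinset_card_le _).trans (Polynomial.card_roots' _))
    rw [FiniteField.X_pow_card_sub_X_natDegree_eq F hq1, Finset.card_insert_of_notMem fun hm => by
      obtain ⟨y, -, rfl⟩ := Finset.mem_image.1 hm; exact hn y.2,
      Finset.card_image_of_injective _ Subtype.val_injective, Finset.card_univ] at h1
    omega
  obtain ⟨p, hp⟩ := CharP.exists F
  haveI : Fact p.Prime := ⟨CharP.char_is_prime F p⟩
  have : CharP K p := (K.subtype.charP_iff K.subtype.injective p).2 inferInstance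
  obtain ⟨m, -, hm⟩ := FiniteField.card K p
  intro a
  by_cases h : a ∈ K
  · rw [hfix a h, (hK a).1 h]
  · have hs : a + σ a ∈ K := by rw [hK, map_add, hinv, add_comm]
    have hn : a * σ a ∈ K := by rw [hK, map_mul, hinv, mul_comm]
    have hadd : ∀ u v : F, (u + v) ^ q = u ^ q + v ^ q := fun u v => by
      rw [hq, hm]; exact add_pow_char_pow u v p m
    have h1 : (a ^ q - a) * (a ^ q - σ a) = 0 := by
      have e1 : a ^ q * (σ a) ^ q = a * σ a := by rw [← mul_pow, hfix _ hn]
      have e2 : a ^ q + (σ a) ^ q = a + σ a := by rw [← hadd, hfix _ hs]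
      linear_combination a ^ q * e2 - e1
    rcases mul_eq_zero.1 h1 with h2 | h2
    · exact absurd (hroot a (sub_eq_zero.1 h2)) h
    · exact (sub_eq_zero.1 h2).symm

namespace GenUnitary

open Cfsg.Agent.Classical.Unitary Cfsg.Agent.Forms.Max.Unitary

variable [Fintype F] {q n : ℕ}

local notation "Vec" => (Fin n → F)
local notation "GLn" => GL (Fin n) F
local notation "Mat" => Matrix (Fin n) (Fin n) F
local notation "H" => Cfsg.hermForm n F q
local notation "SUn" => (Cfsg.GU n F q ⊓ Cfsg.Geo.specialLinear (Fin n) F)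

/-- the vectors supported in a half -/
def sub (f : Fin n → Bool) (x : Bool) : Submodule F (Fin n → F) where
  carrier := {v | ∀ i, f i ≠ x → v i = 0}
  add_mem' := fun hv hw i hi => by simp [hv i hi, hw i hi]
  zero_mem' := fun i _ => rfl
  smul_mem' := fun c v hv i hi => by simp [hv i hi]

/-- the part of a vector in a half -/
def part (f : Fin n → Bool) (x : Bool) (v : Fin n → F) : Fin n → F := fun i => if f i = x then v i else 0

theorem part_mem (f : Fin n → Bool) (x : Bool) (v : Vec) : part f x v ∈ sub f x := fun i hi => by simp [part, hi]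

theorem part_add (f : Fin n → Bool) (x : Bool) (v : Vec) : part f x v + part f (!x) v = v := by
  funext i
  cases hf : f i <;> cases x <;> simp [part, hf]

theorem single_mem {f : Fin n → Bool} {x : Bool} {i : Fin n} (c : F) (hi : f i = x) :
    (Pi.single i c : Vec) ∈ sub f x := fun k hk =>
  Pi.single_eq_of_ne (M := fun _ => F) (by rintro rfl; exact hk hi) c

variable (hF : Fintype.card F = q ^ 2)
include hF

theorem H_single_left (j : Fin n) (v : Vec) : H (Pi.single j 1) v = v j ^ q := by
  rw [← H_conj hF, H_single_right hF]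

theorem orth {f : Fin n → Bool} {x : Bool} {u v : Vec} (hu : u ∈ sub f x) (hv : v ∈ sub f (!x)) : H u v = 0 := by
  refine Finset.sum_eq_zero fun i _ => ?_
  by_cases h : f i = x
  · rw [hv i (by cases x <;> simp [h]), zero_pow (q_ne_zero hF), mul_zero]
  · rw [hu i h, zero_mul]

theorem supp_of {f : Fin n → Bool} {x : Bool} {g : GLn} (hU : ∀ u ∈ sub (F := F) f (!x), (g : Mat) *ᵥ u = u)
    (hW : ∀ w ∈ sub (F := F) f x, (g : Mat) *ᵥ w ∈ sub (F := F) f x) : Supp f x (g : Mat) := by
  intro i j hij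
  have e : (g : Mat) i j = ((g : Mat) *ᵥ Pi.single j 1) i := by simp
  by_cases hj : f j = x
  · have hi : f i ≠ x := fun h => hij ⟨h, hj⟩
    rw [e, hW _ (single_mem 1 hj) i hi, if_neg (fun h : i = j => hi (h.symm ▸ hj))]
  · rw [e, hU _ (single_mem 1 (by cases x <;> simpa using hj))]
    simp [Pi.single_apply]

theorem exists_target {f f' : Fin n → Bool} {x : Bool} (h2 : ∃ i j, i ≠ j ∧ (f i = x ∧ f' i = false) ∧
    f j = x ∧ f' j = false) (a : Vec) :
    ∃ b, b ≠ 0 ∧ b ∈ sub f x ∧ b ∈ sub f' false ∧ H a a = H b b := by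
  obtain ⟨i, j, hij, ⟨hi, hi'⟩, hj, hj'⟩ := h2
  by_cases hd : H a a = 0
  · obtain ⟨t, ht⟩ := exists_norm hF (d := -1) (by
      rw [← HermStd.qHom_apply hF, map_neg, map_one])
    refine ⟨Pi.single i 1 + t • Pi.single j 1, fun h => ?_, ?_, ?_, ?_⟩
    · simpa [hij] using congrFun h i
    · exact (sub f x).add_mem (single_mem 1 hi) ((sub f x).smul_mem t (single_mem 1 hj))
    · exact (sub f' false).add_mem (single_mem 1 hi') ((sub f' false).smul_mem t (single_mem 1 hj'))
    · simp only [hd, H_add_left, H_add_right hF, H_smul_left, H_smul_right, H_single_single hF, hij, hij.symm,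
        if_true, if_false]
      linear_combination -ht
  · obtain ⟨c, hc⟩ := exists_norm hF (H_self_pow hF a)
    refine ⟨c • Pi.single i 1, fun h => ?_, (sub f x).smul_mem _ (single_mem 1 hi),
      (sub f' false).smul_mem _ (single_mem 1 hi'), ?_⟩
    · have h0 := congrFun h i
      simp at h0
      exact hd (by rw [← hc, h0, mul_zero])
    · rw [H_smul_left, H_smul_right, H_single_single hF, if_pos rfl, mul_one, ← hc, mul_comm]

/-- moving a vector of a half into a quarter -/
theorem move_half (f f' : Fin n → Bool) (x : Bool) (h0 : ∃ i j, i ≠ j ∧ (f i = x ∧ f' i = false) ∧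
    f j = x ∧ f' j = false) (h1 : ∃ k, f k = x ∧ f' k = true) (a : Vec) (ha : a ∈ sub f x) :
    ∃ g ∈ SUn, Supp f x (g : Mat) ∧ (∀ u ∈ sub (F := F) f (!x), (g : Mat) *ᵥ u = u) ∧
      ((g : Mat) *ᵥ a) ∈ sub (F := F) f' false ∧ ((g : Mat) *ᵥ a) ∈ sub (F := F) f x := by
  rcases eq_or_ne a 0 with rfl | ha0
  · refine ⟨1, one_mem _, ?_, fun u _ => by simp, by simp, by simp⟩
    intro i j _
    simp [Matrix.one_apply]
  obtain ⟨b, hb0, hb, hb', hab⟩ := exists_target hF h0 a
  obtain ⟨k, hk, hk'⟩ := h1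
  have hC : IsCompl (sub (F := F) f x) (sub (F := F) f (!x)) := by
    refine ⟨Submodule.disjoint_def.2 fun v h h' => funext fun i => ?_, codisjoint_iff.2 ((Submodule.eq_top_iff').2 fun v =>
      Submodule.mem_sup.2 ⟨_, part_mem f x v, _, part_mem f (!x) v, part_add f x v⟩)⟩
    by_cases hi : f i = x
    · exact h' i (by cases x <;> simp [hi])
    · exact h i hi
  have hperp : perp q (sub (F := F) f (!x)) = sub f x := by
    ext v
    rw [Unitary.mem_perp]
    refine ⟨fun h i hi => ?_, fun h w hw => orth hF h hw⟩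
    rw [← H_single_right hF v i]
    exact h _ (single_mem 1 (by cases x <;> simpa using hi))
  obtain ⟨g, hg, hgU, hga, hgW⟩ := exists_move hF hC hperp (fun w hw u hu => orth hF hw hu) ha hb ha0 hb0 hab
  have hdet : ((g : Mat).det) ^ (q + 1) = 1 := HermStd.det_norm hF _ (fun u v => hg u v)
  set d := (g : Mat).det with hd
  have hd0 : d ≠ 0 := fun h => by rw [h, zero_pow (by omega)] at hdet; exact zero_ne_one hdet
  have hkk : H (Pi.single k 1 : Vec) (Pi.single k 1) ≠ 0 := by rw [H_single_single hF]; simp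
  obtain ⟨s, hs, hsd, hsx⟩ := exists_quasi hF hkk (δ := d⁻¹) (by rw [inv_pow, hdet, inv_one])
  have hsk : ∀ v : Vec, v k = 0 → (s : Mat) *ᵥ v = v := fun v hv => by
    rw [hsx, show H v (Pi.single k 1) = 0 by rw [H_single_right hF, hv], mul_zero, zero_smul, add_zero]
  have hfix : ∀ u ∈ sub (F := F) f (!x), ((s * g : GLn) : Mat) *ᵥ u = u := fun u hu => by
    rw [mulVec_mul_GL, hgU u hu, hsk u (hu k (by cases x <;> simp [hk]))]
  have hW : ∀ w ∈ sub (F := F) f x, ((s * g : GLn) : Mat) *ᵥ w ∈ sub (F := F) f x := fun w hw => by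
    rw [mulVec_mul_GL, hsx]
    exact (sub f x).add_mem (hgW w hw) ((sub f x).smul_mem _ (single_mem 1 hk))
  refine ⟨s * g, ⟨mul_mem hs hg, Aschbacher.mem_specialLinear.2 ?_⟩, supp_of hF hfix hW, hfix, ?_, hW a ha⟩
  · rw [Units.val_mul, Matrix.det_mul, hsd, ← hd, inv_mul_cancel₀ hd0]
  · rw [mulVec_mul_GL, hga, hsk b (hb' k (by simp [hk']))]
    exact hb'

/-- generation of the special unitary group -/
theorem SUn_le (P Q : Fin n → Bool) (hne : ∀ x y, ∃ i j, i ≠ j ∧ (P i = x ∧ Q i = y) ∧ P j = x ∧ Q j = y)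
    {M : Subgroup GLn} (hM : ∀ g ∈ SUn, (∃ x, Supp P x (g : Mat) ∨ Supp Q x (g : Mat)) → g ∈ M) : SUn ≤ M := by
  have hn : 4 ≤ n := by
    choose i _ _ hi _ _ using hne
    have hinj : Function.Injective fun p : Bool × Bool => i p.1 p.2 := fun p r h => by
      have h1 := hi p.1 p.2
      have h2 := hi r.1 r.2
      simp only at h
      rw [h, h2.1, h2.2] at h1
      exact Prod.ext h1.1.symm h1.2.symm
    simpa using Fintype.card_le_of_injective _ hinj
  suffices h : ∀ v : Vec, H v v = 0 → v ∈ Unitary.centres q (M ⊓ SUn) from (SUn_le_of_centres hF hn h).trans inf_le_left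
  intro v hv
  have hQ : ∀ w : Vec, w ∈ sub Q false → H w w = 0 → w ∈ Unitary.centres q (M ⊓ SUn) := by
    intro w hw hww
    refine ⟨hww, fun g c hc hg => ?_⟩
    obtain ⟨s, hs, hsx⟩ := exists_tv hF hww hc
    have hgs : g ∈ SUn := (gl_ext fun x => by rw [hg, hsx] : g = s) ▸ hs
    refine ⟨hM g hgs ⟨false, Or.inr fun i j hij => ?_⟩, hgs⟩
    have e : (g : Mat) i j = ((g : Mat) *ᵥ Pi.single j 1) i := by simp
    rw [e, hg, H_single_left hF]
    by_cases hi : Q i = false
    · rw [hw j fun h => hij ⟨hi, h⟩]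
      simp [Pi.single_apply, zero_pow (q_ne_zero hF)]
    · simp [Pi.single_apply, hw i hi]
  obtain ⟨a, ha, hsa, hUa, haQ, haP⟩ := move_half hF P Q true (hne true false)
    (let ⟨i, _, _, h, _⟩ := hne true true; ⟨i, h⟩) _ (part_mem P true v)
  obtain ⟨b, hb, hsb, hUb, hbQ, -⟩ := move_half hF P Q false (hne false false)
    (let ⟨i, _, _, h, _⟩ := hne false true; ⟨i, h⟩) _ (part_mem P false v)
  have hab : b * a ∈ M ⊓ SUn :=
    ⟨mul_mem (hM b hb ⟨false, Or.inl hsb⟩) (hM a ha ⟨true, Or.inl hsa⟩), mul_mem hb ha⟩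
  have hav : ((b * a : GLn) : Mat) *ᵥ v = (a : Mat) *ᵥ part P true v + (b : Mat) *ᵥ part P false v := by
    conv_lhs => rw [mulVec_mul_GL, ← part_add P true v, mulVec_add, mulVec_add, Bool.not_true,
      hUa _ (part_mem P false v), hUb _ haP]
  have hc := hQ _ (hav ▸ (sub Q false).add_mem haQ hbQ) (by rw [SUn_H hab.2]; exact hv)
  have h := Unitary.centres_map hF inf_le_right (inv_mem hab) hc
  rwa [inv_mulVec_cancel] at h

end GenUnitary

section general

variable {ι : Type} [Fintype ι] [DecidableEq ι]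

/-- generation of the linear or unitary special group by the groups of the four halves -/
theorem isoGrp_le_of_halves [Finite F] (σ : F →+* F) (Φ : Matrix ι ι F)
    (hcase : (Φ = 0 ∧ σ = RingHom.id F) ∨ (Φ = 1 ∧ (∀ a, σ (σ a) = a) ∧ σ ≠ RingHom.id F))
    (P Q : ι → Bool) (hne : ∀ x y, ∃ i j, i ≠ j ∧ (P i = x ∧ Q i = y) ∧ P j = x ∧ Q j = y) {M : Subgroup (GL ι F)}
    (hM : ∀ g ∈ isoGrp σ Φ ⊓ Cfsg.Geo.specialLinear ι F,
      (∃ x, Supp P x (g : Matrix ι ι F) ∨ Supp Q x (g : Matrix ι ι F)) → g ∈ M) :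
    isoGrp σ Φ ⊓ Cfsg.Geo.specialLinear ι F ≤ M := by
  rcases hcase with ⟨rfl, rfl⟩ | ⟨rfl, hinv, hnid⟩
  · refine inf_le_right.trans (specialLinear_le_of_halves P Q (fun x y => ?_) fun g hg h => hM g ⟨?_, hg⟩ h)
    · obtain ⟨i, -, -, hi, -⟩ := hne x y
      exact ⟨i, hi⟩
    · rw [isoGrp_zero]; trivial
  have : Fintype F := Fintype.ofFinite F
  obtain ⟨q, hF, hq⟩ := exists_q hnid hinv
  let e := Fintype.equivFin ι
  let ρ : GL ι F ≃* GL (Fin (Fintype.card ι)) F := Units.mapEquiv (Matrix.reindexAlgEquiv F F e).toMulEquiv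
  have hρ : ∀ g : GL ι F, (ρ g : Matrix _ _ F) = (g : Matrix ι ι F).submatrix e.symm e.symm := fun g => rfl
  let τ : F ≃+* F := RingEquiv.ofBijective σ ⟨σ.injective, fun a => ⟨σ a, hinv a⟩⟩
  have hiff : ∀ g : GL ι F, g ∈ isoGrp σ (1 : Matrix ι ι F) ↔ ρ g ∈ Cfsg.GU (Fintype.card ι) F q := by
    intro g
    rw [mem_isoGrp, AutPSL.GraphFieldCent.mem_GU_iff (σ := τ) (fun a => hq a), hρ, mul_one]
    have hσσ : ∀ X : Matrix ι ι F, (X.map σ).map σ = X := fun X => Matrix.ext fun i j => hinv _
    have h1 : ((g : Matrix ι ι F).submatrix e.symm e.symm)ᵀ *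
        ((g : Matrix ι ι F).submatrix e.symm e.symm).map τ =
        ((g : Matrix ι ι F)ᵀ * (g : Matrix ι ι F).map σ).submatrix e.symm e.symm := by
      rw [← Matrix.submatrix_mul_equiv _ _ e.symm e.symm e.symm]
      rfl
    rw [h1, ← Matrix.submatrix_one_equiv e.symm, show ∀ A B : Matrix ι ι F, (A.submatrix e.symm e.symm = B.submatrix e.symm e.symm ↔ A = B) from fun A B => (Matrix.reindex e e).apply_eq_iff_eq]
    constructor
    · intro h
      have := congrArg (fun X : Matrix ι ι F => X.map σ) h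
      simpa only [map_mul', ← Matrix.transpose_map, hσσ, Matrix.map_one _ (map_zero _) (map_one _)] using this
    · intro h
      have := congrArg (fun X : Matrix ι ι F => X.map σ) h
      simpa only [map_mul', ← Matrix.transpose_map, hσσ, Matrix.map_one _ (map_zero _) (map_one _)] using this
  have hdet : ∀ g : GL ι F, g ∈ Cfsg.Geo.specialLinear ι F ↔ ρ g ∈ Cfsg.Geo.specialLinear (Fin (Fintype.card ι)) F := by
    intro g
    rw [Aschbacher.mem_specialLinear, Aschbacher.mem_specialLinear, hρ, Matrix.det_submatrix_equiv_self]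
  intro g hg
  have hle := GenUnitary.SUn_le hF (P ∘ e.symm) (Q ∘ e.symm) (fun x y => by
    obtain ⟨i, j, hij, hi, hj⟩ := hne x y
    exact ⟨e i, e j, e.injective.ne hij, by simpa using hi, by simpa using hj⟩)
    (M := M.map ρ.toMonoidHom) (fun h hh hs => by
      obtain ⟨k, rfl⟩ := ρ.surjective h
      refine ⟨k, hM k ⟨(hiff k).2 hh.1, (hdet k).2 hh.2⟩ ?_, rfl⟩
      obtain ⟨x, hs⟩ := hs
      rw [hρ] at hs
      refine ⟨x, hs.imp (fun h i j hij => ?_) fun h i j hij => ?_⟩ <;>
        simpa using h (e i) (e j) (by simpa using hij))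
  obtain ⟨k, hk, hke⟩ := hle ⟨(hiff g).1 hg.1, (hdet g).1 hg.2⟩
  exact ρ.injective hke ▸ hk

end general

end Cfsg.Agent.Forms.Max.TwoGroup
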