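import Cfsg.Agent.Lib.Forms.Max.TwoGroup.Kind

/-!
# Transvection lifts of determinant one

From three qubits on every transvection of the form is a product of commutators of images of normalising isometries, so
it is induced by a normalising isometry of determinant one.
-/

set_option autoImplicit false
set_option linter.unusedSectionVars false

namespace Cfsg.Agent.Forms.Max.TwoGroup

open Matrix

variable {A ι F : Type*} [AddCommGroup A] [Module (ZMod 2) A] [Fintype A] [Field F] [Fintype ι] [DecidableEq ι]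

theorem commutator_mem_big {σ : F →+* F} {Φ : Matrix ι ι F} {g h : GL ι F} (hg : g ∈ isoGrp σ Φ)
    (hh : h ∈ isoGrp σ Φ) : g * h * g⁻¹ * h⁻¹ ∈ big σ Φ :=
  Subgroup.mem_inf.2 ⟨Subgroup.mul_mem _ (Subgroup.mul_mem _ (Subgroup.mul_mem _ hg hh) (Subgroup.inv_mem _ hg))
    (Subgroup.inv_mem _ hh), by simp [MonoidHom.mem_ker]⟩

namespace Sys

variable (S : Sys A ι F)

/-- a vector outside a subspace pairs to one with something orthogonal to it -/
theorem exists_dual {W : Submodule (ZMod 2) A} {y : A} (hy : y ∉ W) :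
    ∃ d, S.ω y d = 1 ∧ ∀ w ∈ W, S.ω w d = 0 := by
  obtain ⟨φ, hφ, hφ0⟩ := Submodule.exists_dual_map_eq_bot_of_notMem hy inferInstance
  have hinj : Function.Injective S.ω.flip := fun d d' e => by
    refine eq_of_add_zero (S.ω_nondeg fun b => ?_)
    have e' : S.ω b d = S.ω b d' := LinearMap.congr_fun e b
    rw [S.ω_comm, map_add, e', CharTwo.add_self_eq_zero]
  obtain ⟨d, hd⟩ := (LinearMap.injective_iff_surjective_of_finrank_eq_finrank
    (Subspace.dual_finrank_eq (K := ZMod 2) (V := A)).symm).1 hinj φ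
  refine ⟨d, ?_, fun x hx => ?_⟩
  · rw [show S.ω y d = φ y from LinearMap.congr_fun hd y]
    exact (z2_cases _).resolve_left hφ
  · rw [show S.ω x d = φ x from LinearMap.congr_fun hd x, ← Submodule.mem_bot (R := ZMod 2), ← hφ0]
    exact Submodule.mem_map_of_mem hx

/-- two orthogonal vectors are orthogonal to a hyperbolic pair -/
theorem exists_hyp_perp (hA : 64 ≤ Fintype.card A) (v w : A) :
    ∃ u u', S.ω v u = 0 ∧ S.ω w u = 0 ∧ S.ω v u' = 0 ∧ S.ω w u' = 0 ∧ S.ω u u' = 1 := by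
  classical
  obtain ⟨u, hu1, hu2, hu⟩ : ∃ u, S.ω v u = 0 ∧ S.ω w u = 0 ∧ u ∉ ({0, v, w, v + w} : Finset A) := by
    obtain ⟨k, hk⟩ := Fintype.exists_lt_card_fiber_of_mul_lt_card (fun x : A => (S.ω v x, S.ω w x)) (n := 8)
      (by simp only [Fintype.card_prod, ZMod.card]; omega)
    obtain ⟨x₀, hx₀⟩ := Finset.card_pos.1 (show 0 < (Finset.univ.filter fun x : A => (S.ω v x, S.ω w x) = k).card
      by omega)
    obtain ⟨x, hx, hxn⟩ := Finset.exists_mem_notMem_of_card_lt_card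
      (s := (({0, v, w, v + w} : Finset A).image fun t => x₀ + t))
      (t := Finset.univ.filter fun x : A => (S.ω v x, S.ω w x) = k) (by
        have h1 := Finset.card_image_le (s := ({0, v, w, v + w} : Finset A)) (f := fun t => x₀ + t)
        have h2 : ({0, v, w, v + w} : Finset A).card ≤ 4 := Finset.card_le_four
        omega)
    simp only [Finset.mem_filter, Finset.mem_univ, true_and] at hx₀ hx
    refine ⟨x₀ + x, ?_, ?_, fun h => hxn (Finset.mem_image.2 ⟨_, h, add_add_self _ _⟩)⟩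
    · rw [map_add, (Prod.mk.inj (hx.trans hx₀.symm)).1, CharTwo.add_self_eq_zero]
    · rw [map_add, (Prod.mk.inj (hx.trans hx₀.symm)).2, CharTwo.add_self_eq_zero]
  have hnot : u ∉ Submodule.span (ZMod 2) ({v, w} : Set A) := fun h => by
    obtain ⟨a, b, e⟩ := Submodule.mem_span_pair.1 h
    refine hu ?_
    rcases z2_cases a with rfl | rfl <;> rcases z2_cases b with rfl | rfl <;> simp [← e]
  obtain ⟨u', h1, h2⟩ := S.exists_dual hnot
  exact ⟨u, u', hu1, hu2, h2 v (Submodule.subset_span (by simp)), h2 w (Submodule.subset_span (by simp)), h1⟩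

theorem pairMap_comm {v w u u' : A} (hvw : S.ω v w = 0) (h1 : S.ω v u = 0) (h2 : S.ω w u = 0)
    (h3 : S.ω v u' = 0) (h4 : S.ω w u' = 0) (h5 : S.ω u u' = 1) (x : A) :
    pairMap S v u (pairMap S u' w (pairMap S v u (pairMap S u' w x))) = pairMap S v w x := by
  have e1 : S.ω u v = 0 := by rw [S.ω_comm]; exact h1
  have e2 : S.ω u w = 0 := by rw [S.ω_comm]; exact h2
  have e3 : S.ω u' v = 0 := by rw [S.ω_comm]; exact h3
  have e4 : S.ω u' w = 0 := by rw [S.ω_comm]; exact h4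
  have e5 : S.ω u' u = 1 := by rw [S.ω_comm]; exact h5
  have e6 : S.ω w v = 0 := by rw [S.ω_comm]; exact hvw
  simp only [pairMap, map_add, map_smul, smul_eq_mul, S.ω_self, hvw, h1, h2, h3, h4, h5, e1, e2, e3, e4, e5, e6,
    mul_zero, add_zero, mul_one]
  rcases z2_cases (S.ω v x) with p | p <;> rcases z2_cases (S.ω w x) with r | r <;>
    rcases z2_cases (S.ω u x) with s | s <;> rcases z2_cases (S.ω u' x) with t | t <;>
    simp only [p, r, s, t, zero_smul, one_smul, add_zero, zero_add, show (1 : ZMod 2) + 1 = 0 from rfl] <;>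
    abel_nf <;> simp [two_zsmul, add_self_zero]

variable [Fintype F] {σ : F →+* F} {Φ : Matrix ι ι F}

theorem img_inv_of_invol {g : GL ι F} (hg : S.Norm g) (h : ∀ x, S.img g (S.img g x) = x) (x : A) :
    S.img g⁻¹ x = S.img g x := by
  conv_lhs => rw [← h x]
  rw [← img_mul hg.inv hg, inv_mul_cancel, img_one]

/-- the commutator of two normalising isometries with involutive images -/
theorem exists_comm {g h : GL ι F} (hg : g ∈ isoGrp σ Φ ⊓ S.norm) (hh : h ∈ isoGrp σ Φ ⊓ S.norm)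
    (ig : ∀ x, S.img g (S.img g x) = x) (ih : ∀ x, S.img h (S.img h x) = x) :
    ∃ k ∈ big σ Φ ⊓ S.norm, ∀ x, S.img k x = S.img g (S.img h (S.img g (S.img h x))) := by
  obtain ⟨hgi, hgn⟩ : g ∈ isoGrp σ Φ ∧ S.Norm g := hg
  obtain ⟨hhi, hhn⟩ : h ∈ isoGrp σ Φ ∧ S.Norm h := hh
  refine ⟨g * h * g⁻¹ * h⁻¹, ⟨commutator_mem_big hgi hhi, ((hgn.mul hhn).mul hgn.inv).mul hhn.inv⟩, fun x => ?_⟩
  rw [img_mul ((hgn.mul hhn).mul hgn.inv) hhn.inv, img_mul (hgn.mul hhn) hgn.inv, img_mul hgn hhn,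
    S.img_inv_of_invol hgn ig, S.img_inv_of_invol hhn ih]

theorem exists_pair_iso (hk : Cx σ Φ) (hu : ∀ a, S.u a ∈ isoGrp σ Φ) {v w : A} (hvw : S.ω v w = 0) :
    ∃ g ∈ isoGrp σ Φ ⊓ S.norm, (∀ x, S.img g x = pairMap S v w x) ∧ ∀ x, S.img g (S.img g x) = x := by
  obtain ⟨i, hi, hσ⟩ := hk.exists_i
  have hc : ∀ z, ∃ c : F, c * c * sgn F (S.q z) = 1 ∧ (σ c * c = 1 ∨ Φ = 0) := fun z => by
    rcases z2_cases (S.q z) with h | h
    · exact ⟨1, by rw [h, sgn_zero]; ring, Or.inl (by simp)⟩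
    · refine ⟨i, by rw [h, sgn_one, hi]; ring, ?_⟩
      rcases hσ with h0 | h0
      exacts [Or.inr h0, Or.inl (by rw [h0, neg_mul, hi, neg_neg])]
  obtain ⟨c, hc1, hc2⟩ := hc v
  obtain ⟨d, hd1, hd2⟩ := hc w
  have hp : S.Pair c d v w := ⟨hc1, hd1, hvw⟩
  refine ⟨hp.pr, ⟨S.pr_mem_iso hu hp hc2 hd2, hp.pr_mem⟩, hp.img_pr, fun x => ?_⟩
  rw [← img_mul hp.pr_mem hp.pr_mem, show hp.pr * hp.pr = 1 from Units.ext hp.mul_self, img_one]

/-- adjacent products -/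
theorem exists_adjacent (hk : Cx σ Φ) (hu : ∀ a, S.u a ∈ isoGrp σ Φ) {a b : A} (hab : S.ω a b = 1) :
    ∃ g ∈ big σ Φ ⊓ S.norm, ∀ x, S.img g x = S.τ a (S.τ b x) := by
  obtain ⟨s, hs, -, hsi⟩ := S.exists_τ_lift hk hu b
  obtain ⟨t, ht, -, hti⟩ := S.exists_τ_lift hk hu a
  obtain ⟨k, hkk, hki⟩ := S.exists_comm hs ht (fun x => by rw [hsi, hsi, τ_τ]) (fun x => by rw [hti, hti, τ_τ])
  refine ⟨k, hkk, fun x => ?_⟩
  rw [hki, hti, hsi, hti, hsi]
  have hba : S.ω b a = 1 := by rw [S.ω_comm]; exact hab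
  simp only [τ, map_add, map_smul, smul_eq_mul, S.ω_self, hab, hba, mul_zero, add_zero, mul_one]
  rcases z2_cases (S.ω a x) with p | p <;> rcases z2_cases (S.ω b x) with r | r <;>
    simp only [p, r, zero_smul, one_smul, add_zero, zero_add, show (1 : ZMod 2) + 1 = 0 from rfl] <;>
    abel_nf <;> simp [two_zsmul, add_self_zero]

/-- a normalising isometry of determinant one inducing a transvection -/
theorem exists_τ_big (hk : Cx σ Φ) (hu : ∀ a, S.u a ∈ isoGrp σ Φ) (hA : 64 ≤ Fintype.card A) (v : A) :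
    ∃ g ∈ big σ Φ ⊓ S.norm, ∀ x, S.img g x = S.τ v x := by
  obtain ⟨w, hvw, hw0, hwv⟩ : ∃ w, S.ω v w = 0 ∧ w ≠ 0 ∧ w ≠ v := by
    obtain ⟨u, u', h1, -, h3, -, h5⟩ := S.exists_hyp_perp hA v v
    by_cases hu' : u = v
    · exact ⟨u', h3, fun e => by rw [e, map_zero] at h5; exact zero_ne_one h5,
        fun e => by rw [hu', e, S.ω_self] at h5; exact zero_ne_one h5⟩
    · exact ⟨u, h1, fun e => by rw [e, map_zero, LinearMap.zero_apply] at h5; exact zero_ne_one h5, hu'⟩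
  obtain ⟨r, hr1, hr2⟩ := S.exists_ω_one₂ hw0 (b := v + w) fun h => hwv (eq_of_add_zero h).symm
  obtain ⟨u, u', h1, h2, h3, h4, h5⟩ := S.exists_hyp_perp hA v w
  obtain ⟨g₁, hg₁, hg₁i, hg₁₂⟩ := S.exists_pair_iso hk hu h1
  obtain ⟨g₂, hg₂, hg₂i, hg₂₂⟩ := S.exists_pair_iso hk hu (v := u') (w := w) (by rw [S.ω_comm]; exact h4)
  obtain ⟨p, hp, hpi⟩ := S.exists_comm hg₁ hg₂ hg₁₂ hg₂₂
  obtain ⟨k, hk1, hk1i⟩ := S.exists_adjacent hk hu hr1
  obtain ⟨l, hl, hli⟩ := S.exists_adjacent hk hu (a := r) (b := v + w) (by rw [S.ω_comm]; exact hr2)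
  refine ⟨p * (k * l), Subgroup.mul_mem _ hp (Subgroup.mul_mem _ hk1 hl), fun x => ?_⟩
  rw [img_mul hp.2 (S.norm.mul_mem hk1.2 hl.2), img_mul hk1.2 hl.2, hpi, hg₁i, hg₂i, hg₁i, hg₂i,
    S.pairMap_comm hvw h1 h2 h3 h4 h5, hk1i, hli, τ_τ]
  have hwv' : S.ω w v = 0 := by rw [S.ω_comm]; exact hvw
  simp only [pairMap, τ, map_add, map_smul, LinearMap.add_apply, smul_eq_mul, S.ω_self, hvw, hwv', mul_zero,
    add_zero]
  rcases z2_cases (S.ω v x) with p | p <;> rcases z2_cases (S.ω w x) with q | q <;>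
    simp only [p, q, zero_smul, one_smul, add_zero, zero_add, show (1 : ZMod 2) + 1 = 0 from rfl] <;>
    abel_nf <;> simp [two_zsmul, add_self_zero]

/-- the normalising isometries are normalising ones of determinant one times scalars -/
theorem exists_scal_of_norm (hk : Cx σ Φ) (hu : ∀ a, S.u a ∈ isoGrp σ Φ) (hA : 64 ≤ Fintype.card A) {g : GL ι F}
    (hg : g ∈ isoGrp σ Φ ⊓ S.norm) :
    ∃ (b z : GL ι F) (c : F), b ∈ big σ Φ ⊓ S.norm ∧ z ∈ isoGrp σ Φ ∧ z.val = c • 1 ∧ g = b * z := by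
  obtain ⟨hgi, hgn⟩ : g ∈ isoGrp σ Φ ∧ S.Norm g := hg
  obtain ⟨b, hb, hbi⟩ := S.mem_of_τ_closed (fun γ => ∃ b ∈ big σ Φ ⊓ S.norm, ∀ x, S.img b x = γ x)
    ⟨1, Subgroup.one_mem _, img_one⟩ (fun γ v _ ⟨b, hb, hbi⟩ => by
      obtain ⟨t, ht, hti⟩ := S.exists_τ_big hk hu hA v
      exact ⟨t * b, Subgroup.mul_mem _ ht hb, fun x => by rw [img_mul ht.2 hb.2, hti, hbi]⟩)
    (γ := S.img g) hgn.img_add hgn.img_ω
  obtain ⟨v, c, hc0, hv⟩ := ((S.norm.inv_mem hb.2 : S.Norm b⁻¹).mul hgn).eq_e fun x => by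
    rw [img_mul (S.norm.inv_mem hb.2) hgn, ← hbi, ← img_mul (S.norm.inv_mem hb.2) hb.2, inv_mul_cancel, img_one]
  obtain ⟨μ, m, hm, hme, hμ⟩ : ∃ (μ : F) (m : GL ι F), m ∈ big σ Φ ⊓ S.norm ∧ m.val = μ • S.e v ∧ μ ≠ 0 := by
    by_cases hv0 : v = 0
    · exact ⟨1, 1, Subgroup.one_mem _, by rw [hv0, S.e_zero, one_smul, Units.val_one], one_ne_zero⟩
    · obtain ⟨μ, m, hm, hme, hμ⟩ := S.exists_big_e hk hu hv0
      refine ⟨μ, m, ⟨hm, fun a => ⟨a, sgn F (S.ω v a), ?_⟩⟩, hme, fun e => by rw [e] at hμ; simp at hμ⟩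
      rw [hme, Matrix.smul_mul, S.e_comm, Matrix.mul_smul, smul_comm]
  refine ⟨b * m, m⁻¹ * (b⁻¹ * g), c / μ, Subgroup.mul_mem _ hb hm, ?_, ?_, by group⟩
  · exact Subgroup.mul_mem _ (Subgroup.inv_mem _ (mem_big.1 hm.1).1)
      (Subgroup.mul_mem _ (Subgroup.inv_mem _ (mem_big.1 hb.1).1) hgi)
  · have hmv : S.e v = μ⁻¹ • m.val := by rw [hme, smul_smul, inv_mul_cancel₀ hμ, one_smul]
    rw [Units.val_mul, hv, hmv, smul_smul, Matrix.mul_smul, Units.inv_mul, div_eq_mul_inv]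

end Sys

end Cfsg.Agent.Forms.Max.TwoGroup
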