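import Cfsg.Agent.Lib.Forms.Max.TwoGroup.Maps

/-!
# Isometries of a sesquilinear matrix and the normaliser

`isoGrp σ Φ` is the group of `g` with `σ(g)ᵀ Φ g = Φ`; for `Φ = 0` it is the whole linear group.
-/

set_option autoImplicit false
set_option linter.unusedSectionVars false

namespace Cfsg.Agent.Forms.Max.TwoGroup

open Matrix

variable {ι F : Type*} [Field F] [Fintype ι] [DecidableEq ι]

/-- the adjoint relation -/
def Adjoint (σ : F →+* F) (Φ X Y : Matrix ι ι F) : Prop := (X.map σ)ᵀ * Φ = Φ * Y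

theorem map_mul' (σ : F →+* F) (X Y : Matrix ι ι F) : (X * Y).map σ = X.map σ * Y.map σ := Matrix.map_mul

theorem map_smul' (σ : F →+* F) (c : F) (X : Matrix ι ι F) : (c • X).map σ = σ c • X.map σ := by
  ext i j; simp

namespace Adjoint

variable {σ : F →+* F} {Φ X Y X' Y' : Matrix ι ι F}

theorem one : Adjoint σ Φ 1 1 := by simp [Adjoint]

theorem add (h : Adjoint σ Φ X Y) (h' : Adjoint σ Φ X' Y') : Adjoint σ Φ (X + X') (Y + Y') := by
  rw [Adjoint, Matrix.map_add _ (map_add σ), Matrix.transpose_add, add_mul, h, h', mul_add]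

theorem sub (h : Adjoint σ Φ X Y) (h' : Adjoint σ Φ X' Y') : Adjoint σ Φ (X - X') (Y - Y') := by
  rw [Adjoint, Matrix.map_sub _ (map_sub σ), Matrix.transpose_sub, sub_mul, h, h', mul_sub]

theorem mul (h : Adjoint σ Φ X Y) (h' : Adjoint σ Φ X' Y') : Adjoint σ Φ (X * X') (Y' * Y) := by
  rw [Adjoint, map_mul', Matrix.transpose_mul, mul_assoc, h, ← mul_assoc, h', mul_assoc]

theorem smul (c : F) (h : Adjoint σ Φ X Y) : Adjoint σ Φ (c • X) (σ c • Y) := by
  rw [Adjoint, map_smul', Matrix.transpose_smul, Matrix.smul_mul, h, Matrix.mul_smul]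

end Adjoint

/-- the isometry group of a matrix -/
def isoGrp (σ : F →+* F) (Φ : Matrix ι ι F) : Subgroup (GL ι F) where
  carrier := {g | ((g : Matrix ι ι F).map σ)ᵀ * Φ * (g : Matrix ι ι F) = Φ}
  one_mem' := by simp
  mul_mem' := fun {g h} hg hh => by
    show (((g * h : GL ι F) : Matrix ι ι F).map σ)ᵀ * Φ * ((g * h : GL ι F) : Matrix ι ι F) = Φ
    rw [Units.val_mul, map_mul', Matrix.transpose_mul]
    calc _ = ((h : Matrix ι ι F).map σ)ᵀ * (((g : Matrix ι ι F).map σ)ᵀ * Φ * (g : Matrix ι ι F)) *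
          (h : Matrix ι ι F) := by simp only [mul_assoc]
      _ = Φ := by rw [hg, hh]
  inv_mem' := fun {g} hg => by
    show ((((g⁻¹ : GL ι F)) : Matrix ι ι F).map σ)ᵀ * Φ * ((g⁻¹ : GL ι F) : Matrix ι ι F) = Φ
    have hg' : ((g : Matrix ι ι F).map σ)ᵀ * Φ * (g : Matrix ι ι F) = Φ := hg
    calc _ = (((g⁻¹ : GL ι F) : Matrix ι ι F).map σ)ᵀ * (((g : Matrix ι ι F).map σ)ᵀ * Φ * (g : Matrix ι ι F)) *
          ((g⁻¹ : GL ι F) : Matrix ι ι F) := by rw [hg']
      _ = Φ := by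
        simp only [← mul_assoc]
        rw [← Matrix.transpose_mul, ← map_mul', ← Units.val_mul, mul_inv_cancel, Units.val_one]
        simp [mul_assoc]

theorem mem_isoGrp {σ : F →+* F} {Φ : Matrix ι ι F} {g : GL ι F} :
    g ∈ isoGrp σ Φ ↔ ((g : Matrix ι ι F).map σ)ᵀ * Φ * (g : Matrix ι ι F) = Φ := Iff.rfl

theorem isoGrp_zero (σ : F →+* F) : isoGrp σ (0 : Matrix ι ι F) = ⊤ := by
  ext g; simp [mem_isoGrp]

theorem mem_iso_of_adjoint {σ : F →+* F} {Φ : Matrix ι ι F} {g : GL ι F} {Y : Matrix ι ι F}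
    (h : Adjoint σ Φ (g : Matrix ι ι F) Y) (hY : Y * (g : Matrix ι ι F) = 1) : g ∈ isoGrp σ Φ := by
  rw [mem_isoGrp, h, mul_assoc, hY, mul_one]

theorem adjoint_inv {σ : F →+* F} {Φ : Matrix ι ι F} {g : GL ι F} (h : g ∈ isoGrp σ Φ) :
    Adjoint σ Φ (g : Matrix ι ι F) ((g⁻¹ : GL ι F) : Matrix ι ι F) := by
  rw [mem_isoGrp] at h
  calc _ = ((g : Matrix ι ι F).map σ)ᵀ * Φ * ((g : Matrix ι ι F) * ((g⁻¹ : GL ι F) : Matrix ι ι F)) := by
        rw [← Units.val_mul, mul_inv_cancel, Units.val_one, mul_one]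
    _ = _ := by rw [← mul_assoc, h]

/-- scaling an invertible matrix -/
def scal (c : Fˣ) (g : GL ι F) : GL ι F where
  val := (c : F) • (g : Matrix ι ι F)
  inv := ((c⁻¹ : Fˣ) : F) • ((g⁻¹ : GL ι F) : Matrix ι ι F)
  val_inv := by
    rw [Matrix.smul_mul, Matrix.mul_smul, smul_smul, ← Units.val_mul, ← Units.val_mul, mul_inv_cancel, mul_inv_cancel,
      Units.val_one, Units.val_one, one_smul]
  inv_val := by
    rw [Matrix.smul_mul, Matrix.mul_smul, smul_smul, ← Units.val_mul, ← Units.val_mul, inv_mul_cancel, inv_mul_cancel,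
      Units.val_one, Units.val_one, one_smul]

@[simp] theorem scal_val (c : Fˣ) (g : GL ι F) : (scal c g : Matrix ι ι F) = (c : F) • (g : Matrix ι ι F) := rfl

theorem scal_mul (c d : Fˣ) (g h : GL ι F) : scal c g * scal d h = scal (c * d) (g * h) :=
  Units.ext (by simp only [Units.val_mul, scal_val, Matrix.smul_mul, Matrix.mul_smul, smul_smul, mul_comm])

theorem scal_mem_iso {σ : F →+* F} {Φ : Matrix ι ι F} {g : GL ι F} (hg : g ∈ isoGrp σ Φ) {c : Fˣ}
    (hc : σ c * c = 1 ∨ Φ = 0) : scal c g ∈ isoGrp σ Φ := by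
  rcases hc with hc | rfl
  · rw [mem_isoGrp] at hg ⊢
    rw [scal_val, map_smul', Matrix.transpose_smul, Matrix.smul_mul, Matrix.smul_mul, Matrix.mul_smul, hg, smul_smul,
      hc, one_smul]
  · rw [isoGrp_zero]; trivial

namespace Sys

variable {A : Type*} [AddCommGroup A] [Module (ZMod 2) A] [Fintype A] (S : Sys A ι F)

theorem norm_scal {g : GL ι F} (hg : S.Norm g) (c : Fˣ) : S.Norm (scal c g) := fun a => by
  obtain ⟨b, k, e⟩ := hg a
  exact ⟨b, k, by rw [scal_val, Matrix.smul_mul, e, Matrix.mul_smul, smul_smul, smul_smul, mul_comm]⟩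

theorem img_scal {g : GL ι F} (hg : S.Norm g) (c : Fˣ) (a : A) : S.img (scal c g) a = S.img g a := by
  obtain ⟨k, -, e⟩ := hg.img_spec a
  exact img_eq (c := k) (by rw [scal_val, Matrix.smul_mul, e, Matrix.mul_smul, smul_smul, smul_smul, mul_comm])

theorem u_inv_val (a : A) : ((S.u a)⁻¹ : GL ι F).val = sgn F (S.q a) • S.e a := rfl

/-- a monomial `c • e a` of square `±1` that is an isometry is self- or anti-adjoint -/
theorem adjoint_smul_e {σ : F →+* F} {Φ : Matrix ι ι F} {a : A} (ha : S.u a ∈ isoGrp σ Φ) {c : F}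
    (hc : σ c * c = 1 ∨ Φ = 0) {s : F} (hs : c * c * sgn F (S.q a) = s) (hs2 : s * s = 1) :
    Adjoint σ Φ (c • S.e a) (s • (c • S.e a)) := by
  rcases hc with hc | rfl
  · have h := (adjoint_inv ha).smul c
    rw [u_inv_val, u_val, smul_smul] at h
    rw [smul_smul]
    convert h using 2
    have h1 : (σ c * sgn F (S.q a)) * c = sgn F (S.q a) := by linear_combination sgn F (S.q a) * hc
    have h2 : c ≠ 0 := fun e => by rw [e, mul_zero] at hc; exact zero_ne_one hc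
    refine mul_right_cancel₀ h2 ?_
    rw [h1, ← hs]
    linear_combination (norm := (rw [← hs]; ring)) sgn F (S.q a) * hs2 - (c * c) * (c * c) * sgn F (S.q a) * sgn_mul_self (F := F) (S.q a)
  · simp [Adjoint]

theorem pr_mem_iso {σ : F →+* F} {Φ : Matrix ι ι F} (hu : ∀ a, S.u a ∈ isoGrp σ Φ) {c d : F} {v w : A}
    (h : S.Pair c d v w) (hc : σ c * c = 1 ∨ Φ = 0) (hd : σ d * d = 1 ∨ Φ = 0) : h.pr ∈ isoGrp σ Φ := by
  have hP := S.adjoint_smul_e (hu v) hc h.hc (one_mul 1)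
  have hQ := S.adjoint_smul_e (hu w) hd h.hd (one_mul 1)
  rw [one_smul] at hP hQ
  have hhalf : σ (2 : F)⁻¹ = (2 : F)⁻¹ := by rw [map_inv₀, map_ofNat]
  have hM : Adjoint σ Φ (h.pr : Matrix ι ι F) (h.pr : Matrix ι ι F) := by
    have := (((Adjoint.one (σ := σ) (Φ := Φ)).add hP).add hQ).sub (hP.mul hQ) |>.smul (2 : F)⁻¹
    rw [hhalf, h.comm] at this
    exact this
  exact mem_iso_of_adjoint hM (by rw [Pair.pr_val]; exact h.mul_self)

theorem tv_mem_iso {σ : F →+* F} {Φ : Matrix ι ι F} (hu : ∀ a, S.u a ∈ isoGrp σ Φ) {c : F} {v : A}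
    (hv : c * c * sgn F (S.q v) = -1) (hc : σ c * c = 1 ∨ Φ = 0) {k : Fˣ} (hk : σ k * k * 2 = 1 ∨ Φ = 0) :
    scal k (S.tv c v hv) ∈ isoGrp σ Φ := by
  rcases hk with hk | rfl
  · have h := ((Adjoint.one (σ := σ) (Φ := Φ)).add (S.adjoint_smul_e (hu v) hc hv (neg_mul_neg 1 1 |>.trans (one_mul 1)))).smul (k : F)
    refine mem_iso_of_adjoint (g := scal k (S.tv c v hv)) h ?_
    rw [neg_one_smul, ← sub_eq_add_neg, scal_val, tv_val, Matrix.smul_mul, Matrix.mul_smul, smul_smul, sub_mul, one_mul,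
      mul_add, mul_one, S.smul_e_sq hv, neg_one_smul, show (1 + c • S.e v - (c • S.e v + -(1 : Matrix ι ι F))) =
        (2 : F) • (1 : Matrix ι ι F) by rw [two_smul]; abel, smul_smul, hk, one_smul]
  · rw [isoGrp_zero]; trivial

end Sys

end Cfsg.Agent.Forms.Max.TwoGroup
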