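import Cfsg.Agent.Lib.Forms.Max.TwoGroup.Isometry
import Cfsg.Agent.Lib.Forms.Max.TwoGroup.Finish

/-!
# The common setting of the overgroup arguments

`H` contains the monomials and is transitive through its normalising elements on each class; the centraliser in `H`
of each monomial normalises. Classes are the fibres of `cls`, preserved by conjugation in `H`. Either the transvection
lifts lie in `H`, or `cls` is the quadratic form and all proportionality factors have square one.
-/

set_option autoImplicit false
set_option linter.unusedSectionVars false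

namespace Cfsg.Agent.Forms.Max.TwoGroup

open Matrix

namespace Sys

variable {A ι F : Type*} [AddCommGroup A] [Module (ZMod 2) A] [Fintype A] [Field F] [Fintype ι] [DecidableEq ι]

/-- conjugation by `h` carries the line of `e a` to that of `e b` with factor `c` -/
def Carries (S : Sys A ι F) (h : GL ι F) (a b : A) (c : F) : Prop :=
  (h : Matrix ι ι F) * S.e a = c • (S.e b * (h : Matrix ι ι F))

/-- the hypotheses on `H` -/
structure Setting (S : Sys A ι F) (cls : A → ZMod 2) (H : Subgroup (GL ι F)) : Prop where
  u_mem : ∀ a, S.u a ∈ H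
  carry : ∀ h ∈ H, ∀ (a b : A) (c : F), S.Carries h a b c → cls a = cls b
  trans : ∀ a b, a ≠ 0 → b ≠ 0 → cls a = cls b → ∃ n ∈ H, S.Norm n ∧ S.img n a = b
  cent : ∀ a, a ≠ 0 → ∀ h ∈ H, (∃ c, S.Carries h a a c) → S.Norm h
  kind : (∀ v, v ≠ 0 → ∃ g ∈ H, S.Norm g ∧ (∀ b, S.ω v b = 0 → S.Carries g b b 1) ∧
      ∀ b, S.img g b = b + S.ω v b • v) ∨
    ((∀ a, cls a = S.q a) ∧ ∀ h ∈ H, ∀ (a b : A) (c : F), S.Carries h a b c → c * c = 1)

end Sys

end Cfsg.Agent.Forms.Max.TwoGroup
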