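import Cfsg.Agent.Lib.Forms.Max.TwoGroup.Basic

/-!
# Transvections of the alternating form

Transitivity, generation, and the fact that a set of isometries closed under inverses, products and conjugation by
transvections which acts trivially on `r^⊥/r` for each of its fixed vectors `r` is trivial.
-/

set_option autoImplicit false
set_option linter.unusedSectionVars false

namespace Cfsg.Agent.Forms.Max.TwoGroup

open Matrix

namespace Sys

variable {A ι F : Type*} [AddCommGroup A] [Module (ZMod 2) A] [Fintype A] [Field F] [Fintype ι] [DecidableEq ι]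
  (S : Sys A ι F)

/-- the transvection at `v` -/
def τ (v x : A) : A := x + S.ω v x • v

theorem τ_τ (v x : A) : S.τ v (S.τ v x) = x := by
  simp only [τ, map_add, map_smul, S.ω_self, smul_eq_mul, mul_zero, add_zero]
  rw [add_assoc, add_self_zero, add_zero]

theorem τ_move {a b : A} (h : S.ω a b = 1) : S.τ (a + b) a = b := by
  rw [τ, map_add, LinearMap.add_apply, S.ω_self, S.ω_comm b a, h, zero_add, one_smul, add_add_self]

theorem exists_ω_one₂ {a b : A} (ha : a ≠ 0) (hb : b ≠ 0) : ∃ c, S.ω a c = 1 ∧ S.ω b c = 1 := by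
  obtain ⟨c1, h1⟩ := S.exists_ω_one ha
  obtain ⟨c2, h2⟩ := S.exists_ω_one hb
  rcases z2_cases (S.ω b c1) with h3 | h3
  · rcases z2_cases (S.ω a c2) with h4 | h4
    · exact ⟨c1 + c2, by rw [map_add, h1, h4, add_zero], by rw [map_add, h2, h3, zero_add]⟩
    · exact ⟨c2, h4, h2⟩
  · exact ⟨c1, h1, h3⟩

theorem exists_ω_one_zero {a b : A} (ha : a ≠ 0) (hab : a ≠ b) :
    ∃ c, S.ω a c = 1 ∧ S.ω b c = 0 := by
  obtain ⟨c, h1, h2⟩ := S.exists_ω_one₂ ha (b := a + b) (fun h => hab (eq_of_add_zero h))
  refine ⟨c, h1, ?_⟩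
  rw [map_add, LinearMap.add_apply, h1] at h2
  simpa using h2

/-- any non-zero vector reaches any other by at most two transvections -/
theorem exists_two_τ {a b : A} (ha : a ≠ 0) (hb : b ≠ 0) :
    S.ω a b = 1 ∨ ∃ c, c ≠ 0 ∧ S.τ (c + b) (S.τ (a + c) a) = b ∧ a ≠ c ∧ c ≠ b := by
  rcases z2_cases (S.ω a b) with h | h
  · obtain ⟨c, h1, h2⟩ := S.exists_ω_one₂ ha hb
    refine Or.inr ⟨c, fun e => ?_, ?_, fun e => ?_, fun e => ?_⟩
    · rw [e, map_zero] at h1; exact zero_ne_one h1
    · rw [S.τ_move h1, S.τ_move (by rw [S.ω_comm]; exact h2)]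
    · rw [← e, S.ω_self] at h1; exact zero_ne_one h1
    · rw [e, S.ω_self] at h2; exact zero_ne_one h2
  · exact Or.inl h

theorem exists_perp₃ (hcard : 16 ≤ Fintype.card A) (a b c : A) :
    ∃ r, r ≠ 0 ∧ S.ω a r = 0 ∧ S.ω b r = 0 ∧ S.ω c r = 0 := by
  classical
  obtain ⟨x, y, hxy, e⟩ := Fintype.exists_ne_map_eq_of_card_lt (fun x : A => (S.ω a x, S.ω b x, S.ω c x))
    (by simp only [Fintype.card_prod, ZMod.card]; omega)
  simp only [Prod.mk.injEq] at e
  refine ⟨x + y, fun h => hxy (eq_of_add_zero h), ?_, ?_, ?_⟩ <;>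
    simp only [map_add, e.1, e.2.1, e.2.2, CharTwo.add_self_eq_zero]

/-- triviality of a set of isometries -/
theorem eq_id_of_local (hcard : 16 ≤ Fintype.card A) (D : Set (A → A))
    (hadd : ∀ γ ∈ D, ∀ x y, γ (x + y) = γ x + γ y) (hω : ∀ γ ∈ D, ∀ x y, S.ω (γ x) (γ y) = S.ω x y)
    (hcomm : ∀ γ ∈ D, ∀ v, v ≠ 0 → (fun x => S.τ (γ v) (S.τ v x)) ∈ D)
    (hloc : ∀ γ ∈ D, ∀ r, r ≠ 0 → γ r = r → ∀ x, S.ω r x = 0 → γ x = x ∨ γ x = x + r)
    {γ : A → A} (hγ : γ ∈ D) (v : A) : γ v = v := by
  by_contra hv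
  have h0 : γ 0 = 0 := by simpa using hadd γ hγ 0 0
  have hv0 : v ≠ 0 := fun e => hv (by rw [e, h0])
  set u := γ v with hu
  have hu0 : u ≠ 0 := fun e => hv0 (S.ω_nondeg fun b => by
    rw [← hω γ hγ v b, ← hu, e, LinearMap.map_zero, LinearMap.zero_apply])
  have hmem := hcomm γ hγ v hv0
  have hfix : ∀ r, S.ω u r = 0 → S.ω v r = 0 → S.τ u (S.τ v r) = r := fun r h1 h2 => by
    rw [τ, τ, h2, zero_smul, add_zero, h1, zero_smul, add_zero]
  rcases z2_cases (S.ω u v) with h | h
  · obtain ⟨x, hx1, hx2⟩ := S.exists_ω_one_zero hu0 hv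
    obtain ⟨r, hr0, hr1, hr2, hr3⟩ := S.exists_perp₃ hcard u v x
    have e : S.τ u (S.τ v x) = x + u := by rw [τ, τ, hx2, zero_smul, add_zero, hx1, one_smul]
    rcases hloc _ hmem r hr0 (hfix r hr1 hr2) x (by rw [S.ω_comm]; exact hr3) with e' | e' <;>
      rw [e] at e'
    · exact hu0 (left_eq_add.1 e'.symm)
    · have : u = r := add_left_cancel e'
      rw [← this, S.ω_comm, hx1] at hr3
      exact one_ne_zero hr3
  · obtain ⟨r, hr0, hr1, hr2, -⟩ := S.exists_perp₃ hcard u v 0
    have e : S.τ u (S.τ v u) = v := by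
      rw [τ, τ, S.ω_comm v u, h, one_smul, map_add, S.ω_self, h, zero_add, one_smul, add_comm u v, add_assoc,
        add_self_zero, add_zero]
    rcases hloc _ hmem r hr0 (hfix r hr1 hr2) u (by rw [S.ω_comm]; exact hr1) with e' | e' <;> rw [e] at e'
    · exact hv e'.symm
    · rw [e', map_add, S.ω_self, hr1, add_zero] at h
      exact zero_ne_one h

theorem ω_sub {a x y : A} : S.ω a (x + y) = S.ω a x + S.ω a y := map_add _ _ _

/-- generation: a set of maps closed under composition with transvections containing the identity contains every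
linear isometry -/
theorem mem_of_τ_closed (P : (A → A) → Prop) (h1 : P id) (hτ : ∀ γ v, v ≠ 0 → P γ → P (fun x => S.τ v (γ x)))
    {γ : A → A} (hadd : ∀ x y, γ (x + y) = γ x + γ y) (hω : ∀ x y, S.ω (γ x) (γ y) = S.ω x y) : P γ := by
  classical
  -- by the number of moved vectors
  suffices H : ∀ (n : ℕ) (γ : A → A), (∀ x y, γ (x + y) = γ x + γ y) → (∀ x y, S.ω (γ x) (γ y) = S.ω x y) →
      (Finset.univ.filter fun x => γ x ≠ x).card = n → P γ from H _ γ hadd hω rfl
  intro n
  induction n using Nat.strong_induction_on with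
  | _ n ih =>
  intro γ hadd hω hn
  have h00 : γ 0 = 0 := by simpa using hadd 0 0
  by_cases hall : ∀ x, γ x = x
  · rwa [show γ = id from funext hall]
  push Not at hall
  obtain ⟨v, hv⟩ := hall
  have hv0 : v ≠ 0 := fun e => hv (by rw [e, h00])
  have hperp : ∀ x, γ x = x → S.ω x (γ v) = S.ω x v := fun x hx => by
    have := hω x v
    rwa [hx] at this
  -- one or two transvections fixing all fixed vectors and carrying `γ v` to `v`
  have one : ∀ w, w ≠ 0 → (∀ x y, S.τ w (x + y) = S.τ w x + S.τ w y) ∧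
      (∀ x y, S.ω (S.τ w x) (S.τ w y) = S.ω x y) ∧ ∀ δ, P (fun x => S.τ w (δ x)) → P δ := fun w hw => by
    refine ⟨fun x y => by simp only [τ, map_add, add_smul]; abel, fun x y => ?_, fun δ hδ => ?_⟩
    · simp only [τ, map_add, map_smul, LinearMap.add_apply, LinearMap.smul_apply, smul_eq_mul, S.ω_self]
      rw [S.ω_comm x w, mul_zero, add_zero, mul_comm (S.ω w y), add_assoc, CharTwo.add_self_eq_zero, add_zero]
    · have := hτ _ w hw hδ
      simpa only [τ_τ] using this
  have hne : ∀ a b : A, S.ω a b = 1 → a + b ≠ 0 := fun a b e h0 => by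
    rw [eq_of_add_zero h0, S.ω_self] at e
    exact zero_ne_one e
  obtain ⟨f, fv, ffix, fadd, fω, fP⟩ : ∃ f : A → A, f (γ v) = v ∧ (∀ x, γ x = x → f x = x) ∧
      (∀ x y, f (x + y) = f x + f y) ∧ (∀ x y, S.ω (f x) (f y) = S.ω x y) ∧
      ∀ δ, P (fun x => f (δ x)) → P δ := by
    rcases z2_cases (S.ω (γ v) v) with h | h
    · -- an intermediate vector pairing like `v` with every fixed vector
      obtain ⟨c, hc1, hc2, hc3⟩ : ∃ c, S.ω (γ v) c = 1 ∧ S.ω v c = 1 ∧ ∀ x, γ x = x → S.ω x c = S.ω x v := by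
        let Fx : Submodule (ZMod 2) A :=
          { carrier := {x | γ x = x}
            zero_mem' := h00
            add_mem' := fun {x y} hx hy => (hadd x y).trans (by rw [hx, hy])
            smul_mem' := fun r x hx => by
              rcases z2_cases r with rfl | rfl
              · rw [zero_smul]; exact h00
              · rwa [one_smul] }
        have hnot : v ∉ Fx ⊔ Submodule.span (ZMod 2) {γ v + v} := fun hmem => by
          obtain ⟨x, hx, y, hy, e⟩ := Submodule.mem_sup.1 hmem
          obtain ⟨r, rfl⟩ := Submodule.mem_span_singleton.1 hy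
          rcases z2_cases r with rfl | rfl
          · rw [zero_smul, add_zero] at e
            exact hv (e ▸ hx)
          · rw [one_smul, ← add_assoc, add_eq_right] at e
            have e' := eq_of_add_zero e
            have hx' : γ x = x := hx
            rw [e'] at hx'
            refine hv (eq_of_add_zero (S.ω_nondeg fun b => ?_))
            rw [← hω, hadd, hx', add_self_zero, LinearMap.map_zero, LinearMap.zero_apply]
        obtain ⟨φ, hφ, hφ0⟩ := Submodule.exists_dual_map_eq_bot_of_notMem hnot inferInstance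
        have hinj : Function.Injective S.ω.flip := fun d d' e => by
          refine eq_of_add_zero (S.ω_nondeg fun b => ?_)
          have e' : S.ω b d = S.ω b d' := LinearMap.congr_fun e b
          rw [S.ω_comm, map_add, e', CharTwo.add_self_eq_zero]
        obtain ⟨d, hd⟩ := (LinearMap.injective_iff_surjective_of_finrank_eq_finrank
          (Subspace.dual_finrank_eq (K := ZMod 2) (V := A)).symm).1 hinj φ
        have hd' : ∀ x, x ∈ Fx ⊔ Submodule.span (ZMod 2) {γ v + v} → S.ω x d = 0 := fun x hx => by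
          rw [show S.ω x d = φ x from LinearMap.congr_fun hd x, ← Submodule.mem_bot (R := ZMod 2), ← hφ0]
          exact Submodule.mem_map_of_mem hx
        have hvd : S.ω v d = 1 := by
          rw [show S.ω v d = φ v from LinearMap.congr_fun hd v]
          exact (z2_cases _).resolve_left hφ
        have hud : S.ω (γ v) d = 1 := by
          have := hd' _ (Submodule.mem_sup_right (Submodule.mem_span_singleton_self _))
          rw [map_add, LinearMap.add_apply, hvd] at this
          exact (z2_cases _).resolve_left fun e => by rw [e, zero_add] at this; exact one_ne_zero this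
        exact ⟨v + d, by rw [map_add, h, hud, zero_add], by rw [map_add, S.ω_self, hvd, zero_add],
          fun x hx => by rw [map_add, hd' x (Submodule.mem_sup_left hx), add_zero]⟩
      have h1 := one (γ v + c) (hne _ _ hc1)
      have h2 := one (v + c) (hne _ _ hc2)
      refine ⟨fun x => S.τ (v + c) (S.τ (γ v + c) x), ?_, fun x hx => ?_,
        fun x y => by show S.τ _ (S.τ _ (x + y)) = _; rw [h1.1, h2.1],
        fun x y => by rw [h2.2.1, h1.2.1], fun δ hδ => h1.2.2 _ (h2.2.2 _ hδ)⟩
      · show S.τ (v + c) (S.τ (γ v + c) (γ v)) = v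
        rw [S.τ_move hc1, add_comm v c, S.τ_move (by rw [S.ω_comm]; exact hc2)]
      · show S.τ (v + c) (S.τ (γ v + c) x) = x
        have e1 : S.τ (γ v + c) x = x := by
          rw [τ, S.ω_comm, map_add, hperp x hx, hc3 x hx, CharTwo.add_self_eq_zero, zero_smul, add_zero]
        rw [e1, τ, S.ω_comm, map_add, hc3 x hx, CharTwo.add_self_eq_zero, zero_smul, add_zero]
    · obtain ⟨ha, hω', hP⟩ := one (γ v + v) (hne _ _ h)
      exact ⟨S.τ (γ v + v), S.τ_move h, fun x hx => by
        rw [τ, S.ω_comm, map_add, hperp x hx, CharTwo.add_self_eq_zero, zero_smul, add_zero], ha, hω', hP⟩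
  refine fP γ (ih _ ?_ _ (fun x y => by rw [hadd, fadd]) (fun x y => by rw [fω, hω]) rfl)
  rw [← hn]
  refine Finset.card_lt_card (Finset.ssubset_iff_of_subset (fun x hx => ?_) |>.2 ⟨v, ?_, ?_⟩)
  · simp only [Finset.mem_filter, Finset.mem_univ, true_and] at hx ⊢
    exact fun e => hx (by rw [e]; exact ffix x e)
  · simpa using hv
  · simpa using fv

end Sys

end Cfsg.Agent.Forms.Max.TwoGroup
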