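import Cfsg.Agent.Lib.Forms.Max.TwoGroup.Diag
import Cfsg.Agent.Lib.Forms.Max.TwoGroup.Setting
import Cfsg.Agent.Lib.Forms.Max.TwoGroup.Transvec
import Cfsg.Agent.Lib.Classical.Linear
import Cfsg.Agent.Lib.Classical.UnitarySimple
import Cfsg.Agent.Lib.Classical.UnitaryConj

/-!
# The complex kind

A prime field with a square root of `-1`, or the quadratic extension of a prime field without one with the standard
hermitian form. Transvection lifts are isometries; normal subgroups of the determinant one isometries are central or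
everything. `Dich` is the dichotomy proved by induction on the dimension.
-/

set_option autoImplicit false
set_option linter.unusedSectionVars false

namespace Cfsg.Agent.Forms.Max.TwoGroup

open Matrix

variable {ι F : Type*} [Field F] [Fintype ι] [DecidableEq ι]

/-- the determinant one isometries -/
def big (σ : F →+* F) (Φ : Matrix ι ι F) : Subgroup (GL ι F) :=
  isoGrp σ Φ ⊓ (Matrix.GeneralLinearGroup.det : GL ι F →* Fˣ).ker

theorem mem_big {σ : F →+* F} {Φ : Matrix ι ι F} {g : GL ι F} :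
    g ∈ big σ Φ ↔ g ∈ isoGrp σ Φ ∧ (g : Matrix ι ι F).det = 1 :=
  Subgroup.mem_inf.trans (and_congr_right' (by rw [MonoidHom.mem_ker, Units.ext_iff]; rfl))

/-- a subgroup normal in a perfect group with simple central quotient is central or everything -/
theorem eq_top_of_normal {G : Type*} [Group G] (hs : IsSimpleGroup (G ⧸ Subgroup.center G))
    (hperf : commutator G = ⊤) (M : Subgroup G) [hM : M.Normal] {x : G} (hx : x ∈ M)
    (hxc : x ∉ Subgroup.center G) : M = ⊤ := by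
  have := hs
  have hn : (M.map (QuotientGroup.mk' (Subgroup.center G))).Normal :=
    hM.map _ (QuotientGroup.mk'_surjective _)
  rcases hn.eq_bot_or_eq_top with h | h
  · refine absurd ?_ hxc
    have := Subgroup.mem_map_of_mem (QuotientGroup.mk' (Subgroup.center G)) hx
    rw [h, Subgroup.mem_bot, QuotientGroup.mk'_apply, QuotientGroup.eq_one_iff] at this
    exact this
  · rw [eq_top_iff, ← hperf, commutator_def, Subgroup.commutator_le]
    intro g _ k _
    obtain ⟨m, hm, e⟩ : QuotientGroup.mk' (Subgroup.center G) g ∈ M.map (QuotientGroup.mk' (Subgroup.center G)) :=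
      h ▸ Subgroup.mem_top _
    obtain ⟨z, hz, rfl⟩ := (QuotientGroup.mk'_eq_mk' _).1 e
    have e2 : z * k * z⁻¹ = k := by rw [← Subgroup.mem_center_iff.1 hz k, mul_inv_cancel_right]
    rw [commutatorElement_def, show m * z * k * (m * z)⁻¹ * k⁻¹ = m * (z * k * z⁻¹ * m⁻¹ * k⁻¹) by group, e2]
    exact M.mul_mem hm (hM.conj_mem _ (M.inv_mem hm) k)

/-- transferring through a surjection from a quasi-simple group -/
theorem le_of_normal_image {G K : Type*} [Group G] [Group K] {B L : Subgroup K} (f : G →* K) (hf : f.range = B)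
    (hs : IsSimpleGroup (G ⧸ Subgroup.center G)) (hp : commutator G = ⊤)
    (hL : ∀ g ∈ B, ∀ x ∈ L, g * x * g⁻¹ ∈ L) {y : G} (hy : f y ∈ L) (hyc : y ∉ Subgroup.center G) : B ≤ L := by
  have : (L.comap f).Normal := ⟨fun a ha b => by
    show f (b * a * b⁻¹) ∈ L
    rw [map_mul, map_mul, map_inv]
    exact hL _ (hf ▸ ⟨b, rfl⟩) _ ha⟩
  have e := eq_top_of_normal hs hp (L.comap f) (x := y) hy hyc
  rw [← hf]
  rintro _ ⟨g, rfl⟩
  exact Subgroup.mem_comap.1 (e ▸ Subgroup.mem_top g)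

/-- the complex kind -/
def Cx [Fintype F] (σ : F →+* F) (Φ : Matrix ι ι F) : Prop :=
  (Φ = 0 ∧ σ = RingHom.id F ∧ (Fintype.card F).Prime ∧ Fintype.card F % 4 = 1) ∨
    (Φ = 1 ∧ ∃ p : ℕ, p.Prime ∧ p % 4 = 3 ∧ Fintype.card F = p ^ 2 ∧ ∀ x, σ x = x ^ p)

namespace Cx

variable [Fintype F] {σ : F →+* F} {Φ : Matrix ι ι F}

theorem dbl (h : Cx σ Φ) : Cx σ (dblΦ Φ) := by
  rcases h with ⟨rfl, h⟩ | ⟨rfl, h⟩
  · exact Or.inl ⟨by simp [dblΦ], h⟩
  · exact Or.inr ⟨by simp [dblΦ, fromBlocks_one], h⟩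

theorem invol (h : Cx σ Φ) (x : F) : σ (σ x) = x := by
  rcases h with ⟨-, rfl, -⟩ | ⟨-, p, -, -, hF, hs⟩
  · rfl
  · rw [hs, hs, ← pow_mul, show p * p = Fintype.card F by rw [hF, sq], FiniteField.pow_card]

theorem exists_i (h : Cx σ Φ) : ∃ i : F, i * i = -1 ∧ (Φ = 0 ∨ σ i = -i) := by
  have key : Fintype.card F % 4 = 1 := by
    rcases h with ⟨-, -, -, h1⟩ | ⟨-, p, -, hp, hF, -⟩
    · exact h1
    · rw [hF, Nat.pow_mod, hp]
  obtain ⟨i, hi⟩ := FiniteField.isSquare_neg_one_iff.2 (show Fintype.card F % 4 ≠ 3 by omega)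
  refine ⟨i, hi.symm, ?_⟩
  rcases h with ⟨h0, -⟩ | ⟨-, p, -, hp, -, hs⟩
  · exact Or.inl h0
  · obtain ⟨m, rfl⟩ : ∃ m, p = 2 * (2 * m + 1) + 1 := ⟨p / 4, by omega⟩
    exact Or.inr (by rw [hs, pow_succ, pow_mul, sq, ← hi, Odd.neg_one_pow ⟨m, rfl⟩, neg_one_mul])

/-- the proper normal subgroups of the determinant one isometries are scalar -/
theorem big_le_of_normal (h : Cx σ Φ) (hn : 3 ≤ Fintype.card ι) (L : Subgroup (GL ι F))
    (hL : ∀ g ∈ big σ Φ, ∀ x ∈ L, g * x * g⁻¹ ∈ L) {x : GL ι F} (hx : x ∈ L) (hxb : x ∈ big σ Φ)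
    (hns : ∀ c : F, (x : Matrix ι ι F) ≠ c • 1) : big σ Φ ≤ L := by
  classical
  rcases h with ⟨rfl, -⟩ | ⟨rfl, p, hp, hp4, hF, hs⟩
  · have hd : (x : Matrix ι ι F).det = 1 := (mem_big.1 hxb).2
    refine le_of_normal_image Matrix.SpecialLinearGroup.toGL ?_ (Cfsg.Agent.Classical.Linear.isSimpleGroup_PSL hn)
      (Cfsg.Agent.Classical.Linear.commutator_SL_eq_top hn) hL (y := ⟨x, hd⟩)
      (by convert hx using 1; exact Units.ext rfl) fun hg => ?_
    · ext g
      rw [mem_big, isoGrp_zero]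
      simp only [Subgroup.mem_top, true_and]
      exact ⟨by rintro ⟨a, rfl⟩; exact a.2, fun hg => ⟨⟨g, hg⟩, Units.ext rfl⟩⟩
    · obtain ⟨c, -, hc⟩ := Matrix.SpecialLinearGroup.mem_center_iff.1 hg
      exact hns c (by rw [smul_one_eq_diagonal]; exact hc.symm)
  · have hp2 := hp.two_le
    obtain ⟨n, ⟨e⟩⟩ : ∃ n, Nonempty (ι ≃ Fin n) := ⟨_, ⟨Fintype.equivFin ι⟩⟩
    have hn' : 3 ≤ n := by rwa [Fintype.card_congr e, Fintype.card_fin] at hn
    have hex : ¬ (n = 3 ∧ p = 2) := fun h => by omega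
    let ψ : GL (Fin n) F →* GL ι F := Units.map (Matrix.reindexAlgEquiv F F e.symm).toMonoidHom
    have hψ : ∀ a : GL (Fin n) F, (ψ a : Matrix ι ι F) = (a : Matrix (Fin n) (Fin n) F).submatrix e e := fun a => by
      simp [ψ]
    obtain ⟨f, hfd⟩ : ∃ f : Cfsg.SU n F p →* GL ι F,
        f = ψ.comp (Matrix.SpecialLinearGroup.toGL.comp (Cfsg.SU n F p).subtype) := ⟨_, rfl⟩
    have hrange : f.range = big σ (1 : Matrix ι ι F) := by
      subst hfd
      have hiff : ∀ a : GL (Fin n) F, a ∈ Cfsg.GU n F p ↔ ψ a ∈ isoGrp σ (1 : Matrix ι ι F) := fun a => by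
        rw [Cfsg.Agent.Classical.UnitaryConj.mem_GU_iff hF, mem_isoGrp, hψ, mul_one]
        have e1 : (((a : Matrix (Fin n) (Fin n) F).submatrix e e).map σ)ᵀ =
            (Cfsg.Agent.Classical.UnitaryConj.adj hF (a : Matrix (Fin n) (Fin n) F)).submatrix e e := by
          ext i j; simp [Cfsg.Agent.Classical.UnitaryConj.adj, hs]
        rw [e1, Matrix.submatrix_mul_equiv]
        exact ⟨fun h => by rw [h, Matrix.submatrix_one_equiv], fun h => by
          have := congrArg (fun M : Matrix ι ι F => M.submatrix e.symm e.symm) h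
          simpa [Matrix.submatrix_submatrix] using this⟩
      have hd : ∀ a : GL (Fin n) F, (ψ a : Matrix ι ι F).det = (a : Matrix (Fin n) (Fin n) F).det := fun a => by
        rw [hψ, det_submatrix_equiv_self]
      ext g
      rw [mem_big]
      constructor
      · rintro ⟨⟨a, ha⟩, rfl⟩
        exact ⟨(hiff (Matrix.SpecialLinearGroup.toGL a)).1 ha, by
          show (ψ (Matrix.SpecialLinearGroup.toGL a) : Matrix ι ι F).det = 1
          rw [hd]; exact a.2⟩
      · intro hg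
        obtain ⟨a, rfl⟩ : ∃ a, ψ a = g :=
          ⟨Units.map (Matrix.reindexAlgEquiv F F e).toMonoidHom g, Units.ext (by rw [hψ]; simp)⟩
        refine ⟨⟨⟨a, (hd a).symm.trans (mem_big.1 (mem_big.2 hg)).2⟩, ?_⟩, congrArg ψ (Units.ext rfl)⟩
        exact (hiff a).2 hg.1
    obtain ⟨y, rfl⟩ : x ∈ f.range := hrange ▸ hxb
    refine le_of_normal_image f hrange (Cfsg.Agent.Classical.Unitary.isSimpleGroup_PSU hF hn' hex)
      (Cfsg.Agent.Classical.Unitary.commutator_SU_eq_top hF hn' hex) hL (y := y) hx fun hy => ?_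
    obtain ⟨c, hc⟩ := (Cfsg.Agent.Classical.Unitary.mem_center_iff hF (by omega) y).1 hy
    refine hns c ?_
    rw [hfd]
    show (ψ (Matrix.SpecialLinearGroup.toGL y.1) : Matrix ι ι F) = _
    rw [hψ]
    show (Cfsg.Agent.Classical.Unitary.mat y).submatrix e e = _
    rw [hc, Matrix.submatrix_smul, Pi.smul_apply, Pi.smul_apply, Matrix.submatrix_one_equiv]

end Cx

namespace Sys

variable {A : Type*} [AddCommGroup A] [Module (ZMod 2) A] [Fintype A] [Fintype F] (S : Sys A ι F)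
  {σ : F →+* F} {Φ : Matrix ι ι F}

theorem exists_tv (hk : Cx σ Φ) (hu : ∀ a, S.u a ∈ isoGrp σ Φ) (v : A) :
    ∃ (c : F) (hc : c * c * sgn F (S.q v) = -1) (k : Fˣ),
      scal k (S.tv c v hc) ∈ isoGrp σ Φ ⊓ S.norm ∧ c * c * (c * c) = 1 := by
  obtain ⟨i, hi, hσ⟩ := hk.exists_i
  obtain ⟨c, hc, hc1, hc4⟩ : ∃ c : F, c * c * sgn F (S.q v) = -1 ∧ (σ c * c = 1 ∨ Φ = 0) ∧
      c * c * (c * c) = 1 := by
    rcases z2_cases (S.q v) with h | h
    · refine ⟨i, by rw [h, sgn_zero, mul_one, hi], ?_, by rw [hi]; ring⟩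
      rcases hσ with h0 | h0
      exacts [Or.inr h0, Or.inl (by rw [h0, neg_mul, hi, neg_neg])]
    · exact ⟨1, by rw [h, sgn_one]; ring, Or.inl (by simp), by ring⟩
  have h1i : (1 + i) * (1 - i) = 2 := by linear_combination -hi
  have hne : 1 + i ≠ 0 := fun h => S.two_ne (by rw [← h1i, h, zero_mul])
  refine ⟨c, hc, (Units.mk0 _ hne)⁻¹, ⟨S.tv_mem_iso hu hc hc1 ?_, S.norm_scal (S.tv_mem hc) _⟩, hc4⟩
  rcases hσ with h0 | h0
  · exact Or.inr h0
  · refine Or.inl ?_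
    rw [Units.val_inv_eq_inv_val, Units.val_mk0, map_inv₀, map_add, map_one, h0, ← sub_eq_add_neg, ← mul_inv,
      mul_comm (1 - i), h1i, inv_mul_cancel₀ S.two_ne]

/-- the lifts of transvections -/
theorem exists_τ_lift (hk : Cx σ Φ) (hu : ∀ a, S.u a ∈ isoGrp σ Φ) (v : A) :
    ∃ g ∈ isoGrp σ Φ ⊓ S.norm, (∀ b, S.ω v b = 0 → S.Carries g b b 1) ∧ ∀ b, S.img g b = S.τ v b := by
  obtain ⟨c, hc, k, hg, -⟩ := S.exists_tv hk hu v
  refine ⟨_, hg, fun b hb => ?_, fun b => by rw [S.img_scal (S.tv_mem hc), S.img_tv hc]; rfl⟩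
  show _ = (1 : F) • _
  rw [one_smul, scal_val, Matrix.smul_mul, S.tv_fix hc hb, Matrix.mul_smul]

/-- the monomials of determinant one up to fourth roots of unity -/
theorem exists_big_e (hk : Cx σ Φ) (hu : ∀ a, S.u a ∈ isoGrp σ Φ) {v : A} (hv : v ≠ 0) :
    ∃ (μ : F) (g : GL ι F), g ∈ big σ Φ ∧ (g : Matrix ι ι F) = μ • S.e v ∧ (μ * μ = 1 ∨ μ * μ = -1) := by
  obtain ⟨b, hb⟩ := S.exists_ω_one hv
  obtain ⟨c, hc, k, hg, hc4⟩ := S.exists_tv hk hu v
  set t := scal k (S.tv c v hc) with ht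
  have e1 : ((t * S.u b * t⁻¹ : GL ι F) : Matrix ι ι F) = (-(c * sgn F (S.β b v))) • S.e (b + v) := by
    rw [Units.val_mul, Units.val_mul, u_val, ht, scal_val, Matrix.smul_mul, S.tv_move hc hb, smul_comm,
      ← Matrix.mul_smul, ← scal_val, ← ht, Matrix.smul_mul, mul_assoc, ← Units.val_mul, mul_inv_cancel,
      Units.val_one, mul_one]
  refine ⟨-(c * sgn F (S.β b v)) * sgn F (S.q b) * sgn F (S.β (b + v) b), t * S.u b * t⁻¹ * (S.u b)⁻¹,
    mem_big.2 ⟨?_, ?_⟩, ?_, ?_⟩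
  · exact Subgroup.mul_mem _ (Subgroup.mul_mem _ (Subgroup.mul_mem _ hg.1 (hu b)) (Subgroup.inv_mem _ hg.1))
      (Subgroup.inv_mem _ (hu b))
  · have : Matrix.GeneralLinearGroup.det (t * S.u b * t⁻¹ * (S.u b)⁻¹) = 1 := by
      simp only [map_mul, map_inv, mul_inv_cancel_comm, mul_inv_cancel]
    exact congrArg Units.val this
  · rw [Units.val_mul, e1, u_inv_val, Matrix.smul_mul, Matrix.mul_smul, S.e_mul, add_right_comm, add_self_zero,
      zero_add, smul_smul, smul_smul]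
  · have e : ∀ s : ZMod 2, sgn F s * sgn F s = 1 := sgn_mul_self
    have : (-(c * sgn F (S.β b v)) * sgn F (S.q b) * sgn F (S.β (b + v) b)) *
        (-(c * sgn F (S.β b v)) * sgn F (S.q b) * sgn F (S.β (b + v) b)) = c * c := by
      linear_combination (c * c * (sgn F (S.β b v) * sgn F (S.β b v)) * (sgn F (S.q b) * sgn F (S.q b))) *
          e (S.β (b + v) b) + (c * c * (sgn F (S.β b v) * sgn F (S.β b v))) * e (S.q b) + (c * c) * e (S.β b v)
    rw [this]
    exact mul_self_eq_one_iff.1 hc4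

theorem e_ne_scalar {v : A} (hv : v ≠ 0) {μ : F} (hμ : μ ≠ 0) (c : F) : μ • S.e v ≠ c • (1 : Matrix ι ι F) :=
  fun h => hv (S.smul_e_inj hμ (d := c) (b := 0) (by rw [h, S.e_zero])).1

/-- the normalising isometries are transitive on the non-zero vectors -/
theorem trans_cx (hk : Cx σ Φ) (hu : ∀ a, S.u a ∈ isoGrp σ Φ) {a b : A} (ha : a ≠ 0) (hb : b ≠ 0) :
    ∃ n ∈ isoGrp σ Φ ⊓ S.norm, S.img n a = b := by
  rcases S.exists_two_τ ha hb with h | ⟨c, -, h, -, -⟩
  · obtain ⟨g, hg, -, himg⟩ := S.exists_τ_lift hk hu (a + b)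
    exact ⟨g, hg, by rw [himg, S.τ_move h]⟩
  · obtain ⟨g, hg, -, himg⟩ := S.exists_τ_lift hk hu (c + b)
    obtain ⟨g', hg', -, himg'⟩ := S.exists_τ_lift hk hu (a + c)
    exact ⟨g * g', Subgroup.mul_mem _ hg hg', by rw [img_mul hg.2 hg'.2, himg', himg, h]⟩

/-- the dichotomy: an overgroup of the normalising isometries normalises or contains all of determinant one -/
def Dich (σ : F →+* F) (Φ : Matrix ι ι F) : Prop :=
  ∀ H : Subgroup (GL ι F), isoGrp σ Φ ⊓ S.norm ≤ H → H ≤ isoGrp σ Φ → H ≤ S.norm ∨ big σ Φ ≤ H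

end Sys

end Cfsg.Agent.Forms.Max.TwoGroup
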