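import Cfsg.Agent.Lib.Forms.Max.TwoGroup.Basic

/-!
# The elements of the normaliser inducing transvections and their commuting products

For `c • e v` of square `-1` the matrix `1 + c • e v` induces the transvection at `v`. For commuting involutions
`P = c • e v` and `Q = d • e w` the involution `(1 + P + Q - P Q)/2` induces `x ↦ x + ω(x,v) w + ω(x,w) v`.
-/

set_option autoImplicit false
set_option linter.unusedSectionVars false

namespace Cfsg.Agent.Forms.Max.TwoGroup

open Matrix

namespace Sys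

variable {A ι F : Type*} [AddCommGroup A] [Module (ZMod 2) A] [Fintype A] [Field F] [Fintype ι] [DecidableEq ι]
  (S : Sys A ι F)

theorem smul_e_sq {c : F} {v : A} {s : F} (hc : c * c * sgn F (S.q v) = s) :
    (c • S.e v) * (c • S.e v) = s • (1 : Matrix ι ι F) := by
  rw [Matrix.smul_mul, Matrix.mul_smul, smul_smul, S.e_sq, smul_smul, hc]

/-- the element inducing the transvection at `v` -/
noncomputable def tv (c : F) (v : A) (hc : c * c * sgn F (S.q v) = -1) : GL ι F where
  val := 1 + c • S.e v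
  inv := (2 : F)⁻¹ • (1 - c • S.e v)
  val_inv := by
    rw [Matrix.mul_smul, mul_sub, mul_one, add_mul, one_mul, S.smul_e_sq hc, neg_one_smul,
      show (1 + c • S.e v - (c • S.e v + -(1 : Matrix ι ι F))) = (2 : F) • (1 : Matrix ι ι F) by rw [two_smul]; abel,
      smul_smul, inv_mul_cancel₀ S.two_ne, one_smul]
  inv_val := by
    rw [Matrix.smul_mul, sub_mul, one_mul, mul_add, mul_one, S.smul_e_sq hc, neg_one_smul,
      show (1 + c • S.e v - (c • S.e v + -(1 : Matrix ι ι F))) = (2 : F) • (1 : Matrix ι ι F) by rw [two_smul]; abel,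
      smul_smul, inv_mul_cancel₀ S.two_ne, one_smul]

@[simp] theorem tv_val {c : F} {v : A} (hc : c * c * sgn F (S.q v) = -1) :
    (S.tv c v hc : Matrix ι ι F) = 1 + c • S.e v := rfl

theorem tv_fix {c : F} {v b : A} (hc : c * c * sgn F (S.q v) = -1) (h : S.ω v b = 0) :
    (S.tv c v hc : Matrix ι ι F) * S.e b = S.e b * (S.tv c v hc : Matrix ι ι F) := by
  rw [tv_val, add_mul, mul_add, one_mul, mul_one, Matrix.smul_mul, Matrix.mul_smul, S.e_comm v b, h, sgn_zero,
    one_smul]

theorem tv_move {c : F} {v b : A} (hc : c * c * sgn F (S.q v) = -1) (h : S.ω v b = 1) :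
    (S.tv c v hc : Matrix ι ι F) * S.e b =
      (-(c * sgn F (S.β b v))) • (S.e (b + v) * (S.tv c v hc : Matrix ι ι F)) := by
  have h1 : S.e (b + v) = sgn F (S.β b v) • (S.e b * S.e v) := by
    rw [S.e_mul, smul_smul, sgn_mul_self, one_smul]
  have h2 : S.e v * S.e b = -(S.e b * S.e v) := by rw [S.e_comm v b, h, sgn_one, neg_one_smul]
  rw [h1, Matrix.smul_mul, smul_smul, neg_mul, mul_assoc, sgn_mul_self, mul_one, tv_val, add_mul, mul_add, one_mul,
    mul_one, Matrix.smul_mul, h2, Matrix.mul_smul, mul_assoc, S.e_sq, Matrix.mul_smul, mul_one, smul_add, smul_smul,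
    smul_smul, smul_neg, neg_smul, show -c * c * sgn F (S.q v) = 1 by linear_combination -hc, one_smul]
  abel

theorem tv_mem {c : F} {v : A} (hc : c * c * sgn F (S.q v) = -1) : S.Norm (S.tv c v hc) := fun b => by
  rcases z2_cases (S.ω v b) with h | h
  · exact ⟨b, 1, by rw [one_smul]; exact S.tv_fix hc h⟩
  · exact ⟨_, _, S.tv_move hc h⟩

theorem img_tv {c : F} {v : A} (hc : c * c * sgn F (S.q v) = -1) (b : A) :
    S.img (S.tv c v hc) b = b + S.ω v b • v := by
  rcases z2_cases (S.ω v b) with h | h <;> rw [h]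
  · rw [zero_smul, add_zero]; exact img_eq (c := 1) (by rw [one_smul]; exact S.tv_fix hc h)
  · rw [one_smul]; exact img_eq (S.tv_move hc h)

/-- the two commuting involutions of a pair -/
structure Pair (c d : F) (v w : A) : Prop where
  hc : c * c * sgn F (S.q v) = 1
  hd : d * d * sgn F (S.q w) = 1
  orth : S.ω v w = 0

variable {S}

/-- the matrix of the pair -/
def pairMat (S : Sys A ι F) (c d : F) (v w : A) : Matrix ι ι F :=
  (2 : F)⁻¹ • (1 + c • S.e v + d • S.e w - (c • S.e v) * (d • S.e w))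

theorem pairMat_swap {c d : F} {v w : A} (h : S.ω v w = 0) : pairMat S c d v w = pairMat S d c w v := by
  have e : (c • S.e v) * (d • S.e w) = (d • S.e w) * (c • S.e v) := by
    simp only [smul_mul_assoc, mul_smul_comm, smul_smul, mul_comm d c]
    rw [S.e_comm v w, h, sgn_zero, one_smul]
  unfold pairMat
  rw [e, add_right_comm]

theorem Pair.mul_self {c d : F} {v w : A} (h : S.Pair c d v w) :
    pairMat S c d v w * pairMat S c d v w = 1 := by
  have hP := S.smul_e_sq h.hc
  have hQ := S.smul_e_sq h.hd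
  rw [one_smul] at hP hQ
  have hPQ : Commute (c • S.e v) (d • S.e w) := by
    show c • S.e v * (d • S.e w) = d • S.e w * (c • S.e v)
    rw [Matrix.smul_mul, Matrix.mul_smul, Matrix.smul_mul, Matrix.mul_smul, S.e_comm v w, h.orth, sgn_zero, one_smul,
      smul_smul, smul_smul, mul_comm]
  unfold pairMat
  generalize hP' : c • S.e v = P at hP hPQ ⊢
  generalize hQ' : d • S.e w = Q at hQ hPQ ⊢
  have key : (1 + P + Q - P * Q) * (1 + P + Q - P * Q) = (4 : F) • (1 : Matrix ι ι F) := by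
    have e1 : Q * P = P * Q := hPQ.eq.symm
    have e2 : ∀ X, Q * (P * X) = P * (Q * X) := fun X => by rw [← mul_assoc, e1, mul_assoc]
    have e3 : ∀ X, P * (P * X) = X := fun X => by rw [← mul_assoc, hP, one_mul]
    simp only [add_mul, mul_add, sub_mul, mul_sub, one_mul, mul_one, mul_assoc, hP, hQ, e1, e2, e3]
    rw [show (4 : F) = 1 + 1 + 1 + 1 by norm_num, add_smul, add_smul, add_smul, one_smul]
    abel
  rw [Matrix.smul_mul, Matrix.mul_smul, smul_smul, key, smul_smul,
    show (2 : F)⁻¹ * (2 : F)⁻¹ * 4 = 1 by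
      rw [show (4 : F) = 2 * 2 by norm_num, mul_assoc, ← mul_assoc _ 2 2, inv_mul_cancel₀ S.two_ne, one_mul,
        inv_mul_cancel₀ S.two_ne], one_smul]

/-- the involution of the pair -/
def Pair.pr {c d : F} {v w : A} (h : S.Pair c d v w) : GL ι F where
  val := pairMat S c d v w
  inv := pairMat S c d v w
  val_inv := h.mul_self
  inv_val := h.mul_self

@[simp] theorem Pair.pr_val {c d : F} {v w : A} (h : S.Pair c d v w) :
    (h.pr : Matrix ι ι F) = pairMat S c d v w := rfl

theorem Pair.symm {c d : F} {v w : A} (h : S.Pair c d v w) : S.Pair d c w v :=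
  ⟨h.hd, h.hc, by rw [S.ω_comm]; exact h.orth⟩

theorem Pair.pr_symm {c d : F} {v w : A} (h : S.Pair c d v w) : h.symm.pr = h.pr :=
  Units.ext (pairMat_swap h.symm.orth)

theorem e_smul_comm (c : F) (v b : A) :
    (c • S.e v) * S.e b = sgn F (S.ω v b) • (S.e b * (c • S.e v)) := by
  rw [Matrix.smul_mul, S.e_comm v b, Matrix.mul_smul, smul_smul, smul_smul, mul_comm]

section alg

variable {R : Type*} [Ring R]

theorem alg_fix {P Q B : R} (hP : P * B = B * P) (hQ : Q * B = B * Q) :
    (1 + P + Q - P * Q) * B = B * (1 + P + Q - P * Q) := by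
  simp only [sub_mul, add_mul, mul_sub, mul_add, one_mul, mul_one, mul_assoc, hQ]
  rw [← mul_assoc P B Q, hP, mul_assoc]

theorem alg_move {P Q B : R} (hP : P * B = -(B * P)) (hQ : Q * B = B * Q) (hQQ : Q * Q = 1) (hPQ : Q * P = P * Q) :
    (1 + P + Q - P * Q) * B = B * Q * (1 + P + Q - P * Q) := by
  have e1 : Q * (P * Q) = P := by rw [← mul_assoc, hPQ, mul_assoc, hQQ, mul_one]
  simp only [sub_mul, add_mul, mul_sub, mul_add, one_mul, mul_one, mul_assoc, hQ, hQQ, hPQ, e1]
  rw [← mul_assoc P B Q, hP, neg_mul, mul_assoc]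
  abel

theorem alg_move₂ {P Q B : R} (hP : P * B = -(B * P)) (hQ : Q * B = -(B * Q)) (hPP : P * P = 1) (hQQ : Q * Q = 1)
    (hPQ : Q * P = P * Q) : (1 + P + Q - P * Q) * B = -(B * (P * Q) * (1 + P + Q - P * Q)) := by
  have e1 : P * (Q * P) = Q := by rw [hPQ, ← mul_assoc, hPP, one_mul]
  have e2 : P * (Q * (P * Q)) = 1 := by rw [← mul_assoc Q, hPQ, ← mul_assoc, ← mul_assoc P, hPP, one_mul, hQQ]
  simp only [sub_mul, add_mul, mul_sub, mul_add, one_mul, mul_one, mul_assoc, hQ, hQQ, e1, e2]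
  rw [mul_neg, ← mul_assoc P B Q, hP, neg_mul, mul_assoc]
  abel

end alg

theorem Pair.pr_fix {c d : F} {v w b : A} (h : S.Pair c d v w) (hv : S.ω v b = 0) (hw : S.ω w b = 0) :
    (h.pr : Matrix ι ι F) * S.e b = S.e b * (h.pr : Matrix ι ι F) := by
  rw [Pair.pr_val]
  unfold pairMat
  rw [smul_mul_assoc (2 : F)⁻¹, mul_smul_comm (2 : F)⁻¹, alg_fix (by rw [e_smul_comm, hv, sgn_zero, one_smul])
    (by rw [e_smul_comm, hw, sgn_zero, one_smul])]

theorem Pair.comm {c d : F} {v w : A} (h : S.Pair c d v w) :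
    (d • S.e w) * (c • S.e v) = (c • S.e v) * (d • S.e w) := by
  simp only [smul_mul_assoc, mul_smul_comm, smul_smul, mul_comm d c]
  rw [S.e_comm v w, h.orth, sgn_zero, one_smul]

theorem Pair.pr_move {c d : F} {v w b : A} (h : S.Pair c d v w) (hv : S.ω v b = 1) (hw : S.ω w b = 0) :
    (h.pr : Matrix ι ι F) * S.e b = (d * sgn F (S.β b w)) • (S.e (b + w) * (h.pr : Matrix ι ι F)) := by
  have h1 : S.e (b + w) = sgn F (S.β b w) • (S.e b * S.e w) := by
    rw [S.e_mul, smul_smul, sgn_mul_self, one_smul]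
  have hQ := S.smul_e_sq h.hd
  rw [one_smul] at hQ
  rw [h1, Matrix.smul_mul, smul_smul, mul_assoc d, sgn_mul_self, mul_one, ← Matrix.smul_mul, ← Matrix.mul_smul,
    Pair.pr_val]
  unfold pairMat
  rw [smul_mul_assoc (2 : F)⁻¹, mul_smul_comm (2 : F)⁻¹, alg_move (by rw [e_smul_comm, hv, sgn_one, neg_one_smul])
    (by rw [e_smul_comm, hw, sgn_zero, one_smul]) hQ h.comm]

theorem Pair.pr_move₂ {c d : F} {v w b : A} (h : S.Pair c d v w) (hv : S.ω v b = 1) (hw : S.ω w b = 1) :
    ∃ k : F, (h.pr : Matrix ι ι F) * S.e b = k • (S.e (b + v + w) * (h.pr : Matrix ι ι F)) := by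
  have hP := S.smul_e_sq h.hc
  have hQ := S.smul_e_sq h.hd
  rw [one_smul] at hP hQ
  refine ⟨-(c * d * (sgn F (S.β b v) * sgn F (S.β (b + v) w))), ?_⟩
  have h1 : (sgn F (S.β b v) * sgn F (S.β (b + v) w)) • S.e (b + v + w) = S.e b * S.e v * S.e w := by
    rw [S.e_mul b v, Matrix.smul_mul, S.e_mul, smul_smul]
  rw [neg_smul, ← smul_smul, ← Matrix.smul_mul (sgn F (S.β b v) * _), h1, ← Matrix.smul_mul,
    show (c * d) • (S.e b * S.e v * S.e w) = S.e b * (c • S.e v * (d • S.e w)) by
      simp only [Matrix.smul_mul, Matrix.mul_smul, smul_smul, mul_assoc, mul_comm c d],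
    Pair.pr_val]
  unfold pairMat
  rw [smul_mul_assoc (2 : F)⁻¹, mul_smul_comm (2 : F)⁻¹, alg_move₂ (by rw [e_smul_comm, hv, sgn_one, neg_one_smul])
    (by rw [e_smul_comm, hw, sgn_one, neg_one_smul]) hP hQ h.comm, smul_neg]

theorem Pair.pr_mem {c d : F} {v w : A} (h : S.Pair c d v w) : S.Norm h.pr := fun b => by
  rcases z2_cases (S.ω v b) with hv | hv <;> rcases z2_cases (S.ω w b) with hw | hw
  · exact ⟨b, 1, by rw [one_smul]; exact h.pr_fix hv hw⟩
  · exact ⟨_, _, h.pr_symm ▸ h.symm.pr_move hw hv⟩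
  · exact ⟨_, _, h.pr_move hv hw⟩
  · exact ⟨_, h.pr_move₂ hv hw⟩

/-- the map induced by the pair -/
def pairMap (S : Sys A ι F) (v w : A) (b : A) : A := b + S.ω v b • w + S.ω w b • v

theorem Pair.img_pr {c d : F} {v w : A} (h : S.Pair c d v w) (b : A) : S.img h.pr b = pairMap S v w b := by
  unfold pairMap
  rcases z2_cases (S.ω v b) with hv | hv <;> rcases z2_cases (S.ω w b) with hw | hw <;>
    simp only [hv, hw, zero_smul, one_smul, add_zero]
  · exact img_eq (c := 1) (by rw [one_smul]; exact h.pr_fix hv hw)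
  · exact img_eq (h.pr_symm ▸ h.symm.pr_move hw hv)
  · exact img_eq (h.pr_move hv hw)
  · obtain ⟨k, e⟩ := h.pr_move₂ hv hw
    rw [add_right_comm]
    exact img_eq e

end Sys

end Cfsg.Agent.Forms.Max.TwoGroup
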