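import Cfsg.Agent.Lib.Forms.Max.TwoGroup.GenReal

/-!
# Generation of the symplectic group by centralisers of complex structures

Unipotent isometries of square zero commuting with a complex structure `X` include `t u * t (X u)`. For anticommuting
`X`, `Y` and `u` spanning with its images a totally singular subspace, `t u ^ 2` is a combination of these for `X`,
`Y` and `X * Y`. The centres so obtained span the space and are connected.
-/

set_option autoImplicit false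
set_option linter.unusedSectionVars false

namespace Cfsg.Agent.Forms.Max.TwoGroup

open Matrix

namespace SympGen

section centres

variable {F : Type*} [Field F] {V : Type*} [AddCommGroup V] [Module F V]

/-- a set closed under multiples and under sums of non-orthogonal members is everything if a connected part of it
separates the vectors -/
theorem eq_univ_of_connected (B : LinearMap.BilinForm F V) (h2 : (2 : F) ≠ 0) (alt : ∀ x, B x x = 0)
    (nd : ∀ x, (∀ y, B x y = 0) → x = 0) (C : Set V) (zero : (0 : V) ∈ C) (smul : ∀ (t : F), ∀ x ∈ C, t • x ∈ C)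
    (plane : ∀ x ∈ C, ∀ y ∈ C, B x y ≠ 0 → x + y ∈ C) (G : Set V) (hG : G ⊆ C)
    (hsep : ∀ z, z ≠ 0 → ∃ c ∈ G, B z c ≠ 0) (hconn : ∀ c ∈ G, ∀ c' ∈ G, ∃ w ∈ C, B c w ≠ 0 ∧ B w c' ≠ 0)
    [FiniteDimensional F V] (z : V) : z ∈ C := by
  have swap : ∀ x y, B y x = -B x y := fun x y => by
    have := alt (x + y)
    simp only [map_add, LinearMap.add_apply, alt, zero_add, add_zero] at this
    linear_combination this
  have step : ∀ {x y z : V}, y ∈ C → (∃ w ∈ C, B x w ≠ 0 ∧ B w y ≠ 0) → B y z ≠ 0 →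
      ∃ w ∈ C, B x w ≠ 0 ∧ B w z ≠ 0 := by
    intro x y z hy ⟨w, hw, hxw, hwy⟩ hyz
    by_cases hwz : B w z = 0
    · by_cases hxy : B x y = 0
      · exact ⟨w + y, plane w hw y hy hwy, by rwa [map_add, hxy, add_zero],
          by rwa [map_add, LinearMap.add_apply, hwz, zero_add]⟩
      · exact ⟨y, hy, hxy, hyz⟩
    · exact ⟨w, hw, hxw, hwz⟩
  have mem : ∀ {x y w : V}, x ∈ C → y ∈ C → w ∈ C → B x w ≠ 0 → B w y ≠ 0 → B x y = 0 → B (x + y) w ≠ 0 →
      x + y ∈ C := by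
    intro x y w hx hy hw h1 h3 hxy hz
    have ha : x + w + y ∈ C := plane _ (plane x hx w hw h1) y hy (by
      rwa [map_add, LinearMap.add_apply, hxy, zero_add])
    have hb := plane _ ha _ (smul (-1) w hw) (by
      rw [map_smul, smul_eq_mul, neg_one_mul, neg_ne_zero, add_right_comm, map_add, LinearMap.add_apply, alt,
        add_zero]
      exact hz)
    rwa [show x + w + y + (-1 : F) • w = x + y by module] at hb
  have add : ∀ {x y : V}, x ∈ C → y ∈ C → x + y ∈ C := by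
    intro x y hx hy
    rcases eq_or_ne x 0 with rfl | hx0
    · rwa [zero_add]
    rcases eq_or_ne y 0 with rfl | hy0
    · rwa [add_zero]
    by_cases hxy : B x y = 0
    swap; · exact plane x hx y hy hxy
    rcases eq_or_ne (x + y) 0 with hz | hz
    · rw [hz]; exact zero
    obtain ⟨cx, hcx, hxc⟩ := hsep x hx0
    obtain ⟨cy, hcy, hyc⟩ := hsep y hy0
    obtain ⟨w, hw, hxw, hwy⟩ : ∃ w ∈ C, B x w ≠ 0 ∧ B w y ≠ 0 := by
      obtain ⟨w₀, hw₀, e1, e2⟩ := hconn cx hcx cy hcy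
      exact step (hG hcy) (step hw₀ ⟨cx, hG hcx, hxc, e1⟩ e2) (by rw [swap]; exact neg_ne_zero.2 hyc)
    by_cases hzw : B (x + y) w = 0
    swap; · exact mem hx hy hw hxw hwy hxy hzw
    have main : ∀ x y c : V, x ∈ C → y ∈ C → c ∈ C → B x w ≠ 0 → B y w ≠ 0 → B x y = 0 → B (x + y) w = 0 →
        B x c ≠ 0 → B y c = 0 → x + y ∈ C := by
      intro x y c hx hy hc hxw hyw hxy hzw hxc hyc
      obtain ⟨a, ha, haw, hxa, hya⟩ : ∃ a ∈ C, B a w ≠ 0 ∧ B x a = B x c ∧ B y a = 0 := by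
        by_cases hcw : B c w = 0
        · refine ⟨x + c, plane x hx c hc hxc, ?_, ?_, ?_⟩
          · rwa [map_add, LinearMap.add_apply, hcw, add_zero]
          · rw [map_add, alt, zero_add]
          · rw [map_add, swap, hxy, neg_zero, hyc, add_zero]
        · exact ⟨c, hc, hcw, rfl, hyc⟩
      obtain ⟨s, hs0, hs⟩ : ∃ s : F, s ≠ 0 ∧ B x c + s * B x w ≠ 0 := by
        by_cases h1 : B x c + 1 * B x w = 0
        · refine ⟨-1, neg_ne_zero.2 one_ne_zero, fun h3 => mul_ne_zero h2 hxc ?_⟩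
          linear_combination h1 + h3
        · exact ⟨1, one_ne_zero, h1⟩
      refine mem hx hy (plane a ha _ (smul s w hw) ?_) ?_ ?_ hxy ?_
      · rw [map_smul, smul_eq_mul]; exact mul_ne_zero hs0 haw
      · rwa [map_add, hxa, map_smul, smul_eq_mul]
      · rw [swap, neg_ne_zero, map_add, hya, zero_add, map_smul, smul_eq_mul]
        exact mul_ne_zero hs0 hyw
      · rw [map_add, map_smul, smul_eq_mul, hzw, mul_zero, add_zero, map_add, LinearMap.add_apply, hxa, hya,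
          add_zero]
        exact hxc
    have hyw : B y w ≠ 0 := by rw [swap]; exact neg_ne_zero.2 hwy
    obtain ⟨c, hcb, hzc⟩ := hsep _ hz
    have hc := hG hcb
    by_cases h1 : B y c = 0
    · exact main x y c hx hy hc hxw hyw hxy hzw
        (fun e => hzc (by rw [map_add, LinearMap.add_apply, e, h1, add_zero])) h1
    by_cases h3 : B x c = 0
    · rw [add_comm]
      exact main y x c hy hx hc hyw hxw (by rw [swap, hxy, neg_zero]) (by rwa [add_comm]) h1 h3
    exact mem hx hy hc h3 (by rw [swap]; exact neg_ne_zero.2 h1) hxy hzc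
  let W : Submodule F V :=
    { carrier := C
      zero_mem' := zero
      add_mem' := add
      smul_mem' := smul }
  have hW : W = ⊤ := by
    by_contra hne
    obtain ⟨f, hf0, hf⟩ := Submodule.exists_le_ker_of_lt_top W (lt_top_iff_ne_top.2 hne)
    have hinj : Function.Injective B := fun a b e => by
      refine sub_eq_zero.1 (nd _ fun y => ?_)
      rw [map_sub, LinearMap.sub_apply, e, sub_self]
    obtain ⟨d, hd⟩ := (LinearMap.injective_iff_surjective_of_finrank_eq_finrank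
      (Subspace.dual_finrank_eq (K := F) (V := V)).symm).1 hinj f
    have hd0 : d ≠ 0 := fun e => hf0 (by rw [← hd, e, map_zero])
    obtain ⟨c, hc, hdc⟩ := hsep d hd0
    exact hdc ((LinearMap.congr_fun hd c).trans (hf (hG hc)))
  exact (hW ▸ Submodule.mem_top : z ∈ W)

/-- isotropic vectors separate the vectors and are connected -/
theorem exists_isotropic [Finite F] [FiniteDimensional F V] (h2 : (2 : F) ≠ 0) (S : LinearMap.BilinForm F V)
    (hsym : S.IsSymm) (P : Submodule F V) (hnd : Bases.NondegOn S P) (hdim : 3 ≤ Module.finrank F P) :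
    (∀ q ∈ P, q ≠ 0 → ∃ r ∈ P, S r r = 0 ∧ S q r ≠ 0) := by
  have sy : ∀ x y, S x y = S y x := fun x y => hsym.eq x y
  have partner : ∀ p ∈ P, p ≠ 0 → S p p = 0 → ∃ r ∈ P, S r r = 0 ∧ S p r = 1 := by
    intro p hp hp0 hpp
    obtain ⟨y, hy, hpy⟩ : ∃ y ∈ P, S p y ≠ 0 := by
      by_contra hc
      push Not at hc
      exact hp0 (hnd p hp hc)
    set y' := (S p y)⁻¹ • y with hy'
    have h1 : S p y' = 1 := by rw [hy', map_smul, smul_eq_mul, inv_mul_cancel₀ hpy]
    refine ⟨y' + (-(S y' y') / 2) • p, P.add_mem (P.smul_mem _ hy) (P.smul_mem _ hp), ?_, ?_⟩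
    · simp only [map_add, map_smul, LinearMap.add_apply, LinearMap.smul_apply, smul_eq_mul, hpp, sy y' p, h1]
      field_simp
      ring
    · simp [h1, hpp]
  intro q hq hq0
  by_cases hqq : S q q = 0
  · obtain ⟨r, hr, hrr, hqr⟩ := partner q hq hq0 hqq
    exact ⟨r, hr, hrr, by rw [hqr]; exact one_ne_zero⟩
  obtain ⟨p, hp, hp0, hpp⟩ : ∃ p ∈ P, p ≠ 0 ∧ S p p = 0 := by
    have hr : ∀ u v, S u v = 0 → S v u = 0 := fun u v e => by rw [sy v u, e]
    obtain ⟨w₁, hw₁, h11, -⟩ := Bases.exists_symm_unit h2 S hsym P hnd (by omega) 1 one_ne_zero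
    obtain ⟨n1, -, f1⟩ := Bases.split_anisotropic S hr hnd hw₁ (by rw [h11]; exact one_ne_zero)
    obtain ⟨w₂, hw₂, h22, -⟩ := Bases.exists_symm_unit h2 S hsym _ n1 (by omega) 1 one_ne_zero
    obtain ⟨n2, -, f2⟩ := Bases.split_anisotropic S hr n1 hw₂ (by rw [h22]; exact one_ne_zero)
    obtain ⟨w₃, hw₃, h33⟩ : ∃ w ∈ (P ⊓ LinearMap.ker (S w₁)) ⊓ LinearMap.ker (S w₂), S w w ≠ 0 ∨ (S w w = 0 ∧ w ≠ 0) := by
      obtain ⟨w, hw, hw0⟩ : ∃ w ∈ (P ⊓ LinearMap.ker (S w₁)) ⊓ LinearMap.ker (S w₂), w ≠ 0 := by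
        by_contra hc
        push Not at hc
        rw [(Submodule.eq_bot_iff _).2 hc, finrank_bot] at f2
        omega
      exact ⟨w, hw, (em (S w w = 0)).elim (fun e => Or.inr ⟨e, hw0⟩) Or.inl⟩
    have hw₂' := Submodule.mem_inf.1 hw₂
    have hw₃' := Submodule.mem_inf.1 hw₃
    have hw₃'' := Submodule.mem_inf.1 hw₃'.1
    rcases h33 with h33 | ⟨h33, hw0⟩
    · obtain ⟨a, b, hab⟩ := Bases.exists_sq_add_sq h2 (one_ne_zero : (1 : F) ≠ 0) one_ne_zero (-(S w₃ w₃))
      have o12 : S w₁ w₂ = 0 := hw₂'.2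
      have o13 : S w₁ w₃ = 0 := hw₃''.2
      have o23 : S w₂ w₃ = 0 := hw₃'.2
      refine ⟨a • w₁ + b • w₂ + w₃, P.add_mem (P.add_mem (P.smul_mem _ hw₁) (P.smul_mem _ hw₂'.1)) hw₃''.1, ?_, ?_⟩
      · intro e
        have := congrArg (S w₃) e
        simp only [map_add, map_smul, smul_eq_mul, sy w₃ w₁, sy w₃ w₂, o13, o23, mul_zero, zero_add, map_zero] at this
        exact h33 this
      · simp only [map_add, map_smul, LinearMap.add_apply, LinearMap.smul_apply, smul_eq_mul, h11, h22, o12, o13,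
          o23, sy w₂ w₁, sy w₃ w₁, sy w₃ w₂]
        linear_combination hab
    · exact ⟨w₃, hw₃''.1, hw0, h33⟩
  by_cases h1 : S q p = 0
  · obtain ⟨r, hr, hrr, hpr⟩ := partner p hp hp0 hpp
    by_cases h3 : S q r = 0
    · refine ⟨p + (-(S q q) / 2) • r + q, P.add_mem (P.add_mem hp (P.smul_mem _ hr)) hq, ?_, ?_⟩
      · simp only [map_add, map_smul, LinearMap.add_apply, LinearMap.smul_apply, smul_eq_mul, hpp, hrr, sy r p, hpr,
          sy p q, sy r q, h1, h3]
        field_simp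
        ring
      · simpa [map_add, map_smul, h1, h3] using hqq
    · exact ⟨r, hr, hrr, h3⟩
  · exact ⟨p, hp, hpp, h1⟩

end centres

end SympGen

variable {F : Type*} [Field F] {ι : Type} [Fintype ι] [DecidableEq ι]

/-- the symplectic group is generated by the unipotent isometries commuting with one of three anticommuting complex
structures -/
theorem isoGrp_le_of_centralisers [Finite F] (h2 : (2 : F) ≠ 0) (hn : 5 ≤ Fintype.card ι) {Φ : Matrix ι ι F}
    (hs : Φᵀ = -Φ) (hd : IsUnit Φ) {J J' : Matrix ι ι F} (hJ : J * J = -1 ∧ Jᵀ * Φ = -(Φ * J))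
    (hJ' : J' * J' = -1 ∧ J'ᵀ * Φ = -(Φ * J')) (hanti : J' * J = -(J * J')) {M : Subgroup (GL ι F)}
    (hM : ∀ X, X = J ∨ X = J' ∨ X = J * J' → ∀ g ∈ isoGrp (RingHom.id F) Φ,
      (g : Matrix ι ι F) * X = X * (g : Matrix ι ι F) →
      ((g : Matrix ι ι F) - 1) * ((g : Matrix ι ι F) - 1) = 0 → g ∈ M) : isoGrp (RingHom.id F) Φ ≤ M := by
  let B : LinearMap.BilinForm F (ι → F) := Matrix.toBilin' Φ
  have hB : ∀ x y, B x y = x ⬝ᵥ Φ *ᵥ y := fun x y => Matrix.toBilin'_apply' Φ x y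
  have hsw : ∀ x y, B y x = -B x y := fun x y => by
    rw [hB, hB, Matrix.dotProduct_mulVec y, vecMul_of_skew hs, neg_dotProduct, dotProduct_comm]
  have alt : ∀ x, B x x = 0 := fun x => by
    refine (mul_eq_zero.1 (?_ : (2 : F) * B x x = 0)).resolve_left h2
    linear_combination hsw x x
  have nd : ∀ x, (∀ y, B x y = 0) → x = 0 := fun x hx => by
    have h0 : Φ *ᵥ x = 0 := by
      funext i
      have := hx (Pi.single i 1)
      rw [← neg_neg (B x _), ← hsw, hB, single_dotProduct, one_mul, neg_eq_zero] at this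
      exact this
    exact Matrix.mulVec_injective_of_isUnit hd (h0.trans (mulVec_zero Φ).symm)
  have hK : (J * J') * (J * J') = -1 ∧ (J * J')ᵀ * Φ = -(Φ * (J * J')) := by
    refine ⟨?_, ?_⟩
    · rw [mul_assoc, ← mul_assoc J' J, hanti, neg_mul, mul_assoc, hJ'.1, mul_neg, mul_neg_one, mul_neg, neg_neg, hJ.1]
    · rw [Matrix.transpose_mul, mul_assoc, hJ.2, mul_neg, ← mul_assoc, hJ'.2, neg_mul, neg_neg, mul_assoc, hanti,
        mul_neg]
  have skew : ∀ X : Matrix ι ι F, Xᵀ * Φ = -(Φ * X) → ∀ x y, B (X *ᵥ x) y = -B x (X *ᵥ y) := fun X hX x y => by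
    rw [hB, hB, Matrix.dotProduct_mulVec, Matrix.vecMul_mulVec, ← Matrix.dotProduct_mulVec, hX, neg_mulVec,
      dotProduct_neg, mulVec_mulVec]
  -- transvections
  have exV : ∀ (w : ι → F) (k : F), ∃ t : GL ι F, (∀ x, (t : Matrix ι ι F) *ᵥ x = x + (k * B x w) • w) ∧
      ∀ x y, B ((t : Matrix ι ι F) *ᵥ x) ((t : Matrix ι ι F) *ᵥ y) = B x y := by
    intro w k
    have h1 : (k • (Φ *ᵥ w)) ⬝ᵥ w = 0 := by rw [smul_dotProduct, dotProduct_comm, ← hB, alt, smul_zero]
    have key : ∀ x, ((Aschbacher.trv w _ h1 : GL ι F) : Matrix ι ι F) *ᵥ x = x + (k * B x w) • w := fun x => by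
      rw [Aschbacher.trv_mulVec, smul_dotProduct, smul_eq_mul, dotProduct_comm, ← hB]
    refine ⟨_, key, fun x y => ?_⟩
    rw [key, key]
    simp only [map_add, map_smul, LinearMap.add_apply, LinearMap.smul_apply, smul_eq_mul, alt, hsw y w]
    ring
  let T : (ι → F) → F → GL ι F := fun w k => (exV w k).choose
  have hT : ∀ w k x, (T w k : Matrix ι ι F) *ᵥ x = x + (k * B x w) • w := fun w k => (exV w k).choose_spec.1
  have hTB : ∀ w k x y, B ((T w k : Matrix ι ι F) *ᵥ x) ((T w k : Matrix ι ι F) *ᵥ y) = B x y :=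
    fun w k => (exV w k).choose_spec.2
  have iso_of : ∀ g : GL ι F, (∀ x y, B ((g : Matrix ι ι F) *ᵥ x) ((g : Matrix ι ι F) *ᵥ y) = B x y) →
      g ∈ isoGrp (RingHom.id F) Φ := fun g hg => by
    rw [mem_isoGrp]
    simp only [RingHom.coe_id, Matrix.map_id]
    ext i j
    have := hg (Pi.single i 1) (Pi.single j 1)
    rw [hB, hB, Matrix.dotProduct_mulVec, Matrix.vecMul_mulVec, ← Matrix.dotProduct_mulVec, mulVec_mulVec] at this
    simpa using this
  -- products commuting with a structure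
  have pairM : ∀ X, X = J ∨ X = J' ∨ X = J * J' → ∀ u k, B u (X *ᵥ u) = 0 → T u k * T (X *ᵥ u) k ∈ M := by
    intro X hX u k huX
    obtain ⟨hsq, hsk⟩ : X * X = -1 ∧ Xᵀ * Φ = -(Φ * X) := by
      rcases hX with rfl | rfl | rfl
      exacts [hJ, hJ', hK]
    have hXX : ∀ x, X *ᵥ (X *ᵥ x) = -x := fun x => by rw [mulVec_mulVec, hsq, neg_mulVec, one_mulVec]
    have hval : ∀ x, ((T u k * T (X *ᵥ u) k : GL ι F) : Matrix ι ι F) *ᵥ x =
        x + (k * B x (X *ᵥ u)) • (X *ᵥ u) + (k * B x u) • u := fun x => by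
      rw [mulVec_mul_GL, hT, hT]
      simp [hsw u (X *ᵥ u), huX]
    refine hM X hX _ (iso_of _ fun x y => by rw [mulVec_mul_GL, mulVec_mul_GL, hTB, hTB]) ?_ ?_
    · refine Matrix.ext_iff_mulVec.2 fun x => ?_
      rw [← mulVec_mulVec, ← mulVec_mulVec, hval, hval, mulVec_add, mulVec_add, mulVec_smul, mulVec_smul, hXX,
        skew X hsk, skew X hsk, hXX, map_neg]
      module
    · refine Matrix.ext_iff_mulVec.2 fun x => ?_
      rw [← mulVec_mulVec]
      simp only [sub_mulVec, one_mulVec, hval]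
      simp [mulVec_add, mulVec_smul, hval, alt, huX, hsw u (X *ᵥ u)]
  have centre : ∀ u, B u (J *ᵥ u) = 0 → B u (J' *ᵥ u) = 0 → B u ((J * J') *ᵥ u) = 0 → ∀ k, T u k ∈ M := by
    intro u h1 h3 h4 k
    have e : J' *ᵥ u = (J * J') *ᵥ (J *ᵥ u) := by
      rw [mulVec_mulVec, mul_assoc, hanti, mul_neg, ← mul_assoc, hJ.1, neg_mul, one_mul, neg_neg]
    have hab : B (J *ᵥ u) (J' *ᵥ u) = 0 := by rw [skew J hJ.2, mulVec_mulVec, h4, neg_zero]
    have m1 := pairM J (Or.inl rfl) u (k / 2) h1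
    have m2 := pairM J' (Or.inr (Or.inl rfl)) u (k / 2) h3
    have m3 := pairM (J * J') (Or.inr (Or.inr rfl)) (J *ᵥ u) (k / 2) (by rw [← e, hab])
    rw [← e] at m3
    have key : T u k * (T (J *ᵥ u) (k / 2) * T (J' *ᵥ u) (k / 2)) =
        T u (k / 2) * T (J *ᵥ u) (k / 2) * (T u (k / 2) * T (J' *ᵥ u) (k / 2)) := by
      refine gl_ext fun x => ?_
      simp only [mulVec_mul_GL, hT]
      simp only [map_add, map_smul, LinearMap.add_apply, LinearMap.smul_apply, smul_eq_mul, alt, h1, h3, hab,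
        hsw u (J *ᵥ u), hsw u (J' *ᵥ u), hsw (J *ᵥ u) (J' *ᵥ u), neg_zero, mul_zero, add_zero, zero_smul]
      match_scalars <;> field_simp <;> ring
    have := mul_mem (mul_mem m1 m2) (inv_mem m3)
    rwa [← key, mul_inv_cancel_right] at this
  let C : Set (ι → F) := {w | ∀ k, T w k ∈ M}
  have Tw : ∀ w k (g : GL ι F), (∀ x, (g : Matrix ι ι F) *ᵥ x = x + (k * B x w) • w) → g = T w k :=
    fun w k g hg => gl_ext fun x => by rw [hg, hT]
  have smul : ∀ (t : F), ∀ x ∈ C, t • x ∈ C := fun t w hw k => by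
    have := Tw w (k * t * t) (T (t • w) k) fun x => by
      rw [hT, map_smul, smul_eq_mul, smul_smul]; congr 2; ring
    exact this ▸ hw _
  have plane : ∀ x ∈ C, ∀ y ∈ C, B x y ≠ 0 → x + y ∈ C := by
    intro x hx y hy hxy k
    set s := T x (B y x)⁻¹ with hs'
    have hsy : (s : Matrix ι ι F) *ᵥ y = y + x := by
      rw [hs', hT, inv_mul_cancel₀ (by rw [hsw]; exact neg_ne_zero.2 hxy), one_smul]
    have e : s * T y k * s⁻¹ = T (x + y) k := by
      rw [mul_inv_eq_iff_eq_mul]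
      refine gl_ext fun z => ?_
      rw [mulVec_mul_GL, mulVec_mul_GL, hT y, hT (x + y), mulVec_add, mulVec_smul, hsy, add_comm y x]
      congr 3
      rw [← hTB x (B y x)⁻¹ z y, ← hs', hsy, add_comm y x]
    exact e ▸ mul_mem (mul_mem (hx _) (hy k)) (inv_mem (hx _))
  -- a Lagrangian decomposition
  obtain ⟨a, b, hab⟩ := Bases.exists_sq_add_sq h2 (one_ne_zero : (1 : F) ≠ 0) one_ne_zero (-1)
  set A : Matrix ι ι F := a • J + b • J' with hA
  set K : Matrix ι ι F := J * J' with hKdef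
  have hAA : A * A = 1 := by
    simp only [hA, add_mul, mul_add, Matrix.smul_mul, Matrix.mul_smul, smul_smul, hJ.1, hJ'.1, hanti]
    linear_combination (norm := module) (-hab) • (1 : Matrix ι ι F)
  have hjj : J * (J * J') = -J' := by rw [← mul_assoc, hJ.1, neg_mul, one_mul]
  have hjk : J' * (J * J') = J := by rw [← mul_assoc, hanti, neg_mul, mul_assoc, hJ'.1, mul_neg, mul_one, neg_neg]
  have hkj : J * J' * J = J' := by rw [mul_assoc, hanti, mul_neg, hjj, neg_neg]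
  have hkk : J * J' * J' = -J := by rw [mul_assoc, hJ'.1, mul_neg, mul_one]
  have hAK : A * K = -(K * A) := by
    simp only [hA, hKdef, add_mul, mul_add, Matrix.smul_mul, Matrix.mul_smul, hjj, hjk, hkj, hkk]
    module
  have hAskew : Aᵀ * Φ = -(Φ * A) := by
    simp only [hA, Matrix.transpose_add, Matrix.transpose_smul, add_mul, Matrix.smul_mul, hJ.2, hJ'.2, mul_add,
      Matrix.mul_smul]
    module
  have vA : ∀ x, A *ᵥ (A *ᵥ x) = x := fun x => by rw [mulVec_mulVec, hAA, one_mulVec]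
  have vK : ∀ x, K *ᵥ (K *ᵥ x) = -x := fun x => by rw [mulVec_mulVec, hK.1, neg_mulVec, one_mulVec]
  have vAK : ∀ x, A *ᵥ (K *ᵥ x) = -(K *ᵥ (A *ᵥ x)) := fun x => by
    rw [mulVec_mulVec, mulVec_mulVec, hAK, neg_mulVec]
  set P := LinearMap.ker (Matrix.mulVecLin A - LinearMap.id) with hP
  set N := LinearMap.ker (Matrix.mulVecLin A + LinearMap.id) with hN
  have mP : ∀ {x}, x ∈ P ↔ A *ᵥ x = x := by simp [hP, sub_eq_zero]
  have mN : ∀ {x}, x ∈ N ↔ A *ᵥ x = -x := by simp [hN, add_eq_zero_iff_eq_neg]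
  have hiso : ∀ x ∈ P, ∀ y ∈ P, B x y = 0 := fun x hx y hy => by
    have := skew A hAskew x y
    rw [mP.1 hx, mP.1 hy] at this
    refine (mul_eq_zero.1 (?_ : (2 : F) * B x y = 0)).resolve_left h2
    linear_combination this
  have hKP : ∀ x ∈ P, K *ᵥ x ∈ N := fun x hx => mN.2 (by rw [vAK, mP.1 hx])
  have hKN : ∀ x ∈ N, K *ᵥ x ∈ P := fun x hx => mP.2 (by rw [vAK, mN.1 hx, mulVec_neg, neg_neg])
  have hsup : ∀ x, ∃ p ∈ P, ∃ n ∈ N, p + n = x := fun x => by
    refine ⟨(2 : F)⁻¹ • (x + A *ᵥ x), mP.2 ?_, (2 : F)⁻¹ • (x - A *ᵥ x), mN.2 ?_, ?_⟩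
    · rw [mulVec_smul, mulVec_add, vA, add_comm]
    · rw [mulVec_smul, mulVec_sub, vA, ← smul_neg, neg_sub]
    · rw [← smul_add, show x + A *ᵥ x + (x - A *ᵥ x) = (2 : F) • x by rw [two_smul]; abel, smul_smul,
        inv_mul_cancel₀ h2, one_smul]
  have hinj : ∀ x y, K *ᵥ x = K *ᵥ y → x = y := fun x y e => by
    have := congrArg (K *ᵥ ·) e
    simp only [vK, neg_inj] at this
    exact this
  have hdim : 3 ≤ Module.finrank F P := by
    have h1 : Module.finrank F N ≤ Module.finrank F P :=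
      LinearMap.finrank_le_finrank_of_injective (f := (Matrix.mulVecLin K).restrict hKN) fun x y e =>
        Subtype.ext (hinj _ _ (congrArg Subtype.val e))
    have h3 : P ⊔ N = ⊤ := eq_top_iff.2 fun x _ => by
      obtain ⟨p, hp, n, hn', rfl⟩ := hsup x
      exact Submodule.add_mem_sup hp hn'
    have h4 := Submodule.finrank_sup_add_finrank_inf_eq P N
    rw [h3, finrank_top, Module.finrank_fintype_fun_eq_card] at h4
    omega
  let S : LinearMap.BilinForm F (ι → F) := B.compl₂ (Matrix.mulVecLin K)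
  have hSa : ∀ x y, S x y = B x (K *ᵥ y) := fun x y => rfl
  have hsym : S.IsSymm := ⟨fun x y => by
    simp only [RingHom.id_apply, hSa]; rw [hsw (K *ᵥ x) y, skew K hK.2, neg_neg]⟩
  have hnd : Bases.NondegOn S P := fun x hx hxx => nd x fun y => by
    obtain ⟨p, hp, n, hn', rfl⟩ := hsup y
    rw [map_add, hiso x hx p hp, zero_add]
    have h5 := hxx (K *ᵥ n) (hKN n hn')
    rwa [hSa, vK, map_neg, neg_eq_zero] at h5
  have hsep := SympGen.exists_isotropic h2 S hsym P hnd hdim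
  -- the centres on singular planes
  let G : Set (ι → F) := {w | ∃ p ∈ P, S p p = 0 ∧ ∃ α β : F, w = α • p + β • (K *ᵥ p)}
  have hG : G ⊆ C := by
    rintro w ⟨p, hp, hpp, α, β, rfl⟩ k
    set L := Submodule.span F ({p, K *ᵥ p} : Set (ι → F)) with hL
    have mL : ∀ {x}, x ∈ L ↔ ∃ c d : F, c • p + d • (K *ᵥ p) = x := Submodule.mem_span_pair
    have hLiso : ∀ x ∈ L, ∀ y ∈ L, B x y = 0 := by
      intro x hx y hy
      obtain ⟨c, d, rfl⟩ := mL.1 hx
      obtain ⟨c', d', rfl⟩ := mL.1 hy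
      rw [hSa] at hpp
      simp only [map_add, map_smul, LinearMap.add_apply, LinearMap.smul_apply, smul_eq_mul, alt, hpp,
        hsw p (K *ᵥ p), neg_zero, mul_zero, add_zero]
    have hAL : ∀ x ∈ L, A *ᵥ x ∈ L := by
      intro x hx
      obtain ⟨c, d, rfl⟩ := mL.1 hx
      refine mL.2 ⟨c, -d, ?_⟩
      rw [mulVec_add, mulVec_smul, mulVec_smul, vAK, mP.1 hp, smul_neg, neg_smul]
    have hKL : ∀ x ∈ L, K *ᵥ x ∈ L := by
      intro x hx
      obtain ⟨c, d, rfl⟩ := mL.1 hx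
      refine mL.2 ⟨-d, c, ?_⟩
      rw [mulVec_add, mulVec_smul, mulVec_smul, vK, smul_neg, neg_smul, add_comm]
    have eJ : J = b • (K * A) - a • A := by
      simp only [hA, hKdef, mul_add, Matrix.mul_smul, hkj, hkk]
      linear_combination (norm := module) hab • J
    have eJ' : J' = -(a • (K * A) + b • A) := by
      simp only [hA, hKdef, mul_add, Matrix.mul_smul, hkj, hkk]
      linear_combination (norm := module) hab • J'
    have hJL : ∀ x ∈ L, J *ᵥ x ∈ L := fun x hx => by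
      rw [eJ, sub_mulVec, smul_mulVec, smul_mulVec, ← mulVec_mulVec]
      exact L.sub_mem (L.smul_mem _ (hKL _ (hAL _ hx))) (L.smul_mem _ (hAL _ hx))
    have hJ'L : ∀ x ∈ L, J' *ᵥ x ∈ L := fun x hx => by
      rw [eJ', neg_mulVec, add_mulVec, smul_mulVec, smul_mulVec, ← mulVec_mulVec]
      exact L.neg_mem (L.add_mem (L.smul_mem _ (hKL _ (hAL _ hx))) (L.smul_mem _ (hAL _ hx)))
    have hw : α • p + β • (K *ᵥ p) ∈ L := mL.2 ⟨α, β, rfl⟩
    exact centre _ (hLiso _ hw _ (hJL _ hw)) (hLiso _ hw _ (hJ'L _ hw)) (hLiso _ hw _ (hKL _ hw)) k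
  have memP : ∀ p ∈ P, S p p = 0 → p ∈ G := fun p hp hpp => ⟨p, hp, hpp, 1, 0, by simp⟩
  have memK : ∀ p ∈ P, S p p = 0 → K *ᵥ p ∈ G := fun p hp hpp => ⟨p, hp, hpp, 0, 1, by simp⟩
  have hsepG : ∀ z, z ≠ 0 → ∃ c ∈ G, B z c ≠ 0 := by
    intro z hz
    obtain ⟨p, hp, n, hn', rfl⟩ := hsup z
    by_cases hn0 : n = 0
    · subst hn0
      obtain ⟨r, hr, hrr, hpr⟩ := hsep p hp (by simpa using hz)
      exact ⟨_, memK r hr hrr, by rwa [add_zero, ← hSa]⟩
    · obtain ⟨r, hr, hrr, hnr⟩ := hsep (K *ᵥ n) (hKN n hn') fun e => hn0 (hinj n 0 (by rw [e, mulVec_zero]))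
      refine ⟨r, memP r hr hrr, ?_⟩
      rw [hSa, skew K hK.2, vK, map_neg, neg_neg] at hnr
      rwa [map_add, LinearMap.add_apply, hiso p hp r hr, zero_add]
  have two_P : ∀ p ∈ P, ∀ p' ∈ P, S p p = 0 → S p' p' = 0 → p ≠ 0 → p' ≠ 0 →
      ∃ r ∈ P, S r r = 0 ∧ ((S p r ≠ 0 ∧ S p' r ≠ 0) ∨ ∃ r' ∈ P, S r' r' = 0 ∧ S p r ≠ 0 ∧ S r r' ≠ 0 ∧ S r' p' ≠ 0) := by
    intro p hp p' hp' hpp hpp' hp0 hp0'
    obtain ⟨r₁, hr₁, e₁, f₁⟩ := hsep p hp hp0
    obtain ⟨r₂, hr₂, e₂, f₂⟩ := hsep p' hp' hp0'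
    by_cases h3 : S r₁ r₂ = 0
    · by_cases h4 : S p' r₁ = 0
      · by_cases h5 : S p r₂ = 0
        · refine ⟨r₁ + r₂, P.add_mem hr₁ hr₂, ?_, Or.inl ⟨?_, ?_⟩⟩
          · simp only [map_add, LinearMap.add_apply, e₁, e₂, h3, (hsym.eq r₂ r₁).trans h3, add_zero]
          · rwa [map_add, h5, add_zero]
          · rwa [map_add, h4, zero_add]
        · exact ⟨r₂, hr₂, e₂, Or.inl ⟨h5, f₂⟩⟩
      · exact ⟨r₁, hr₁, e₁, Or.inl ⟨f₁, h4⟩⟩
    · exact ⟨r₁, hr₁, e₁, Or.inr ⟨r₂, hr₂, e₂, f₁, h3, by rw [hsym.eq r₂ p']; exact f₂⟩⟩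
  refine isoGrp_le_of_roots h2 hn hs hd hJ hJ' hanti fun X hX u huX g hg => ?_
  have hall : ∀ w, w ∈ C := by
    refine SympGen.eq_univ_of_connected B h2 alt nd C (fun k => ?_) smul plane (G \ {0})
      (Set.sdiff_subset.trans hG) (fun z hz => ?_) ?_
    · rw [show T 0 k = 1 from gl_ext fun x => by rw [hT]; simp]
      exact one_mem M
    · obtain ⟨c, hc, hzc⟩ := hsepG z hz
      exact ⟨c, ⟨hc, fun (e : c = 0) => hzc (by rw [e, map_zero])⟩, hzc⟩
    rintro c ⟨⟨p, hp, hpp, α, β, rfl⟩, hc0⟩ c' ⟨⟨p', hp', hpp', α', β', rfl⟩, hc0'⟩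
    have p0 : p ≠ 0 := fun e => hc0 (by simp [e])
    have p0' : p' ≠ 0 := fun e => hc0' (by simp [e])
    -- the pairing on two planes
    have val : ∀ (r : ι → F), r ∈ P → ∀ (q : ι → F), q ∈ P → ∀ α β γ δ : F,
        B (α • q + β • (K *ᵥ q)) (γ • r + δ • (K *ᵥ r)) = (α * δ - β * γ) * S q r := by
      intro r hr q hq α β γ δ
      simp only [map_add, map_smul, LinearMap.add_apply, LinearMap.smul_apply, smul_eq_mul, hiso q hq r hr, hSa,
        skew K hK.2, vK, map_neg]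
      ring
    have coef : ∀ α β α' β' : F, ¬ (α = 0 ∧ β = 0) → ¬ (α' = 0 ∧ β' = 0) →
        ∃ γ δ : F, α * δ - β * γ ≠ 0 ∧ γ * β' - δ * α' ≠ 0 := by
      intro α β α' β' h h'
      by_cases hβ : β = 0 <;> by_cases hβ' : β' = 0
      · exact ⟨0, 1, by simpa [hβ] using fun e => h ⟨e, hβ⟩, by simpa [hβ'] using fun e => h' ⟨e, hβ'⟩⟩
      · refine (em (α' - β' = 0)).elim (fun e => ⟨-1, 1, ?_, ?_⟩) fun e => ⟨1, 1, ?_, ?_⟩
        · simpa [hβ] using fun e => h ⟨e, hβ⟩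
        · intro e'; exact mul_ne_zero h2 hβ' (by linear_combination -e' - e)
        · simpa [hβ] using fun e => h ⟨e, hβ⟩
        · intro e'; exact e (by linear_combination -e')
      · refine (em (α - β = 0)).elim (fun e => ⟨-1, 1, ?_, ?_⟩) fun e => ⟨1, 1, ?_, ?_⟩
        · intro e'; exact mul_ne_zero h2 hβ (by linear_combination e' - e)
        · simpa [hβ'] using fun e => h' ⟨e, hβ'⟩
        · intro e'; exact e (by linear_combination e')
        · simpa [hβ'] using fun e => h' ⟨e, hβ'⟩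
      · exact ⟨1, 0, by simpa using hβ, by simpa using hβ'⟩
    have nz : ∀ {α β : F} {q : ι → F}, α • q + β • (K *ᵥ q) ≠ 0 → ¬ (α = 0 ∧ β = 0) :=
      fun hne ⟨h1, h3⟩ => hne (by simp [h1, h3])
    have nzc : ¬ (α = 0 ∧ β = 0) := nz fun e => hc0 e
    have nzc' : ¬ (α' = 0 ∧ β' = 0) := nz fun e => hc0' e
    obtain ⟨r, hr, hrr, hc⟩ := two_P p hp p' hp' hpp hpp' p0 p0'
    obtain ⟨γ, δ, g1, g2⟩ := coef α β α' β' nzc nzc'
    rcases hc with ⟨f1, f2⟩ | ⟨r', hr', hrr', f1, f2, f3⟩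
    · refine ⟨γ • r + δ • (K *ᵥ r), hG ⟨r, hr, hrr, γ, δ, rfl⟩, ?_, ?_⟩
      · rw [val r hr p hp]; exact mul_ne_zero g1 f1
      · rw [val p' hp' r hr, hsym.eq r p']; exact mul_ne_zero g2 f2
    · have n1 : ¬ (γ = 0 ∧ δ = 0) := fun ⟨e1, e2⟩ => g1 (by rw [e1, e2]; ring)
      obtain ⟨γ', δ', g3, g4⟩ := coef γ δ α' β' n1 nzc'
      have hw1 : γ • r + δ • (K *ᵥ r) ∈ C := hG ⟨r, hr, hrr, γ, δ, rfl⟩
      have hw2 : γ' • r' + δ' • (K *ᵥ r') ∈ C := hG ⟨r', hr', hrr', γ', δ', rfl⟩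
      by_cases h6 : B (γ • r + δ • (K *ᵥ r)) (α' • p' + β' • (K *ᵥ p')) = 0
      · by_cases h7 : B (α • p + β • (K *ᵥ p)) (γ' • r' + δ' • (K *ᵥ r')) = 0
        · refine ⟨_, plane _ hw1 _ hw2 (by rw [val r' hr' r hr]; exact mul_ne_zero g3 f2), ?_, ?_⟩
          · rw [map_add, h7, add_zero, val r hr p hp]; exact mul_ne_zero g1 f1
          · rw [LinearMap.map_add₂, h6, zero_add, val p' hp' r' hr']; exact mul_ne_zero g4 f3
        · exact ⟨_, hw2, h7, by rw [val p' hp' r' hr']; exact mul_ne_zero g4 f3⟩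
      · exact ⟨_, hw1, by rw [val r hr p hp]; exact mul_ne_zero g1 f1, h6⟩
  -- a cross element is a product of two transvections
  have hY : B u (X *ᵥ u) = 0 := (hB _ _).trans huX
  have hY' : B (X *ᵥ u) u = 0 := by rw [hsw, hY, neg_zero]
  have e : g = T (u + X *ᵥ u) (2 : F)⁻¹ * T (u - X *ᵥ u) (-(2 : F)⁻¹) := gl_ext fun x => by
    rw [hg, ← hB, ← hB, mulVec_mul_GL, hT, hT]
    simp only [map_add, map_sub, map_smul, LinearMap.add_apply, LinearMap.sub_apply, LinearMap.smul_apply,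
      smul_eq_mul, alt, hY, hY', sub_zero, add_zero, mul_zero, zero_smul]
    match_scalars <;> field_simp <;> ring
  exact e ▸ mul_mem (hall _ _) (hall _ _)

end Cfsg.Agent.Forms.Max.TwoGroup
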