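import Cfsg.Agent.Lib.Forms.Max.TwoGroup.RealHyp
import Cfsg.Agent.Lib.Forms.Max.TwoGroup.Maps
import Cfsg.Agent.Lib.Forms.Max.TwoGroup.Isometry

/-!
# Lifting products of two orthogonal transvections, and transitivity

With non-singular orthogonal `a`, `b` the isometry `(1 + e a)(1 - e b)/2` induces `τ a ∘ τ b`. This product is also
the commutator of two such products once there are at least 64 vectors, so groups containing the commutators of the
normalising isometries satisfy the real hypotheses, and they are transitive on the classes of the quadratic form.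
-/

set_option autoImplicit false
set_option linter.unusedSectionVars false

namespace Cfsg.Agent.Forms.Max.TwoGroup

open Matrix
open scoped commutatorElement

namespace Sys

variable {A ι F : Type*} [AddCommGroup A] [Module (ZMod 2) A] [Fintype A] [Field F] [Fintype ι] [DecidableEq ι]
  (S : Sys A ι F)

theorem τ_add (v x y : A) : S.τ v (x + y) = S.τ v x + S.τ v y := by
  simp only [τ, map_add, add_smul]; abel

theorem τ_smul (v : A) (r : ZMod 2) (x : A) : S.τ v (r • x) = r • S.τ v x := by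
  simp only [τ, map_smul, smul_add, smul_smul, smul_eq_mul]

theorem τ_fix {v x : A} (h : S.ω v x = 0) : S.τ v x = x := by rw [τ, h, zero_smul, add_zero]

theorem τ_step {v x : A} (h : S.ω v x = 1) : S.τ v x = x + v := by rw [τ, h, one_smul]

/-- the conjugate of a transvection by a transvection -/
theorem τ_conj (v w z : A) : S.τ v (S.τ w (S.τ v z)) = S.τ (S.τ v w) z := by
  have e : S.τ w (S.τ v z) = S.τ v z + S.ω w (S.τ v z) • w := rfl
  rw [e, τ_add, τ_smul, τ_τ]
  have hc : S.ω w (S.τ v z) = S.ω (S.τ v w) z := by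
    simp only [τ, map_add, map_smul, LinearMap.add_apply, LinearMap.smul_apply, smul_eq_mul]
    rw [S.ω_comm w v, mul_comm]
  rw [hc]
  rfl

theorem τ_comm {v w : A} (h : S.ω v w = 0) (z : A) : S.τ v (S.τ w z) = S.τ w (S.τ v z) := by
  have := S.τ_conj v w (S.τ v z)
  rwa [τ_τ, S.τ_fix h] at this

/-! ### Vectors -/

/-- a non-singular vector orthogonal to three given ones, two of which are not orthogonal -/
theorem exists_q_perp (hcard : 64 ≤ Fintype.card A) {a c : A} (hac : S.ω a c = 1) (b : A) :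
    ∃ z, S.ω a z = 0 ∧ S.ω b z = 0 ∧ S.ω c z = 0 ∧ S.q z = 1 := by
  classical
  have hca : S.ω c a = 1 := by rw [S.ω_comm]; exact hac
  let p : A → A := fun x => x + S.ω a x • c + S.ω c x • a
  have pa : ∀ x, S.ω a (p x) = 0 := fun x => by
    simp only [p, map_add, map_smul, smul_eq_mul, S.ω_self, hac, mul_one, mul_zero, add_zero]
    exact CharTwo.add_self_eq_zero _
  have pc : ∀ x, S.ω c (p x) = 0 := fun x => by
    simp only [p, map_add, map_smul, smul_eq_mul, S.ω_self, hca, mul_one, mul_zero, add_zero]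
    exact CharTwo.add_self_eq_zero _
  have pp : ∀ x z, S.ω a z = 0 → S.ω c z = 0 → S.ω (p x) z = S.ω x z := fun x z h1 h2 => by
    simp only [p, map_add, map_smul, LinearMap.add_apply, LinearMap.smul_apply, h1, h2, smul_zero, add_zero]
  obtain ⟨e, he⟩ : ∃ e, p b ≠ 0 → S.ω (p b) e = 1 := by
    by_cases h : p b = 0
    · exact ⟨0, fun h' => absurd h h'⟩
    · obtain ⟨e, he⟩ := S.exists_ω_one h
      exact ⟨e, fun _ => he⟩
  obtain ⟨x, y, hxy, e1⟩ := Fintype.exists_ne_map_eq_of_card_lt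
    (fun x : A => (S.ω a x, S.ω b x, S.ω c x, S.ω e x)) (by simp only [Fintype.card_prod, ZMod.card]; omega)
  simp only [Prod.mk.injEq] at e1
  obtain ⟨hza, hzb, hzc, hze⟩ : S.ω a (x + y) = 0 ∧ S.ω b (x + y) = 0 ∧ S.ω c (x + y) = 0 ∧ S.ω e (x + y) = 0 := by
    simp only [map_add, e1.1, e1.2.1, e1.2.2.1, e1.2.2.2, CharTwo.add_self_eq_zero, and_self]
  have hz0 : x + y ≠ 0 := fun h => hxy (eq_of_add_zero h)
  have hzb' : x + y ≠ p b := fun h => by
    rw [h] at hz0 hze
    rw [S.ω_comm e, he hz0] at hze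
    exact one_ne_zero hze
  obtain ⟨w₀, h1, h2⟩ := S.exists_ω_one_zero hz0 hzb'
  have hw : S.ω (x + y) (p w₀) = 1 := by
    rw [S.ω_comm, pp w₀ _ hza hzc, S.ω_comm]; exact h1
  have hwb : S.ω b (p w₀) = 0 := by
    rw [← pp b _ (pa w₀) (pc w₀), S.ω_comm, pp w₀ _ (pa b) (pc b), S.ω_comm]; exact h2
  rcases z2_cases (S.q (x + y)) with hq1 | hq1
  · rcases z2_cases (S.q (p w₀)) with hq2 | hq2
    · refine ⟨x + y + p w₀, by rw [map_add, hza, pa, add_zero], by rw [map_add, hzb, hwb, add_zero],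
        by rw [map_add, hzc, pc, add_zero], ?_⟩
      rw [S.q_add, hq1, hq2, hw, zero_add, zero_add]
    · exact ⟨_, pa w₀, hwb, pc w₀, hq2⟩
  · exact ⟨_, hza, hzb, hzc, hq1⟩

/-- a vector of given type pairing with both of two vectors -/
theorem exists_pairing_both (hcard : 64 ≤ Fintype.card A) {a b : A} (ha : a ≠ 0) (hb : b ≠ 0) (r : ZMod 2) :
    ∃ d, S.ω a d = 1 ∧ S.ω b d = 1 ∧ S.q d = r := by
  obtain ⟨d, h1, h2⟩ := S.exists_ω_one₂ ha hb
  by_cases h : S.q d = r
  · exact ⟨d, h1, h2, h⟩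
  obtain ⟨z, za, zb, zd, zq⟩ := S.exists_q_perp hcard h1 b
  refine ⟨d + z, by rw [map_add, h1, za, add_zero], by rw [map_add, h2, zb, add_zero], ?_⟩
  rw [S.q_add, zd, zq, add_zero]
  revert h
  generalize S.q d = t
  revert t r
  decide

/-! ### Lifts -/

/-- the isometry `(1 + c e a)(1 + d e b)/2` inducing two transvections -/
theorem exists_lift_pair {Φ : Matrix ι ι F} (hu : ∀ v, S.u v ∈ isoGrp (RingHom.id F) Φ) {a b : A}
    (ha : S.q a = 1) (hb : S.q b = 1) :
    ∃ g ∈ isoGrp (RingHom.id F) Φ, S.Norm g ∧ ∀ x, S.img g x = S.τ a (S.τ b x) := by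
  have hc : ∀ v, S.q v = 1 → (1 : F) * 1 * sgn F (S.q v) = -1 := fun v hv => by rw [hv, sgn_one]; ring
  have hd : ∀ v, S.q v = 1 → (-1 : F) * -1 * sgn F (S.q v) = -1 := fun v hv => by rw [hv, sgn_one]; ring
  have sim : ∀ (c : F) (v : A) (h : c * c * sgn F (S.q v) = -1), c * c = 1 →
      ((S.tv c v h : GL ι F) : Matrix ι ι F)ᵀ * Φ * (S.tv c v h : GL ι F) = (2 : F) • Φ := fun c v h h1 => by
    have hA := (Adjoint.one (σ := RingHom.id F) (Φ := Φ)).add
      (S.adjoint_smul_e (hu v) (c := c) (Or.inl h1) h (by ring))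
    unfold Adjoint at hA
    simp only [RingHom.coe_id, Matrix.map_id] at hA
    rw [S.tv_val h, hA, mul_assoc, neg_one_smul, ← sub_eq_add_neg, sub_mul, one_mul, mul_add, mul_one,
      S.smul_e_sq h, neg_one_smul, show (1 + c • S.e v - (c • S.e v + -(1 : Matrix ι ι F))) =
        (2 : F) • (1 : Matrix ι ι F) by rw [two_smul]; abel, Matrix.mul_smul, mul_one]
  refine ⟨scal (Units.mk0 (2 : F) S.two_ne)⁻¹ (S.tv 1 a (hc a ha) * S.tv (-1) b (hd b hb)), ?_, ?_, fun x => ?_⟩
  · rw [mem_isoGrp]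
    simp only [RingHom.coe_id, Matrix.map_id, scal_val, Units.val_mul, Matrix.transpose_smul, Matrix.transpose_mul,
      Matrix.smul_mul, Matrix.mul_smul, smul_smul]
    rw [show ((S.tv (-1) b (hd b hb) : GL ι F) : Matrix ι ι F)ᵀ * ((S.tv 1 a (hc a ha) : GL ι F) : Matrix ι ι F)ᵀ * Φ *
        (((S.tv 1 a (hc a ha) : GL ι F) : Matrix ι ι F) * (S.tv (-1) b (hd b hb) : GL ι F)) =
        ((S.tv (-1) b (hd b hb) : GL ι F) : Matrix ι ι F)ᵀ * (((S.tv 1 a (hc a ha) : GL ι F) : Matrix ι ι F)ᵀ * Φ *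
        (S.tv 1 a (hc a ha) : GL ι F)) * (S.tv (-1) b (hd b hb) : GL ι F) by simp only [mul_assoc],
      sim 1 a _ (one_mul 1), Matrix.mul_smul, Matrix.smul_mul, sim (-1) b _ (by ring), smul_smul, smul_smul]
    convert one_smul F Φ using 2
    rw [Units.val_inv_eq_inv_val, Units.val_mk0]
    field_simp [S.two_ne]
  · exact S.norm_scal ((S.tv_mem _).mul (S.tv_mem _)) _
  · rw [S.img_scal ((S.tv_mem _).mul (S.tv_mem _)), img_mul (S.tv_mem _) (S.tv_mem _), img_tv, img_tv]
    rfl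

theorem img_inv_eq {g : GL ι F} (hg : S.Norm g) {f f' : A → A} (hf : ∀ x, S.img g x = f x)
    (hff : ∀ x, f' (f x) = x) (x : A) : S.img g⁻¹ x = f' x := by
  have e : S.img g (S.img g⁻¹ x) = x := by rw [← img_mul hg hg.inv, mul_inv_cancel, img_one]
  rw [hf] at e
  conv_rhs => rw [← e, hff]

variable {S} {Φ : Matrix ι ι F} {H : Subgroup (GL ι F)}

/-- a group containing all normalising isometries -/
theorem rhyp_of_norm (hΦ : IsUnit Φ.det) (hu : ∀ v, S.u v ∈ isoGrp (RingHom.id F) Φ)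
    (hle : H ≤ isoGrp (RingHom.id F) Φ) (hN : isoGrp (RingHom.id F) Φ ⊓ S.norm ≤ H) : S.RHyp Φ H where
  unit := hΦ
  iso := hu
  le := hle
  u_mem v := hN ⟨hu v, S.u_mem v⟩
  lift a b ha hb _ := by
    obtain ⟨g, hg, hn, hi⟩ := S.exists_lift_pair hu ha hb
    exact ⟨g, hN ⟨hg, hn⟩, hn, hi⟩

/-- a group containing the commutators of the normalising isometries -/
theorem rhyp_of_commutators (hΦ : IsUnit Φ.det) (hu : ∀ v, S.u v ∈ isoGrp (RingHom.id F) Φ)
    (hcard : 64 ≤ Fintype.card A) (hle : H ≤ isoGrp (RingHom.id F) Φ) (huH : ∀ v, S.u v ∈ H)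
    (hcomm : ∀ x y, x ∈ isoGrp (RingHom.id F) Φ → y ∈ isoGrp (RingHom.id F) Φ → S.Norm x → S.Norm y →
      ⁅x, y⁆ ∈ H) : S.RHyp Φ H where
  unit := hΦ
  iso := hu
  le := hle
  u_mem := huH
  lift a b ha hb hab := by
    by_cases heq : a = b
    · subst heq
      exact ⟨1, H.one_mem, Norm.one, fun x => by rw [img_one, τ_τ]⟩
    have ha0 : a ≠ 0 := fun h => by rw [h, S.q_zero] at ha; exact zero_ne_one ha
    have hb0 : b ≠ 0 := fun h => by rw [h, S.q_zero] at hb; exact zero_ne_one hb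
    obtain ⟨d, had, hbd, hdq⟩ := S.exists_pairing_both hcard ha0 hb0 1
    obtain ⟨c, hca, hcb, hcd, hcq⟩ := S.exists_q_perp hcard had b
    have heq1 : S.q (a + b + d) = 1 := by
      simp only [S.q_add, map_add, LinearMap.add_apply, ha, hb, hdq, hab, had, hbd]; decide
    have hde : S.ω (a + b + d) d = 0 := by
      simp only [map_add, LinearMap.add_apply, had, hbd, S.ω_self]; decide
    obtain ⟨x, hx, hxn, hxi⟩ := S.exists_lift_pair hu ha hcq
    obtain ⟨y, hy, hyn, hyi⟩ := S.exists_lift_pair hu heq1 hdq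
    have hxi' := S.img_inv_eq hxn hxi (f' := fun z => S.τ c (S.τ a z)) fun z => by rw [τ_τ, τ_τ]
    have hyi' := S.img_inv_eq hyn hyi (f' := fun z => S.τ d (S.τ (a + b + d) z)) fun z => by rw [τ_τ, τ_τ]
    refine ⟨⁅x, y⁆, hcomm x y hx hy hxn hyn, ((hxn.mul hyn).mul hxn.inv).mul hyn.inv, fun z => ?_⟩
    rw [commutatorElement_def, img_mul ((hxn.mul hyn).mul hxn.inv) hyn.inv, img_mul (hxn.mul hyn) hxn.inv,
      img_mul hxn hyn, hxi, hyi, hxi', hyi']
    have h3 : S.ω d c = 0 := hcd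
    have h4 : S.ω (a + b + d) c = 0 := by simp only [map_add, LinearMap.add_apply, hca, hcb, hcd]; decide
    rw [S.τ_comm h3, S.τ_comm h4, S.τ_τ c, S.τ_conj d a, S.τ_conj]
    congr 1
    congr 1
    rw [S.τ_step (v := d) (x := a) (by rw [S.ω_comm]; exact had), S.τ_step (v := a + b + d) (x := a + d) (by
      simp only [map_add, LinearMap.add_apply, S.ω_self, S.ω_comm b a, S.ω_comm d a, hab, had, hbd]; decide)]
    calc a + d + (a + b + d) = b + ((a + a) + (d + d)) := by abel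
      _ = b := by rw [add_self_zero, add_self_zero, add_zero, add_zero]

/-- transitivity on the classes of the quadratic form -/
theorem RHyp.trans (hyp : S.RHyp Φ H) (hcard : 64 ≤ Fintype.card A) {a b : A} (ha : a ≠ 0) (hb : b ≠ 0)
    (hq : S.q a = S.q b) : ∃ n ∈ H, S.Norm n ∧ S.img n a = b := by
  have step : ∀ {a b : A}, S.q a = S.q b → S.ω a b = 1 → ∃ n ∈ H, S.Norm n ∧ S.img n a = b := by
    intro a b hq h
    obtain ⟨d, hda, -, hdb', hdq⟩ := S.exists_q_perp hcard h a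
    have hab1 : S.q (a + b) = 1 := by rw [S.q_add, hq, CharTwo.add_self_eq_zero, h, zero_add]
    obtain ⟨n, hn, hnn, hni⟩ := hyp.lift (a + b) d hab1 hdq
      (by rw [map_add, LinearMap.add_apply, hda, hdb', add_zero])
    refine ⟨n, hn, hnn, ?_⟩
    rw [hni, S.τ_fix (v := d) (x := a) (by rw [S.ω_comm]; exact hda), S.τ_move h]
  rcases z2_cases (S.ω a b) with h | h
  · obtain ⟨c, hc1, hc2, hcq⟩ := S.exists_pairing_both hcard ha hb (S.q a)
    obtain ⟨n, hn, hnn, hni⟩ := step hcq.symm hc1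
    obtain ⟨n', hn', hnn', hni'⟩ := step (a := c) (b := b) (hcq.trans hq) (by rw [S.ω_comm]; exact hc2)
    exact ⟨n' * n, H.mul_mem hn' hn, hnn'.mul hnn, by rw [img_mul hnn' hnn, hni, hni']⟩
  · exact step hq h

end Sys

end Cfsg.Agent.Forms.Max.TwoGroup
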