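import Cfsg.Agent.Lib.Forms.Max.TwoGroup.GenReal
import Cfsg.Agent.Lib.Forms.Max.TwoGroup.RealGenSymp
import Cfsg.Agent.Lib.Forms.Max.TwoGroup.RealLift

/-!
# The large alternative in the real kind

A group that contains the square-zero unipotent isometries commuting with the monomial of each non-singular vector
contains the commutator part of the orthogonal group for a symmetric form and the symplectic group for a skew one.
-/

set_option autoImplicit false
set_option linter.unusedSectionVars false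

namespace Cfsg.Agent.Forms.Max.TwoGroup

open Matrix

namespace Sys

variable {A F : Type*} [AddCommGroup A] [Module (ZMod 2) A] [Fintype A] [Field F] {ι : Type} [Fintype ι]
  [DecidableEq ι] {S : Sys A ι F} {Φ : Matrix ι ι F} {H : Subgroup (GL ι F)}

namespace RHyp

theorem five_le_card (hA : 64 ≤ Fintype.card A) (S : Sys A ι F) : 5 ≤ Fintype.card ι := by
  by_contra h
  have h4 : Fintype.card ι ≤ 4 := by omega
  have := Nat.mul_le_mul h4 h4
  rw [← S.card_eq] at this
  omega

theorem adjoint_e (hyp : S.RHyp Φ H) (b : A) : (S.e b)ᵀ * Φ = sgn F (S.q b) • (Φ * S.e b) := by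
  have h : (S.e b)ᵀ * Φ * S.e b = Φ := by simpa [mem_isoGrp] using hyp.iso b
  have e := congrArg (· * S.e b) h
  simp only [mul_assoc, S.e_sq, Matrix.mul_smul, mul_one] at e
  rw [← e, smul_smul, sgn_mul_self, one_smul]

theorem complex_e (hyp : S.RHyp Φ H) {a : A} (ha : S.q a = 1) :
    S.e a * S.e a = -1 ∧ (S.e a)ᵀ * Φ = -(Φ * S.e a) :=
  ⟨by rw [S.e_sq, ha, sgn_one, neg_one_smul], by rw [hyp.adjoint_e, ha, sgn_one, neg_one_smul]⟩

/-- the non-singular monomials span the skew-adjoint matrices -/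
theorem mem_span_of_skew (hyp : S.RHyp Φ H) {X : Matrix ι ι F} (hX : Xᵀ * Φ = -(Φ * X)) :
    X ∈ Submodule.span F (S.e '' {b | S.q b = 1}) := by
  have hm : X ∈ Submodule.span F (Set.range S.e) := S.span_top ▸ trivial
  obtain ⟨co, hco⟩ := (Submodule.mem_span_range_iff_exists_fun F).1 hm
  have h1 : Φ * ∑ b, (co b * (sgn F (S.q b) + 1)) • S.e b = 0 := by
    rw [← hco] at hX
    simp only [Matrix.transpose_sum, Matrix.transpose_smul, Finset.sum_mul, Matrix.smul_mul, hyp.adjoint_e,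
      smul_smul, Finset.mul_sum, Matrix.mul_smul] at hX
    simp only [Finset.mul_sum, Matrix.mul_smul, mul_add, mul_one, add_smul, Finset.sum_add_distrib, hX,
      neg_add_cancel]
  have h3 := ((Matrix.isUnit_iff_isUnit_det Φ).2 hyp.unit).mul_right_eq_zero.1 h1
  have hz := Fintype.linearIndependent_iff.1 S.indep _ h3
  rw [← hco]
  refine Submodule.sum_mem _ fun b _ => ?_
  rcases z2_cases (S.q b) with hq | hq
  · have := hz b
    rw [hq, sgn_zero, one_add_one_eq_two, mul_eq_zero, or_iff_left S.two_ne] at this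
    rw [this, zero_smul]
    exact zero_mem _
  · exact Submodule.smul_mem _ _ (Submodule.subset_span ⟨b, hq, rfl⟩)

/-- the symmetric case: the centralisers of the complex structures give the commutator part -/
theorem omega_le [Finite F] (hyp : S.RHyp Φ H) (hA : 64 ≤ Fintype.card A) (hs : Φᵀ = Φ)
    (hJ : ∀ a, S.q a = 1 → ∀ g ∈ isoGrp (RingHom.id F) Φ,
      (g : Matrix ι ι F) * S.e a = S.e a * (g : Matrix ι ι F) →
      ((g : Matrix ι ι F) - 1) * ((g : Matrix ι ι F) - 1) = 0 → g ∈ H) :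
    Cfsg.Geo.omegaGL (fun x => x ⬝ᵥ Φ *ᵥ x) ≤ H := by
  refine omega_le_of_roots S.two_ne (five_le_card hA S) hs ((Matrix.isUnit_iff_isUnit_det Φ).2 hyp.unit)
    (S.e '' {b | S.q b = 1}) ?_ (fun X => hyp.mem_span_of_skew) ?_
  · rintro _ ⟨a, ha, rfl⟩
    exact hyp.complex_e ha
  rintro _ ⟨a, ha, rfl⟩ u hu g hg
  obtain ⟨hsq, hsk⟩ := hyp.complex_e ha
  let B : LinearMap.BilinForm F (ι → F) := Matrix.toBilin' Φ
  have hB : ∀ x y, B x y = x ⬝ᵥ Φ *ᵥ y := fun x y => Matrix.toBilin'_apply' Φ x y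
  have sw : ∀ x y, B x y = B y x := fun x y => by rw [hB, hB, form_comm hs]
  have sk : ∀ x y, B (S.e a *ᵥ x) y = -B x (S.e a *ᵥ y) := fun x y => by
    rw [hB, hB, Matrix.dotProduct_mulVec, Matrix.vecMul_mulVec, ← Matrix.dotProduct_mulVec, hsk, neg_mulVec,
      dotProduct_neg, mulVec_mulVec]
  have hXX : ∀ x, S.e a *ᵥ (S.e a *ᵥ x) = -x := fun x => by rw [mulVec_mulVec, hsq, neg_mulVec, one_mulVec]
  have uu : B u u = 0 := (hB _ _).trans hu
  have uv : B u (S.e a *ᵥ u) = 0 := by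
    refine (mul_eq_zero.1 (?_ : (2 : F) * _ = 0)).resolve_left S.two_ne
    linear_combination sk u u + sw u (S.e a *ᵥ u)
  have vu : B (S.e a *ᵥ u) u = 0 := (sw _ _).trans uv
  have vv : B (S.e a *ᵥ u) (S.e a *ᵥ u) = 0 := by rw [sk, hXX, map_neg, uu, neg_zero, neg_zero]
  simp only [← hB] at hg
  refine hJ a ha g ?_ ?_ ?_
  · rw [mem_isoGrp]
    simp only [RingHom.coe_id, Matrix.map_id]
    ext i j
    have h : ∀ x y, B ((g : Matrix ι ι F) *ᵥ x) ((g : Matrix ι ι F) *ᵥ y) = B x y := fun x y => by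
      rw [hg, hg]
      simp only [map_add, map_sub, map_smul, LinearMap.add_apply, LinearMap.sub_apply, LinearMap.smul_apply,
        smul_eq_mul, uu, uv, vu, vv, sw u y, sw (S.e a *ᵥ u) y]
      ring
    have := h (Pi.single i 1) (Pi.single j 1)
    rw [hB, hB, Matrix.dotProduct_mulVec, Matrix.vecMul_mulVec, ← Matrix.dotProduct_mulVec, mulVec_mulVec] at this
    simpa using this
  · refine Matrix.ext_iff_mulVec.2 fun x => ?_
    rw [← mulVec_mulVec, ← mulVec_mulVec, hg, hg, mulVec_sub, mulVec_add, mulVec_smul, mulVec_smul, hXX, sk, sk,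
      hXX, map_neg]
    module
  · refine Matrix.ext_iff_mulVec.2 fun x => ?_
    rw [← mulVec_mulVec]
    simp only [sub_mulVec, one_mulVec, hg]
    simp [uu, uv, vu, vv, map_add, map_sub]

/-- the skew case: the centralisers of the complex structures give the symplectic group -/
theorem iso_le [Finite F] (hyp : S.RHyp Φ H) (hA : 64 ≤ Fintype.card A) (hs : Φᵀ = -Φ) {a₀ : A} (ha₀ : S.q a₀ = 1)
    (hJ : ∀ a, S.q a = 1 → ∀ g ∈ isoGrp (RingHom.id F) Φ,
      (g : Matrix ι ι F) * S.e a = S.e a * (g : Matrix ι ι F) →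
      ((g : Matrix ι ι F) - 1) * ((g : Matrix ι ι F) - 1) = 0 → g ∈ H) :
    isoGrp (RingHom.id F) Φ ≤ H := by
  have h0 : a₀ ≠ 0 := fun h => by simp [h, S.q_zero] at ha₀
  obtain ⟨b, hab, -, hb⟩ := S.exists_pairing_both hA h0 h0 1
  have hanti : S.e b * S.e a₀ = -(S.e a₀ * S.e b) := by
    rw [S.e_comm, S.ω_comm, hab, sgn_one, neg_one_smul]
  have hab' : S.q (a₀ + b) = 1 := by
    rw [S.q_add, ha₀, hb, hab]; decide
  refine isoGrp_le_of_centralisers S.two_ne (five_le_card hA S) hs ((Matrix.isUnit_iff_isUnit_det Φ).2 hyp.unit)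
    (hyp.complex_e ha₀) (hyp.complex_e hb) hanti ?_
  rintro X (rfl | rfl | rfl) g hg hc hsq
  · exact hJ _ ha₀ g hg hc hsq
  · exact hJ _ hb g hg hc hsq
  · refine hJ _ hab' g hg ?_ hsq
    rw [S.e_mul, Matrix.mul_smul, Matrix.smul_mul] at hc
    exact smul_right_injective _ (sgn_ne_zero _) hc

end RHyp

end Sys

end Cfsg.Agent.Forms.Max.TwoGroup
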