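import Cfsg.Agent.Lib.Forms.Max.TwoGroup.RealLift
import Cfsg.Agent.Lib.Forms.Max.TwoGroup.Control

/-!
# The dichotomy of the real kind

Given the alternative at one non-singular vector and the reduction at one singular vector, an overgroup normalises or
contains the unipotent isometries commuting with each monomial of square minus one.
-/

set_option autoImplicit false
set_option linter.unusedSectionVars false

namespace Cfsg.Agent.Forms.Max.TwoGroup

open Matrix

namespace Sys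

variable {A ι F : Type*} [AddCommGroup A] [Module (ZMod 2) A] [Fintype A] [Field F] [Fintype ι] [DecidableEq ι]
  {S : Sys A ι F}

theorem Norm.carries {g : GL ι F} (hg : S.Norm g) (a : A) : ∃ c, S.Carries g a (S.img g a) c := by
  obtain ⟨c, -, e⟩ := hg.img_spec a
  exact ⟨c, e⟩

theorem Norm.carries_inv {g : GL ι F} (hg : S.Norm g) (a : A) : ∃ c, S.Carries g⁻¹ (S.img g a) a c := by
  have e : S.img g⁻¹ (S.img g a) = a := by rw [← img_mul hg.inv hg, inv_mul_cancel, img_one]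
  obtain ⟨c, h⟩ := hg.inv.carries (S.img g a)
  exact ⟨c, by rwa [e] at h⟩

/-- moving a vector carried to itself -/
theorem Norm.carries_conj {n h : GL ι F} (hn : S.Norm n) {a r : A} (e : S.img n a = r)
    (hc : ∃ c, S.Carries h r r c) : ∃ c, S.Carries (n⁻¹ * h * n) a a c := by
  obtain ⟨c, hc⟩ := hc
  obtain ⟨c₁, h₁⟩ := hn.carries a
  obtain ⟨c₂, h₂⟩ := hn.carries_inv a
  rw [e] at h₁ h₂
  exact ⟨_, by simpa only [mul_assoc] using h₁.mul (hc.mul h₂)⟩

variable {Φ : Matrix ι ι F} {H : Subgroup (GL ι F)}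

/-- a pair of commuting involutions in the overgroup -/
theorem RHyp.exists_pair (hyp : S.RHyp Φ H) (hcard : 64 ≤ Fintype.card A) {a₀ : A} (ha₀ : S.q a₀ = 1) :
    ∃ (v w : A) (hp : S.Pair 1 1 v w), v ≠ 0 ∧ w ≠ 0 ∧ v ≠ w ∧ hp.pr ∈ H := by
  have a0 : a₀ ≠ 0 := fun h => by rw [h, S.q_zero] at ha₀; exact zero_ne_one ha₀
  obtain ⟨d, hd⟩ := S.exists_ω_one a0
  obtain ⟨z, za, -, zd, zq⟩ := S.exists_q_perp hcard hd a₀
  have z0 : z ≠ 0 := fun h => by rw [h, S.q_zero] at zq; exact zero_ne_one zq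
  obtain ⟨f, fa, fz, -⟩ := S.exists_pairing_both hcard a0 z0 0
  obtain ⟨z', z'z, z'a, z'f, z'q⟩ := S.exists_q_perp hcard fz a₀
  have ne_az : a₀ ≠ z := fun h => by rw [← h, S.ω_comm, hd] at zd; exact one_ne_zero zd
  have ne_z'z : z' ≠ z := fun h => by rw [h, S.ω_comm, fz] at z'f; exact one_ne_zero z'f
  have ne_z'a : z' ≠ a₀ := fun h => by rw [h, S.ω_comm, fa] at z'f; exact one_ne_zero z'f
  have o1 : S.ω a₀ z = 0 := za
  have o2 : S.ω z z' = 0 := z'z
  have o3 : S.ω a₀ z' = 0 := z'a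
  have o1' : S.ω z a₀ = 0 := by rw [S.ω_comm]; exact o1
  have o2' : S.ω z' z = 0 := by rw [S.ω_comm]; exact o2
  have o3' : S.ω z' a₀ = 0 := by rw [S.ω_comm]; exact o3
  have hv : S.q (z + z') = 0 := by rw [S.q_add, zq, z'q, o2]; decide
  have hw : S.q (a₀ + z) = 0 := by rw [S.q_add, ha₀, zq, o1]; decide
  have hp : S.Pair 1 1 (z + z') (a₀ + z) := ⟨by rw [hv, sgn_zero]; ring, by rw [hw, sgn_zero]; ring, by
    simp [map_add, S.ω_self, o1', o2', o3', add_comm]⟩
  refine ⟨z + z', a₀ + z, hp, fun h => ne_z'z (eq_of_add_zero h).symm, fun h => ne_az (eq_of_add_zero h),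
    fun h => ne_z'a (add_left_cancel (h.trans (add_comm a₀ z))), ?_⟩
  have hb : S.q (a₀ + z + z') = 1 := by
    rw [S.q_add, hw, z'q, map_add, LinearMap.add_apply, o3, o2]; decide
  obtain ⟨h₁, hh₁, n₁, i₁⟩ := hyp.lift z' z z'q zq o2'
  obtain ⟨h₂, hh₂, n₂, i₂⟩ := hyp.lift (a₀ + z + z') a₀ hb ha₀
    (by simp [map_add, S.ω_self, o1', o3'])
  refine hyp.mem_of_img ha₀ (S.pr_mem_iso hyp.iso hp (Or.inl (by simp)) (Or.inl (by simp))) hp.pr_mem
    (H.mul_mem hh₁ hh₂) (n₁.mul n₂) fun x => ?_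
  rw [hp.img_pr, img_mul n₁ n₂, i₁, i₂]
  simp only [pairMap, τ, map_add, map_smul, LinearMap.add_apply, smul_eq_mul, S.ω_self, o1, o2, o3, o1', o2', o3',
    mul_zero, add_zero, zero_add, smul_add, add_smul]
  generalize S.ω a₀ x = p
  generalize S.ω z x = r
  generalize S.ω z' x = s
  match_scalars <;> revert p r s <;> decide

/-- the dichotomy of the real kind -/
theorem RHyp.le_norm_or_centralisers [Finite F] (hyp : S.RHyp Φ H) (hcard : 64 ≤ Fintype.card A) {a₀ : A}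
    (ha₀ : S.q a₀ = 1)
    (hJ : (∀ h ∈ H, ∀ c, S.Carries h a₀ a₀ c → ∀ b, S.ω a₀ b = 0 → ∃ b' c', S.Carries h b b' c') ∨
      (∀ g ∈ isoGrp (RingHom.id F) Φ, (g : Matrix ι ι F) * S.e a₀ = S.e a₀ * (g : Matrix ι ι F) →
        ((g : Matrix ι ι F) - 1) * ((g : Matrix ι ι F) - 1) = 0 → g ∈ H))
    {z₀ : A} (hz₀ : z₀ ≠ 0) (hqz : S.q z₀ = 0)
    (hZ : (∀ r, S.q r = 1 → ∀ h ∈ H, (∃ c, S.Carries h r r c) → S.Norm h) →
      ∀ h ∈ H, (∃ c, S.Carries h z₀ z₀ c) → S.Norm h) :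
    H ≤ S.norm ∨ ∀ r, S.q r = 1 → ∀ g ∈ isoGrp (RingHom.id F) Φ,
      (g : Matrix ι ι F) * S.e r = S.e r * (g : Matrix ι ι F) →
      ((g : Matrix ι ι F) - 1) * ((g : Matrix ι ι F) - 1) = 0 → g ∈ H := by
  have ne0 : ∀ {r}, S.q r = 1 → r ≠ 0 := fun {r} hr h => by rw [h, S.q_zero] at hr; exact zero_ne_one hr
  rcases hJ with hJ | hJ
  · left
    -- the lines orthogonal to any non-singular fixed vector
    have perp : ∀ r, S.q r = 1 → ∀ h ∈ H, (∃ c, S.Carries h r r c) → ∀ b, S.ω r b = 0 →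
        ∃ b' c', S.Carries h b b' c' := by
      intro r hr h hh hc b hb
      obtain ⟨n, hnH, hn, e⟩ := hyp.trans hcard (ne0 ha₀) (ne0 hr) (ha₀.trans hr.symm)
      obtain ⟨c, hc'⟩ := hn.carries_conj e hc
      have hb' : S.ω a₀ (S.img n⁻¹ b) = 0 := by
        rw [← hn.img_ω, e, ← img_mul hn hn.inv, mul_inv_cancel, img_one, hb]
      obtain ⟨b', c', h'⟩ := hJ _ (H.mul_mem (H.mul_mem (H.inv_mem hnH) hh) hnH) c hc' _ hb'
      obtain ⟨k₁, h₁⟩ := hn.inv.carries b
      obtain ⟨k₂, h₂⟩ := hn.carries b'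
      have h3 := h₁.mul (h'.mul h₂)
      rw [show n * (n⁻¹ * h * n) * n⁻¹ = h by group] at h3
      exact ⟨_, _, h3⟩
    have cns : ∀ r, S.q r = 1 → ∀ h ∈ H, (∃ c, S.Carries h r r c) → S.Norm h := by
      intro r hr h hh hc
      obtain ⟨d, hd⟩ := S.exists_ω_one (ne0 hr)
      obtain ⟨r', hr'r, -, hr'd, hr'q⟩ := S.exists_q_perp hcard hd r
      obtain ⟨r'', c'', hr''⟩ := perp r hr h hh hc r' hr'r
      have hq'' : S.q r'' = 1 := (hyp.carry_q (hyp.le hh) hr'').symm.trans hr'q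
      obtain ⟨n, hnH, hn, e⟩ := hyp.trans hcard (ne0 hq'') (ne0 hr'q) (hq''.trans hr'q.symm)
      obtain ⟨k, hk⟩ := hn.carries r''
      rw [e] at hk
      have hfix := perp r' hr'q (n * h) (H.mul_mem hnH hh) ⟨_, hr''.mul hk⟩
      have carried : ∀ b, S.ω r b = 0 ∨ S.ω r' b = 0 → ∃ b' c', S.Carries h b b' c' := by
        rintro b (hb | hb)
        · exact perp r hr h hh hc b hb
        · obtain ⟨b', c', h'⟩ := hfix b hb
          obtain ⟨k', hk'⟩ := hn.inv.carries b'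
          have h3 := h'.mul hk'
          rw [show n⁻¹ * (n * h) = h by group] at h3
          exact ⟨_, _, h3⟩
      intro a
      rcases z2_cases (S.ω r a) with ha | ha
      · exact carried a (Or.inl ha)
      rcases z2_cases (S.ω r' a) with ha' | ha'
      · exact carried a (Or.inr ha')
      obtain ⟨b₁, c₁, h₁⟩ := carried d (Or.inr (by rw [S.ω_comm]; exact hr'd))
      obtain ⟨b₂, c₂, h₂⟩ := carried (a + d) (Or.inl (by rw [map_add, ha, hd]; decide))
      have h₃ := h₂.add h₁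
      rw [add_assoc, add_self_zero, add_zero] at h₃
      exact ⟨_, _, h₃⟩
    have hS : S.Setting (fun a => S.q a) H :=
      { u_mem := hyp.u_mem
        carry := fun h hh a b c e => hyp.carry_q (hyp.le hh) e
        trans := fun a b ha hb hq => hyp.trans hcard ha hb hq
        cent := fun a ha h hh hc => by
          rcases z2_cases (S.q a) with hq | hq
          · obtain ⟨n, hnH, hn, e⟩ := hyp.trans hcard hz₀ ha (hqz.trans hq.symm)
            obtain h' := hZ cns _ (H.mul_mem (H.mul_mem (H.inv_mem hnH) hh) hnH) (hn.carries_conj e hc)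
            have h3 := (hn.mul h').mul hn.inv
            rwa [show n * (n⁻¹ * h * n) * n⁻¹ = h by group] at h3
          · exact cns a hq h hh hc
        kind := Or.inr ⟨fun a => rfl, fun h hh a b c e => hyp.carry_sq (hyp.le hh) e⟩ }
    obtain ⟨v, w, hp, hv, hw, hvw, hmem⟩ := hyp.exists_pair hcard ha₀
    refine Setting.le_norm hS (by omega) hv hw hvw hp 1 ?_
    rwa [show scal (1 : Fˣ) hp.pr = hp.pr from Units.ext (by simp)]
  · right
    intro r hr g hg hgc hgu
    obtain ⟨n, hnH, hn, e⟩ := hyp.trans hcard (ne0 ha₀) (ne0 hr) (ha₀.trans hr.symm)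
    obtain ⟨c, hc, he⟩ := hn.img_spec a₀
    rw [e] at he
    have mem : n⁻¹ * g * n ∈ H := by
      refine hJ _ (Subgroup.mul_mem _ (Subgroup.mul_mem _ (Subgroup.inv_mem _ (hyp.le hnH)) hg) (hyp.le hnH)) ?_ ?_
      · have e1 : S.e a₀ = c • (((n⁻¹ : GL ι F) : Matrix ι ι F) * S.e r * (n : Matrix ι ι F)) := by
          rw [mul_assoc, ← Matrix.mul_smul, ← he, ← mul_assoc, Units.inv_mul, one_mul]
        rw [e1, Units.val_mul, Units.val_mul, Matrix.mul_smul, Matrix.smul_mul]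
        congr 1
        simp only [mul_assoc, Units.mul_inv_cancel_left]
        rw [← mul_assoc (g : Matrix ι ι F), hgc, mul_assoc]
      · have e2 : ((n⁻¹ * g * n : GL ι F) : Matrix ι ι F) - 1 =
            ((n⁻¹ : GL ι F) : Matrix ι ι F) * ((g : Matrix ι ι F) - 1) * (n : Matrix ι ι F) := by
          rw [Units.val_mul, Units.val_mul, mul_sub, sub_mul, mul_one, Units.inv_mul]
        rw [e2]
        simp only [mul_assoc, Units.mul_inv_cancel_left]
        rw [← mul_assoc ((g : Matrix ι ι F) - 1), hgu, zero_mul, mul_zero]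
    have := H.mul_mem (H.mul_mem hnH mem) (H.inv_mem hnH)
    rwa [show n * (n⁻¹ * g * n) * n⁻¹ = g by group] at this

end Sys

end Cfsg.Agent.Forms.Max.TwoGroup
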