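import Cfsg.Agent.Lib.Forms.Max.TwoGroup.Extract
import Cfsg.Agent.Lib.Forms.Max.Symp

/-!
# The monomial system of a 2-group of minus type inside `Sp_8`
-/

set_option autoImplicit false

namespace Cfsg.Agent.Forms.Max.TwoGroup

open Matrix

/-- the symplectic group is the isometry group of `J` -/
theorem spGL_eq_isoGrp {F : Type*} [Field F] [Fintype F] (m : ℕ) :
    Cfsg.spGL m F = isoGrp (RingHom.id F) (Matrix.J (Fin m) F) := by
  ext g
  have key : ∀ u v, Cfsg.sympForm m F ((g : Matrix _ _ F) *ᵥ u) ((g : Matrix _ _ F) *ᵥ v) =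
      u ⬝ᵥ (((g : Matrix _ _ F)ᵀ * Matrix.J (Fin m) F * (g : Matrix _ _ F)) *ᵥ v) := fun u v => by
    unfold Cfsg.sympForm
    rw [← Matrix.mulVec_mulVec, ← Matrix.mulVec_mulVec, Matrix.dotProduct_mulVec u, Matrix.vecMul_transpose]
  rw [mem_isoGrp, Cfsg.Agent.Forms.Max.Symp.mem_spGL_iff]
  simp only [Cfsg.Agent.Forms.SympStd.sympB_apply, key]
  simp only [RingHom.coe_id, Matrix.map_id]
  constructor
  · intro h
    ext i j
    have := h (Pi.single i 1) (Pi.single j 1)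
    simpa [Cfsg.sympForm] using this
  · intro h u v
    rw [h]; rfl

/-- the system of monomials of `2^{1+6}_-` in `Sp_8`, and its normaliser -/
theorem exists_sys_spEight {F : Type*} [Field F] [Fintype F] (R : Subgroup (GL (Fin 4 ⊕ Fin 4) F)) (h2 : (2 : F) ≠ 0)
    (hR : Cfsg.Geo.IsSymplecticTypeGroup 2 R) (habs : Cfsg.Geo.ActsAbsolutelyIrreducibly (Cfsg.Geo.matrixSet R))
    (hle : R ≤ Cfsg.spGL 4 F) (h128 : Nat.card R = 128) (hcen : Nat.card (Subgroup.center R) = 2)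
    (hmin : Cfsg.Geo.IsOfMinusType 3 R) :
    ∃ S : Sys (Fin (2 * 3) → ZMod 2) (Fin 4 ⊕ Fin 4) F,
      (∀ a, S.u a ∈ isoGrp (RingHom.id F) (Matrix.J (Fin 4) F)) ∧ ¬ S.Plus ∧
      Cfsg.Geo.subgroupNormalizer R ⊓ Cfsg.spGL 4 F = S.norm ⊓ isoGrp (RingHom.id F) (Matrix.J (Fin 4) F) := by
  obtain ⟨S, -, hu, hneg, hdec, hall⟩ := exists_sys_two h2 hR habs (m := 3) (by rw [h128]; norm_num) hcen
  have e := spGL_eq_isoGrp (F := F) 4
  have hiso : R ≤ isoGrp (RingHom.id F) (Matrix.J (Fin 4) F) := e ▸ hle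
  refine ⟨S, fun a => hiso (hu a), not_plus_of_minus S hneg hu hmin, ?_⟩
  have hJ : Matrix.J (Fin 4) F ≠ 0 := fun h => by
    have := congrFun (congrFun h (Sum.inl 0)) (Sum.inr 0)
    simp [Matrix.J] at this
  rw [e]
  ext g
  simp only [Subgroup.mem_inf]
  refine and_congr_left fun hg => ?_
  exact mem_normalizer_iff_two S hu (fun g hg => by obtain ⟨a, c, -, h⟩ := hdec g hg; exact ⟨a, c, h⟩) hall hJ hiso hg

end Cfsg.Agent.Forms.Max.TwoGroup
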