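import Cfsg.Agent.Lib.Forms.Max.TwoGroup.RealZ
import Cfsg.Agent.Lib.Forms.Max.TwoGroup.RealLift
import Cfsg.Agent.Lib.Forms.Max.TwoGroup.SpGlue

/-!
# From a normaliser of a 2-group to its system of monomials, in the real kind

The monomial normaliser is a proper subgroup, as an element fixing a large subspace cannot permute the monomials.
Maximality in the orthogonal and the symplectic group thus reduces to the dichotomy for overgroups.
-/

set_option autoImplicit false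
set_option linter.unusedSectionVars false

namespace Cfsg.Agent.Forms.Max.TwoGroup.RealGlue

open Matrix Module
open scoped commutatorElement

theorem two_ne_zero_of_odd {F : Type*} [Field F] [Fintype F] (h : Odd (Fintype.card F)) : (2 : F) ≠ 0 := by
  refine Ring.two_ne_zero fun h2 => ?_
  have := FiniteField.even_card_of_char_two h2
  rw [Nat.odd_iff] at h
  omega

section rank

variable {A ι F : Type*} [AddCommGroup A] [Module (ZMod 2) A] [Fintype A] [Field F] [Fintype ι]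
  [DecidableEq ι] (S : Sys A ι F)

theorem e_mulVec_cancel (a : A) {x : ι → F} (h : S.e a *ᵥ x = 0) : x = 0 :=
  (mulVec_injective_of_isUnit (S.u a).isUnit) (by rw [Sys.u_val, h, mulVec_zero])

/-- two distinct monomials agree up to a factor on at most half of the space -/
theorem two_mul_finrank_le {a b : A} (hab : a ≠ b) {c : F} {W : Submodule F (ι → F)}
    (h : ∀ x ∈ W, S.e a *ᵥ x = c • (S.e b *ᵥ x)) : 2 * finrank F W ≤ Fintype.card ι := by
  obtain ⟨w, hw⟩ := S.exists_ω_one (show a + b ≠ 0 from fun e => hab (eq_of_add_zero e))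
  rw [S.ω_comm, map_add] at hw
  have hs : sgn F (S.ω a w) = -sgn F (S.ω b w) := by
    rw [S.ω_comm w a, S.ω_comm w b] at hw
    rcases z2_cases (S.ω a w) with e | e <;> rcases z2_cases (S.ω b w) with e' | e' <;>
      rw [e, e'] at hw ⊢ <;> first | exact absurd hw (by decide) | simp
  have hinj : Function.Injective (S.e w).mulVecLin := fun x y e =>
    mulVec_injective_of_isUnit (S.u w).isUnit e
  let W' : Submodule F (ι → F) := W.map (S.e w).mulVecLin
  have hd : W ⊓ W' = ⊥ := by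
    rw [Submodule.eq_bot_iff]
    rintro _ ⟨hx, x, hxW, rfl⟩
    have h1 := h _ hx
    rw [Matrix.mulVecLin_apply, mulVec_mulVec, mulVec_mulVec, S.e_comm a w, S.e_comm b w, smul_mulVec, smul_mulVec,
      ← mulVec_mulVec, ← mulVec_mulVec, h x hxW, mulVec_smul, smul_smul, smul_smul, mul_comm c,
      hs, neg_mul, neg_smul] at h1
    have h2 : (2 : F) • ((sgn F (S.ω b w) * c) • (S.e w *ᵥ (S.e b *ᵥ x))) = 0 := by
      rw [two_smul]
      nth_rewrite 1 [← h1]
      rw [neg_add_cancel]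
    by_cases hc : c = 0
    · have h3 := h x hxW
      rw [hc, zero_smul] at h3
      rw [e_mulVec_cancel S a h3, map_zero]
    · have h4 := ((smul_eq_zero.1 ((smul_eq_zero.1 h2).resolve_left S.two_ne)).resolve_left
        (mul_ne_zero (sgn_ne_zero _) hc))
      rw [e_mulVec_cancel S b (e_mulVec_cancel S w h4), map_zero]
  have h1 := Submodule.finrank_sup_add_finrank_inf_eq W W'
  have h2 : finrank F W' = finrank F W := LinearEquiv.finrank_eq (Submodule.equivMapOfInjective _ hinj W).symm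
  have h3 := Submodule.finrank_le (W ⊔ W')
  rw [hd, finrank_bot] at h1
  rw [Module.finrank_fintype_fun_eq_card] at h3
  omega

/-- an element fixing a large subspace does not permute the monomials -/
theorem not_norm_of_fix {g : GL ι F} (hg : g ≠ 1) {t : ℕ} (W : Submodule F (ι → F))
    (hW : Fintype.card ι ≤ finrank F W + t) (hfix : ∀ x ∈ W, (g : Matrix ι ι F) *ᵥ x = x)
    (ht : 4 * t < Fintype.card ι) : ¬ S.Norm g := by
  intro hn
  by_cases himg : ∀ a, S.img g a = a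
  · obtain ⟨v, c, -, e⟩ := hn.eq_e himg
    by_cases hv : v = 0
    · rw [hv, S.e_zero] at e
      obtain ⟨x, hx, hx0⟩ := Submodule.exists_mem_ne_zero_of_ne_bot (show W ≠ ⊥ from fun h => by
        rw [h, finrank_bot] at hW; omega)
      have h1 := hfix x hx
      rw [e, smul_mulVec, one_mulVec] at h1
      have hc : c = 1 := smul_left_injective F hx0 (h1.trans (one_smul F x).symm)
      exact hg (Units.ext (by rw [e, hc, one_smul, Units.val_one]))
    · have h1 := two_mul_finrank_le S (Ne.symm hv) (c := c) (W := W) fun x hx => by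
        rw [S.e_zero, one_mulVec, ← smul_mulVec, ← e, hfix x hx]
      omega
  · push Not at himg
    obtain ⟨a, ha⟩ := himg
    obtain ⟨c, -, e⟩ := hn.img_spec a
    have hinj : Function.Injective ((S.u a)⁻¹ : GL ι F).val.mulVecLin := fun x y h =>
      mulVec_injective_of_isUnit (S.u a)⁻¹.isUnit h
    let W' : Submodule F (ι → F) := W.map ((S.u a)⁻¹ : GL ι F).val.mulVecLin
    have h1 := two_mul_finrank_le S (Ne.symm ha) (c := c) (W := W ⊓ W') fun x hx => by
      obtain ⟨hx1, y, hy, rfl⟩ := hx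
      have h2 : S.e a *ᵥ (((S.u a)⁻¹ : GL ι F).val.mulVecLin y) = y := by
        rw [Matrix.mulVecLin_apply, mulVec_mulVec, ← S.u_val, ← Units.val_mul, mul_inv_cancel, Units.val_one,
          one_mulVec]
      rw [h2]
      have h3 := congrArg (fun M => M *ᵥ (((S.u a)⁻¹ : GL ι F).val.mulVecLin y)) e
      simp only [← mulVec_mulVec, smul_mulVec, h2, hfix _ hx1, hfix y hy] at h3
      exact h3
    have h4 : finrank F W' = finrank F W := LinearEquiv.finrank_eq (Submodule.equivMapOfInjective _ hinj W).symm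
    have h5 := Submodule.finrank_sup_add_finrank_inf_eq W W'
    have h6 := Submodule.finrank_le (W ⊔ W')
    rw [Module.finrank_fintype_fun_eq_card] at h6
    omega

/-- with a non-trivial element fixing a hyperplane, some commutator with a monomial does not normalise -/
theorem exists_commutator_not_norm {r : GL ι F} (hr : r ≠ 1) (W : Submodule F (ι → F))
    (hW : Fintype.card ι ≤ finrank F W + 1) (hfix : ∀ x ∈ W, (r : Matrix ι ι F) *ᵥ x = x)
    (hn : 8 < Fintype.card ι) : ∃ a, ¬ S.Norm ⁅r, S.u a⁆ := by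
  have hne : ∃ a, ⁅r, S.u a⁆ ≠ 1 := by
    by_contra hc
    push Not at hc
    obtain ⟨c, e⟩ := S.scalar_of_comm (X := (r : Matrix ι ι F)) fun a => by
      rw [← S.u_val, ← Units.val_mul, ← Units.val_mul, commutatorElement_eq_one_iff_mul_comm.1 (hc a)]
    obtain ⟨x, hx, hx0⟩ := Submodule.exists_mem_ne_zero_of_ne_bot (show W ≠ ⊥ from fun h => by
      rw [h, finrank_bot] at hW; omega)
    have h1 := hfix x hx
    rw [e, smul_mulVec, one_mulVec] at h1
    have hc : c = 1 := smul_left_injective F hx0 (h1.trans (one_smul F x).symm)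
    exact hr (Units.ext (by rw [e, hc, one_smul, Units.val_one]))
  obtain ⟨a, ha⟩ := hne
  have hinj : Function.Injective (S.e a).mulVecLin := fun x y h =>
    mulVec_injective_of_isUnit (S.u a).isUnit h
  let W' : Submodule F (ι → F) := W.map (S.e a).mulVecLin
  refine ⟨a, not_norm_of_fix S ha (t := 2) (W ⊓ W') ?_ (fun x hx => ?_) (by omega)⟩
  · have h4 : finrank F W' = finrank F W := LinearEquiv.finrank_eq (Submodule.equivMapOfInjective _ hinj W).symm
    have h5 := Submodule.finrank_sup_add_finrank_inf_eq W W'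
    have h6 := Submodule.finrank_le (W ⊔ W')
    rw [Module.finrank_fintype_fun_eq_card] at h6
    omega
  · obtain ⟨hx1, y, hy, rfl⟩ := hx
    have hr' : ((r⁻¹ : GL ι F) : Matrix ι ι F) *ᵥ y = y := by
      conv_lhs => rw [← hfix y hy]
      rw [mulVec_mulVec, ← Units.val_mul, inv_mul_cancel, Units.val_one, one_mulVec]
    have h7 : (((S.u a)⁻¹ : GL ι F) : Matrix ι ι F) *ᵥ ((S.e a).mulVecLin y) = y := by
      rw [Matrix.mulVecLin_apply, mulVec_mulVec, ← S.u_val, ← Units.val_mul, inv_mul_cancel, Units.val_one,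
        one_mulVec]
    rw [commutatorElement_def, Units.val_mul, Units.val_mul, Units.val_mul, ← mulVec_mulVec, h7, ← mulVec_mulVec,
      hr', ← mulVec_mulVec, S.u_val]
    exact hfix _ hx1

end rank

section forms

variable {ι F : Type*} [Field F] [Fintype ι] [DecidableEq ι]

/-- isometries are tested on vectors -/
theorem mem_iso_of_forms {Φ : Matrix ι ι F} {g : GL ι F}
    (h : ∀ x y, ((g : Matrix ι ι F) *ᵥ x) ⬝ᵥ Φ *ᵥ ((g : Matrix ι ι F) *ᵥ y) = x ⬝ᵥ Φ *ᵥ y) :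
    g ∈ isoGrp (RingHom.id F) Φ := by
  rw [mem_isoGrp]
  simp only [RingHom.coe_id, Matrix.map_id]
  ext i j
  have e := h (Pi.single i 1) (Pi.single j 1)
  rw [mulVec_mulVec, Matrix.dotProduct_mulVec, ← Matrix.vecMul_transpose, Matrix.vecMul_vecMul,
    ← Matrix.dotProduct_mulVec, ← mul_assoc] at e
  simpa using e

theorem forms_of_mem_iso {Φ : Matrix ι ι F} {g : GL ι F} (hg : g ∈ isoGrp (RingHom.id F) Φ) (x y : ι → F) :
    ((g : Matrix ι ι F) *ᵥ x) ⬝ᵥ Φ *ᵥ ((g : Matrix ι ι F) *ᵥ y) = x ⬝ᵥ Φ *ᵥ y := by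
  rw [mem_isoGrp] at hg
  simp only [RingHom.coe_id, Matrix.map_id] at hg
  rw [mulVec_mulVec, Matrix.dotProduct_mulVec, ← Matrix.vecMul_transpose, Matrix.vecMul_vecMul,
    ← Matrix.dotProduct_mulVec, ← mul_assoc, hg]

/-- an element `1 + v ⊗ w` with trivial square or with `w v = -2` -/
theorem exists_rank_one (v w : ι → F) (hv : v ≠ 0) (hw : w ≠ 0) (h : w ⬝ᵥ v = 0 ∨ w ⬝ᵥ v = -2) :
    ∃ r : GL ι F, r ≠ 1 ∧ ∃ W : Submodule F (ι → F), Fintype.card ι ≤ finrank F W + 1 ∧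
      (∀ x ∈ W, (r : Matrix ι ι F) *ᵥ x = x) ∧ ∀ x, (r : Matrix ι ι F) *ᵥ x = x + (w ⬝ᵥ x) • v := by
  have key : ∀ (s : F) (x : ι → F), (1 + s • vecMulVec v w) *ᵥ x = x + (s * (w ⬝ᵥ x)) • v := fun s x => by
    rw [add_mulVec, one_mulVec, smul_mulVec]
    congr 1
    ext i
    simp [mulVec, dotProduct, vecMulVec_apply, Finset.mul_sum, Finset.sum_mul, mul_comm, mul_left_comm]
  obtain ⟨s, hs⟩ : ∃ s : F, s + 1 + s * (w ⬝ᵥ v) = 0 := by
    rcases h with h | h
    · exact ⟨-1, by rw [h]; ring⟩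
    · exact ⟨1, by rw [h]; ring⟩
  have hprod : (1 + (1 : F) • vecMulVec v w) * (1 + s • vecMulVec v w) = 1 := by
    refine Matrix.ext_iff_mulVec.2 fun x => ?_
    rw [← mulVec_mulVec, key, key, one_mul, dotProduct_add, dotProduct_smul, smul_eq_mul, add_assoc, ← add_smul,
      one_mulVec, show s * (w ⬝ᵥ x) + (w ⬝ᵥ x + s * (w ⬝ᵥ x) * (w ⬝ᵥ v)) = 0 by linear_combination (w ⬝ᵥ x) * hs,
      zero_smul, add_zero]
  let r : GL ι F := ⟨_, _, hprod, mul_eq_one_comm.1 hprod⟩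
  have hr : ∀ x, (r : Matrix ι ι F) *ᵥ x = x + (w ⬝ᵥ x) • v := fun x => (key 1 x).trans (by rw [one_mul])
  refine ⟨r, fun e => ?_, LinearMap.ker (dotProductBilin F F w), ?_, fun x hx => ?_, hr⟩
  · obtain ⟨i, hi⟩ := Function.ne_iff.1 hw
    have := hr (Pi.single i 1)
    rw [e, Units.val_one, one_mulVec, left_eq_add, dotProduct_single, mul_one] at this
    exact hv ((smul_eq_zero.1 this).resolve_left hi)
  · have h1 := LinearMap.finrank_range_add_finrank_ker (dotProductBilin F F w)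
    have h2 := Submodule.finrank_le (LinearMap.range (dotProductBilin F F w))
    rw [Module.finrank_fintype_fun_eq_card] at h1
    rw [Module.finrank_self] at h2
    omega
  · rw [LinearMap.mem_ker] at hx
    rw [hr, show w ⬝ᵥ x = 0 from hx, zero_smul, add_zero]

/-- a reflection -/
theorem exists_reflection (h2 : (2 : F) ≠ 0) {Φ : Matrix ι ι F} (hs : Φᵀ = Φ) {v : ι → F}
    (hv : v ⬝ᵥ Φ *ᵥ v ≠ 0) :
    ∃ r : GL ι F, r ∈ isoGrp (RingHom.id F) Φ ∧ r ≠ 1 ∧ ∃ W : Submodule F (ι → F),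
      Fintype.card ι ≤ finrank F W + 1 ∧ ∀ x ∈ W, (r : Matrix ι ι F) *ᵥ x = x := by
  obtain ⟨k, hk⟩ : ∃ k : F, k * (v ⬝ᵥ Φ *ᵥ v) = -2 := ⟨-2 / _, div_mul_cancel₀ _ hv⟩
  have hk0 : k ≠ 0 := fun e => by rw [e, zero_mul, zero_eq_neg] at hk; exact h2 hk
  have hc : ∀ x, (k • Φ *ᵥ v) ⬝ᵥ x = k * (x ⬝ᵥ Φ *ᵥ v) := fun x => by
    rw [smul_dotProduct, smul_eq_mul, dotProduct_comm]
  obtain ⟨r, hr1, W, hW, hfix, hr⟩ := exists_rank_one v (k • Φ *ᵥ v) (fun e => hv (by simp [e]))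
    (fun e => hv (by rw [(smul_eq_zero.1 e).resolve_left hk0, dotProduct_zero]))
    (Or.inr ((hc v).trans hk))
  refine ⟨r, mem_iso_of_forms fun x y => ?_, hr1, W, hW, hfix⟩
  have hsym : v ⬝ᵥ Φ *ᵥ y = y ⬝ᵥ Φ *ᵥ v := by
    rw [Matrix.dotProduct_mulVec, ← Matrix.mulVec_transpose, hs, dotProduct_comm]
  rw [hr, hr, hc, hc]
  simp only [mulVec_add, mulVec_smul, add_dotProduct, dotProduct_add, smul_dotProduct, dotProduct_smul, smul_eq_mul]
  linear_combination (k * (x ⬝ᵥ Φ *ᵥ v)) * hsym + (k * (x ⬝ᵥ Φ *ᵥ v) * (y ⬝ᵥ Φ *ᵥ v)) * hk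

end forms

section omega

variable {ι : Type} {F : Type*} [Field F] [Fintype ι] [DecidableEq ι]

theorem comm_mem_omega {Q : (ι → F) → F} {x y : GL ι F} (hx : x ∈ Cfsg.isometryGroup F Q)
    (hy : y ∈ Cfsg.isometryGroup F Q) : ⁅x, y⁆ ∈ Cfsg.Geo.omegaGL Q :=
  Subgroup.mem_map.2 ⟨⁅(⟨x, hx⟩ : Cfsg.isometryGroup F Q), ⟨y, hy⟩⁆,
    Subgroup.commutator_mem_commutator (Subgroup.mem_top _) (Subgroup.mem_top _), rfl⟩

theorem omega_le_isometry (Q : (ι → F) → F) : Cfsg.Geo.omegaGL Q ≤ Cfsg.isometryGroup F Q := by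
  rintro _ ⟨x, -, rfl⟩
  exact x.2

/-- the Gram matrix of a quadratic form in odd characteristic -/
theorem exists_gram (h2 : (2 : F) ≠ 0) {Q : (ι → F) → F} (hQ : Cfsg.Geo.IsNondegenerateQuadraticForm Q) :
    ∃ Φ : Matrix ι ι F, Φᵀ = Φ ∧ IsUnit Φ.det ∧ (Q = fun x => x ⬝ᵥ Φ *ᵥ x) ∧
      Cfsg.isometryGroup F Q = isoGrp (RingHom.id F) Φ := by
  let B : LinearMap.BilinForm F (ι → F) := LinearMap.mk₂ F (QuadraticMap.polar Q) hQ.polar_bilinear.add_left
    hQ.polar_bilinear.smul_left (fun v x y => hQ.polar_bilinear.add_right v x y)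
    (fun c v x => hQ.polar_bilinear.smul_right c v x)
  obtain ⟨Φ, hΦ⟩ : ∃ Φ, Φ = (2 : F)⁻¹ • LinearMap.BilinForm.toMatrix' B := ⟨_, rfl⟩
  have hB : ∀ x y, x ⬝ᵥ Φ *ᵥ y = (2 : F)⁻¹ * QuadraticMap.polar Q x y := fun x y => by
    rw [hΦ, smul_mulVec, dotProduct_smul, ← Matrix.toBilin'_apply', Matrix.toBilin'_toMatrix', smul_eq_mul]
    rfl
  have hQΦ : ∀ x, Q x = x ⬝ᵥ Φ *ᵥ x := fun x => by
    rw [hB, QuadraticMap.polar, ← two_smul F x, hQ.smul]
    field_simp
    ring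
  refine ⟨Φ, ?_, ?_, funext hQΦ, ?_⟩
  · ext i j
    have e1 := hB (Pi.single i 1) (Pi.single j 1)
    have e2 := hB (Pi.single j 1) (Pi.single i 1)
    simp at e1 e2
    rw [transpose_apply, e1, e2, QuadraticMap.polar_comm]
  · rw [← Matrix.isUnit_iff_isUnit_det, ← Matrix.mulVec_injective_iff_isUnit]
    intro x y e
    by_contra hne
    obtain ⟨z, hz⟩ := (hQ.nondegenerate (x - y) (sub_ne_zero.2 hne)).1
    refine hz ?_
    have h3 := hB z (x - y)
    rw [mulVec_sub, e, sub_self, dotProduct_zero, eq_comm] at h3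
    exact (mul_eq_zero.1 h3).resolve_left (inv_ne_zero h2)
  · ext g
    constructor
    · intro hg
      refine mem_iso_of_forms fun x y => ?_
      rw [hB, hB, QuadraticMap.polar, QuadraticMap.polar, ← mulVec_add]
      have hg' : ∀ u, Q ((g : Matrix ι ι F) *ᵥ u) = Q u := fun u => hg u u
      rw [hg', hg', hg']
    · intro hg u _
      show Q ((g : Matrix ι ι F) *ᵥ u) = Q u
      rw [hQΦ, hQΦ, forms_of_mem_iso hg]

end omega

section monomials

variable {A ι F : Type*} [AddCommGroup A] [Module (ZMod 2) A] [Fintype A] [Field F] [Fintype ι]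
  [DecidableEq ι] {S : Sys A ι F} {Φ : Matrix ι ι F}

/-- a subgroup with the commutators of the normalising isometries contains the monomials -/
theorem u_mem_of_commutators (hunit : IsUnit Φ.det) (hu : ∀ a, S.u a ∈ isoGrp (RingHom.id F) Φ)
    (hA : 16 ≤ Fintype.card A) {H : Subgroup (GL ι F)}
    (hcomm : ∀ x y, x ∈ isoGrp (RingHom.id F) Φ → y ∈ isoGrp (RingHom.id F) Φ → ⁅x, y⁆ ∈ H) (a : A) :
    S.u a ∈ H := by
  have key : ∀ p, S.q p = 1 → ∃ g ∈ H, ∃ s : F, (s = 1 ∨ s = -1) ∧ (g : Matrix ι ι F) = s • S.e p := by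
    intro p hp
    obtain ⟨q, -, hq, -, hpq, -, hne, -, -⟩ := Sys.RealZ.exists_two_partners S hA hp
    obtain ⟨b, hb1, hb2⟩ := S.exists_ω_one_zero (Sys.RealZ.ne_zero_of_q S hp) (Ne.symm hne)
    obtain ⟨n, hn, hnn, hni⟩ := S.exists_lift_pair hu hp hq
    obtain ⟨c, -, e⟩ := hnn.img_spec b
    have hc : c * c = 1 := (Sys.RealZ.rhyp hunit hu).carry_sq hn e
    rw [hni, Sys.RealZ.τ_fix S hb2, Sys.RealZ.τ_mv S hb1] at e
    refine ⟨⁅n, S.u b⁆, hcomm _ _ hn (hu b), c * sgn F (S.q b) * sgn F (S.β (b + p) b), ?_, ?_⟩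
    · rcases mul_self_eq_one_iff.1 hc with h | h <;> rcases z2_cases (S.q b) with h' | h' <;>
        rcases z2_cases (S.β (b + p) b) with h'' | h'' <;> rw [h, h', h''] <;> simp
    · rw [commutatorElement_def, Units.val_mul, Units.val_mul, Units.val_mul, Sys.u_val, e, Matrix.smul_mul,
        mul_assoc (S.e (b + p)), ← Units.val_mul n, mul_inv_cancel, Units.val_one, mul_one, Sys.u_inv_val,
        Matrix.smul_mul, Matrix.mul_smul, S.e_mul, smul_smul, smul_smul, add_comm b p, add_assoc,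
        add_self_zero, add_zero]
  have hneg : (-1 : GL ι F) ∈ H := by
    obtain ⟨p, hp⟩ := Sys.RealZ.exists_ns S hA
    obtain ⟨g, hg, s, hs, e⟩ := key p hp
    convert H.mul_mem hg hg using 1
    refine Units.ext ?_
    rw [Units.val_mul, e, Matrix.smul_mul, Matrix.mul_smul, S.e_sq, hp, sgn_one, Units.val_neg, Units.val_one]
    rcases hs with rfl | rfl <;> simp
  have sign : ∀ {g : GL ι F} {v : A} {s : F}, g ∈ H → (s = 1 ∨ s = -1) → (g : Matrix ι ι F) = s • S.e v →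
      S.u v ∈ H := by
    intro g v s hg hs e
    rcases hs with rfl | rfl
    · rwa [← (Units.ext (by rw [e, one_smul, Sys.u_val]) : g = S.u v)]
    · convert H.mul_mem hneg hg using 1
      exact Units.ext (by simp [e])
  have hns : ∀ p, S.q p = 1 → S.u p ∈ H := fun p hp => by
    obtain ⟨g, hg, s, hs, e⟩ := key p hp
    exact sign hg hs e
  by_cases ha : a = 0
  · exact sign H.one_mem (Or.inl rfl) (by rw [ha, S.e_zero, one_smul, Units.val_one])
  rcases Sys.RealZ.split S hA ha with h | ⟨x, y, hx, hy, -, rfl⟩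
  · exact hns a h
  · refine sign (H.mul_mem (hns x hx) (hns y hy)) (s := sgn F (S.β x y)) ?_ (by
      rw [Units.val_mul, Sys.u_val, Sys.u_val, S.e_mul])
    rcases z2_cases (S.β x y) with h | h <;> rw [h] <;> simp

end monomials

theorem four_le_of_card {k n : ℕ} (h : n = 2 ^ k) (hn : 13 ≤ n) : 4 ≤ k := by
  by_contra hk
  have : 2 ^ k ≤ 2 ^ 3 := Nat.pow_le_pow_right two_pos (by omega)
  omega

/-- orthogonal groups of plus type: maximality follows from the dichotomy for overgroups -/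
theorem maximal_orth_of_dichotomy {F : Type*} [Field F] [Fintype F] {n : ℕ} (hn : 13 ≤ n) (h2 : (2 : F) ≠ 0)
    (Q : (Fin n → F) → F) (hQ : Cfsg.Geo.IsNondegenerateQuadraticForm Q) (k : ℕ)
    (R : Subgroup (GL (Fin n) F)) (hR : Cfsg.Geo.IsSymplecticTypeGroup 2 R)
    (hirr : Cfsg.Geo.ActsAbsolutelyIrreducibly (Cfsg.Geo.matrixSet R)) (hRD : R ≤ Cfsg.isometryGroup F Q)
    (hcard : Nat.card R = 2 ^ (1 + 2 * k)) (hZ : Nat.card (Subgroup.center R) = 2)
    (hpt : Cfsg.Geo.IsOfPlusType k R)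
    (hdich : ∀ (S : Sys (Fin (2 * k) → ZMod 2) (Fin n) F) (Φ : Matrix (Fin n) (Fin n) F),
      4 ≤ k → S.Plus → Φᵀ = Φ → IsUnit Φ.det → (Q = fun x => x ⬝ᵥ Φ *ᵥ x) →
      Cfsg.isometryGroup F Q = isoGrp (RingHom.id F) Φ → (∀ a, S.u a ∈ Cfsg.Geo.omegaGL Q) →
      ∀ H : Subgroup (GL (Fin n) F), S.RHyp Φ H → S.norm ⊓ Cfsg.Geo.omegaGL Q ≤ H →
        H ≤ Cfsg.Geo.omegaGL Q → H ≤ S.norm ∨ Cfsg.Geo.omegaGL Q ≤ H) :
    Cfsg.Geo.IsMaximalIn (Cfsg.Geo.omegaGL Q) (Cfsg.Geo.subgroupNormalizer R ⊓ Cfsg.Geo.omegaGL Q) := by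
  obtain ⟨S, hcn, hu, -, hdec, hall⟩ := exists_sys_two h2 hR hirr hcard hZ
  rw [Fintype.card_fin] at hcn
  have hk := four_le_of_card hcn hn
  obtain ⟨Φ, hsym, hunit, hQΦ, hiso⟩ := exists_gram h2 hQ
  have hRi : R ≤ isoGrp (RingHom.id F) Φ := hiso ▸ hRD
  have huI : ∀ a, S.u a ∈ isoGrp (RingHom.id F) Φ := fun a => hRi (hu a)
  have hle : Cfsg.Geo.omegaGL Q ≤ isoGrp (RingHom.id F) Φ := hiso ▸ omega_le_isometry Q
  have hcomm : ∀ x y, x ∈ isoGrp (RingHom.id F) Φ → y ∈ isoGrp (RingHom.id F) Φ →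
      ⁅x, y⁆ ∈ Cfsg.Geo.omegaGL Q := fun x y hx hy => comm_mem_omega (hiso ▸ hx) (hiso ▸ hy)
  have hA : 256 ≤ Fintype.card (Fin (2 * k) → ZMod 2) := by
    rw [Fintype.card_fun, ZMod.card, Fintype.card_fin]
    calc 256 = 2 ^ 8 := by norm_num
      _ ≤ _ := Nat.pow_le_pow_right two_pos (by omega)
  have huO := u_mem_of_commutators hunit huI (by omega) hcomm
  have hΦ0 : Φ ≠ 0 := fun e => by
    haveI : Nonempty (Fin n) := ⟨⟨0, by omega⟩⟩
    rw [e, det_zero] at hunit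
    exact not_isUnit_zero hunit
  have hnorm : Cfsg.Geo.subgroupNormalizer R ⊓ Cfsg.Geo.omegaGL Q = S.norm ⊓ Cfsg.Geo.omegaGL Q := by
    ext g
    simp only [Subgroup.mem_inf]
    exact and_congr_left fun hg => mem_normalizer_iff_two S hu
      (fun g hg => by obtain ⟨a, c, -, h⟩ := hdec g hg; exact ⟨a, c, h⟩) hall hΦ0 hRi (hle hg)
  rw [hnorm]
  refine ⟨lt_of_le_of_ne inf_le_right fun e => ?_, fun M hM hMK => ?_⟩
  · obtain ⟨v, hv⟩ : ∃ v : Fin n → F, v ⬝ᵥ Φ *ᵥ v ≠ 0 := by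
      by_contra hc
      push Not at hc
      obtain ⟨z, hz⟩ := (hQ.nondegenerate (Pi.single ⟨0, by omega⟩ 1) (by simp)).1
      exact hz (by simp [QuadraticMap.polar, hQΦ, hc])
    obtain ⟨r, hr, hr1, W, hW, hfix⟩ := exists_reflection h2 hsym hv
    obtain ⟨a, ha⟩ := exists_commutator_not_norm S hr1 W hW hfix (by rw [Fintype.card_fin]; omega)
    exact ha (e.symm.le (hcomm r (S.u a) hr (huI a))).1
  · have hyp : S.RHyp Φ M := Sys.rhyp_of_commutators hunit huI (by omega) (hMK.trans hle)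
      (fun v => hM ⟨S.u_mem v, huO v⟩) fun x y hx hy hxn hyn =>
        hM ⟨((hxn.mul hyn).mul hxn.inv).mul hyn.inv, hcomm x y hx hy⟩
    rcases hdich S Φ hk (plus_of_plus S hdec hpt) hsym hunit hQΦ hiso huO M hyp hM hMK with h | h
    · exact Or.inl (le_antisymm (le_inf h hMK) hM)
    · exact Or.inr (le_antisymm hMK h)

/-- symplectic groups: maximality follows from the dichotomy for overgroups -/
theorem maximal_symp_of_dichotomy {F : Type*} [Field F] [Fintype F] (m : ℕ) (hm : 7 ≤ m) (h2 : (2 : F) ≠ 0)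
    (k : ℕ) (R : Subgroup (GL (Fin m ⊕ Fin m) F)) (hR : Cfsg.Geo.IsSymplecticTypeGroup 2 R)
    (hirr : Cfsg.Geo.ActsAbsolutelyIrreducibly (Cfsg.Geo.matrixSet R)) (hRD : R ≤ Cfsg.spGL m F)
    (hcard : Nat.card R = 2 ^ (1 + 2 * k)) (hZ : Nat.card (Subgroup.center R) = 2)
    (hminus : Cfsg.Geo.IsOfMinusType k R)
    (hdich : ∀ (S : Sys (Fin (2 * k) → ZMod 2) (Fin m ⊕ Fin m) F), 4 ≤ k → ¬ S.Plus →
      ∀ H : Subgroup (GL (Fin m ⊕ Fin m) F), S.RHyp (Matrix.J (Fin m) F) H →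
        S.norm ⊓ isoGrp (RingHom.id F) (Matrix.J (Fin m) F) ≤ H →
        H ≤ S.norm ∨ isoGrp (RingHom.id F) (Matrix.J (Fin m) F) ≤ H) :
    Cfsg.Geo.IsMaximalIn (Cfsg.spGL m F) (Cfsg.Geo.subgroupNormalizer R ⊓ Cfsg.spGL m F) := by
  obtain ⟨S, hcn, hu, hneg, hdec, hall⟩ := exists_sys_two h2 hR hirr hcard hZ
  rw [Fintype.card_sum, Fintype.card_fin] at hcn
  have hk := four_le_of_card hcn (by omega)
  rw [spGL_eq_isoGrp] at hRD ⊢
  set Φ := Matrix.J (Fin m) F with hΦ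
  have huI : ∀ a, S.u a ∈ isoGrp (RingHom.id F) Φ := fun a => hRD (hu a)
  have hΦsq : Φ * (-Φ) = 1 := by rw [hΦ, mul_neg, Matrix.J_squared, neg_neg]
  have hunit : IsUnit Φ.det := (Matrix.isUnit_iff_isUnit_det _).1 ⟨⟨Φ, -Φ, hΦsq, mul_eq_one_comm.1 hΦsq⟩, rfl⟩
  have hΦ0 : Φ ≠ 0 := fun e => by
    haveI : Nonempty (Fin m ⊕ Fin m) := ⟨Sum.inl ⟨0, by omega⟩⟩
    rw [e, det_zero] at hunit
    exact not_isUnit_zero hunit
  have hnorm : Cfsg.Geo.subgroupNormalizer R ⊓ isoGrp (RingHom.id F) Φ = S.norm ⊓ isoGrp (RingHom.id F) Φ := by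
    ext g
    simp only [Subgroup.mem_inf]
    exact and_congr_left fun hg => mem_normalizer_iff_two S hu
      (fun g hg => by obtain ⟨a, c, -, h⟩ := hdec g hg; exact ⟨a, c, h⟩) hall hΦ0 hRD hg
  rw [hnorm]
  refine ⟨lt_of_le_of_ne inf_le_right fun e => ?_, fun M hM hMK => ?_⟩
  · obtain ⟨v, hv⟩ : ∃ v : Fin m ⊕ Fin m → F, Φ *ᵥ v ≠ 0 :=
      ⟨Pi.single (Sum.inl ⟨0, by omega⟩) 1, fun h => by
        have := congrFun h (Sum.inr ⟨0, by omega⟩)
        simp [hΦ, Matrix.J] at this⟩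
    have hskew : ∀ x y, x ⬝ᵥ Φ *ᵥ y = -(y ⬝ᵥ Φ *ᵥ x) := fun x y => by
      rw [Matrix.dotProduct_mulVec, ← Matrix.mulVec_transpose, hΦ, Matrix.J_transpose, neg_mulVec, neg_dotProduct,
        dotProduct_comm]
    have hvv : (Φ *ᵥ v) ⬝ᵥ v = 0 := by
      have h := hskew v v
      rw [dotProduct_comm]
      refine (mul_eq_zero.1 (?_ : (2 : F) * (v ⬝ᵥ Φ *ᵥ v) = 0)).resolve_left h2
      linear_combination h
    obtain ⟨r, hr1, W, hW, hfix, hr⟩ :=
      exists_rank_one v (Φ *ᵥ v) (fun h => hv (by rw [h, mulVec_zero])) hv (Or.inl hvv)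
    have hri : r ∈ isoGrp (RingHom.id F) Φ := mem_iso_of_forms fun x y => by
      have h1 := hskew v y
      have h0 : v ⬝ᵥ Φ *ᵥ v = 0 := by rw [dotProduct_comm]; exact hvv
      rw [hr, hr, dotProduct_comm (Φ *ᵥ v) x, dotProduct_comm (Φ *ᵥ v) y]
      simp only [mulVec_add, mulVec_smul, add_dotProduct, dotProduct_add, smul_dotProduct, dotProduct_smul,
        smul_eq_mul]
      linear_combination (x ⬝ᵥ Φ *ᵥ v) * h1 + ((x ⬝ᵥ Φ *ᵥ v) * (y ⬝ᵥ Φ *ᵥ v)) * h0
    obtain ⟨a, ha⟩ := exists_commutator_not_norm S hr1 W hW hfix (by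
      rw [Fintype.card_sum, Fintype.card_fin]; omega)
    refine ha ((?_ : ⁅r, S.u a⁆ ∈ S.norm ⊓ isoGrp (RingHom.id F) Φ).1)
    rw [e, commutatorElement_def]
    exact mul_mem (mul_mem (mul_mem hri (huI a)) (inv_mem hri)) (inv_mem (huI a))
  · have hyp : S.RHyp Φ M := Sys.rhyp_of_norm hunit huI hMK (inf_comm (isoGrp (RingHom.id F) Φ) S.norm ▸ hM)
    rcases hdich S hk (not_plus_of_minus S hneg hu hminus) M hyp hM with h | h
    · exact Or.inl (le_antisymm (le_inf h hMK) hM)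
    · exact Or.inr (le_antisymm hMK h)

end Cfsg.Agent.Forms.Max.TwoGroup.RealGlue
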