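import Cfsg.Agent.Lib.Forms.Max.TwoGroup.Setting
import Cfsg.Agent.Lib.Forms.Max.TwoGroup.Transvec

/-!
# The real kind

Monomials that are isometries of a bilinear form. An overgroup is given by containing the monomials and, for each
orthogonal pair of non-singular vectors, an element inducing the product of the two transvections.
-/

set_option autoImplicit false
set_option linter.unusedSectionVars false

namespace Cfsg.Agent.Forms.Max.TwoGroup

open Matrix

namespace Sys

variable {A ι F : Type*} [AddCommGroup A] [Module (ZMod 2) A] [Fintype A] [Field F] [Fintype ι] [DecidableEq ι]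

/-- the hypotheses on an overgroup in the real kind -/
structure RHyp (S : Sys A ι F) (Φ : Matrix ι ι F) (H : Subgroup (GL ι F)) : Prop where
  unit : IsUnit Φ.det
  iso : ∀ a, S.u a ∈ isoGrp (RingHom.id F) Φ
  le : H ≤ isoGrp (RingHom.id F) Φ
  u_mem : ∀ a, S.u a ∈ H
  lift : ∀ a b, S.q a = 1 → S.q b = 1 → S.ω a b = 0 →
    ∃ h ∈ H, S.Norm h ∧ ∀ x, S.img h x = S.τ a (S.τ b x)

namespace RHyp

variable {S : Sys A ι F} {Φ : Matrix ι ι F} {H : Subgroup (GL ι F)}

theorem scalar_sq (hyp : S.RHyp Φ H) {g : GL ι F} (hg : g ∈ isoGrp (RingHom.id F) Φ) {c : F}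
    (hc : (g : Matrix ι ι F) = c • 1) : c * c = 1 := by
  rw [mem_isoGrp, hc] at hg
  simp only [RingHom.coe_id, Matrix.map_id, Matrix.transpose_smul, Matrix.transpose_one, Matrix.smul_mul, one_mul,
    Matrix.mul_smul, mul_one, smul_smul] at hg
  have h0 : (c * c - 1) • Φ = 0 := by rw [sub_smul, hg, one_smul, sub_self]
  have := S.nonempty
  exact sub_eq_zero.1 ((smul_eq_zero.1 h0).resolve_right fun e => not_isUnit_zero (M₀ := F)
    (by simpa [e, Matrix.det_zero] using hyp.unit))

/-- proportionality factors have square one -/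
theorem carry_sq (hyp : S.RHyp Φ H) {h : GL ι F} (hh : h ∈ isoGrp (RingHom.id F) Φ) {a b : A} {c : F}
    (e : S.Carries h a b c) : c * c = 1 := by
  refine hyp.scalar_sq (g := h * S.u a * h⁻¹ * (S.u b)⁻¹) ?_ ?_
  · exact Subgroup.mul_mem _ (Subgroup.mul_mem _ (Subgroup.mul_mem _ hh (hyp.iso a)) (Subgroup.inv_mem _ hh))
      (Subgroup.inv_mem _ (hyp.iso b))
  · have e' : (h : Matrix ι ι F) * S.e a = c • (S.e b * (h : Matrix ι ι F)) := e
    have e1 : ((h * S.u a * h⁻¹ : GL ι F) : Matrix ι ι F) = c • S.e b := by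
      rw [Units.val_mul, Units.val_mul, u_val, e', Matrix.smul_mul, mul_assoc, ← Units.val_mul, mul_inv_cancel,
        Units.val_one, mul_one]
    rw [Units.val_mul, e1, u_inv_val, Matrix.smul_mul, Matrix.mul_smul, S.e_sq, smul_smul, smul_smul,
      mul_assoc, sgn_mul_self, mul_one]

/-- the quadratic form is kept -/
theorem carry_q (hyp : S.RHyp Φ H) {h : GL ι F} (hh : h ∈ isoGrp (RingHom.id F) Φ) {a b : A} {c : F}
    (e : S.Carries h a b c) : S.q a = S.q b := by
  have e' : (h : Matrix ι ι F) * S.e a = c • (S.e b * (h : Matrix ι ι F)) := e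
  have h2 : (h : Matrix ι ι F) * (S.e a * S.e a) = (c * c) • (S.e b * S.e b * (h : Matrix ι ι F)) := by
    rw [← mul_assoc, e', Matrix.smul_mul, mul_assoc, e', Matrix.mul_smul, smul_smul, ← mul_assoc]
  rw [S.e_sq, S.e_sq, hyp.carry_sq hh e, one_smul, Matrix.mul_smul, Matrix.smul_mul, mul_one, one_mul] at h2
  by_contra hne
  have h3 : (sgn F (S.q a) - sgn F (S.q b)) • (h : Matrix ι ι F) = 0 := by rw [sub_smul, h2, sub_self]
  have := S.nonempty
  exact hne (sgn_inj S.two_ne (sub_eq_zero.1 ((smul_eq_zero.1 h3).resolve_right h.ne_zero)))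

theorem neg_one_mem (hyp : S.RHyp Φ H) {b : A} (hb : S.q b = 1) : (-1 : GL ι F) ∈ H := by
  have e : S.u b * S.u b = -1 := Units.ext (by simp [S.e_sq, hb])
  exact e ▸ H.mul_mem (hyp.u_mem b) (hyp.u_mem b)

/-- an isometry with the image of an element of `H` lies in `H` -/
theorem mem_of_img (hyp : S.RHyp Φ H) {b : A} (hb : S.q b = 1) {g h : GL ι F}
    (hg : g ∈ isoGrp (RingHom.id F) Φ) (hgn : S.Norm g) (hh : h ∈ H) (hhn : S.Norm h)
    (he : ∀ x, S.img g x = S.img h x) : g ∈ H := by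
  obtain ⟨v, c, -, hv⟩ := (hhn.inv.mul hgn).eq_e fun x => by
    rw [img_mul hhn.inv hgn, he, ← img_mul hhn.inv hhn, inv_mul_cancel, img_one]
  have hc : c * c = 1 := by
    refine hyp.scalar_sq (g := h⁻¹ * g * (S.u v)⁻¹) (Subgroup.mul_mem _ (Subgroup.mul_mem _
      (Subgroup.inv_mem _ (hyp.le hh)) hg) (Subgroup.inv_mem _ (hyp.iso v))) ?_
    rw [Units.val_mul, hv, u_inv_val, Matrix.smul_mul, Matrix.mul_smul, S.e_sq, smul_smul, smul_smul,
      mul_assoc, sgn_mul_self, mul_one]
  have hg' : g = h * (h⁻¹ * g) := by group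
  rw [hg']
  refine H.mul_mem hh ?_
  rcases mul_self_eq_one_iff.1 hc with rfl | rfl
  · rw [show h⁻¹ * g = S.u v from Units.ext (by rw [hv, one_smul, u_val])]
    exact hyp.u_mem v
  · rw [show h⁻¹ * g = -1 * S.u v from Units.ext (by rw [hv]; simp)]
    exact H.mul_mem (hyp.neg_one_mem hb) (hyp.u_mem v)

end RHyp

end Sys

end Cfsg.Agent.Forms.Max.TwoGroup
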