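import Cfsg.Agent.Lib.Forms.Max.TwoGroup.RealHyp
import Cfsg.Agent.Lib.Forms.Max.TwoGroup.Kind

/-!
# The centraliser of the complex structure

In a doubled real system the element of the distinguished vector is a complex structure. Its centraliser among the
isometries is the full linear or unitary group over the field with a square root of `-1`, and the complex dichotomy
shows that either the centraliser in the overgroup permutes the monomials commuting with the structure, or the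
overgroup contains every unipotent isometry of square zero commuting with it.
-/

set_option autoImplicit false
set_option linter.unusedSectionVars false
set_option linter.style.haveILetI false

namespace Cfsg.Agent.Forms.Max.TwoGroup

open Matrix
open scoped commutatorElement

namespace Cent

variable {ι F E : Type*} [Field F] [Field E] [Fintype ι] [DecidableEq ι]

/-- the complex structure -/
abbrev jm : Matrix (ι ⊕ ι) (ι ⊕ ι) F := blk rot2 1

theorem jm_eq : (jm : Matrix (ι ⊕ ι) (ι ⊕ ι) F) = fromBlocks 0 (-1) 1 0 := by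
  simp [jm, blk, rot2]

theorem jm_sq : (jm : Matrix (ι ⊕ ι) (ι ⊕ ι) F) * jm = -1 := by
  rw [jm_eq, fromBlocks_multiply, ← fromBlocks_one, fromBlocks_neg]; simp

theorem jm_transpose : (jm : Matrix (ι ⊕ ι) (ι ⊕ ι) F)ᵀ = -jm := by
  rw [jm_eq, fromBlocks_transpose, fromBlocks_neg]; simp

theorem comm_blocks {X : Matrix (ι ⊕ ι) (ι ⊕ ι) F} (h : X * jm = jm * X) :
    X.toBlocks₁₂ = -X.toBlocks₂₁ ∧ X.toBlocks₂₂ = X.toBlocks₁₁ := by
  rw [jm_eq, ← fromBlocks_toBlocks X, fromBlocks_multiply, fromBlocks_multiply, fromBlocks_inj] at h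
  simp only [mul_zero, zero_mul, mul_one, one_mul, mul_neg, neg_mul, add_zero, zero_add] at h
  exact ⟨h.1, h.2.2.1⟩

theorem eq_blocks {X : Matrix (ι ⊕ ι) (ι ⊕ ι) F} (h : X * jm = jm * X) :
    X = fromBlocks X.toBlocks₁₁ (-X.toBlocks₂₁) X.toBlocks₂₁ X.toBlocks₁₁ := by
  obtain ⟨h1, h2⟩ := comm_blocks h
  conv_lhs => rw [← fromBlocks_toBlocks X, h1, h2]

theorem comm_fromBlocks (P Q : Matrix ι ι F) :
    fromBlocks P (-Q) Q P * jm = jm * fromBlocks P (-Q) Q P := by
  rw [jm_eq, fromBlocks_multiply, fromBlocks_multiply]; simp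

theorem comm_transpose {X : Matrix (ι ⊕ ι) (ι ⊕ ι) F} (h : X * jm = jm * X) : Xᵀ * jm = jm * Xᵀ := by
  have := congrArg Matrix.transpose h
  rw [transpose_mul, transpose_mul, jm_transpose, neg_mul, mul_neg, neg_inj] at this
  exact this.symm

theorem comm_mul {X Y : Matrix (ι ⊕ ι) (ι ⊕ ι) F} (h : X * jm = jm * X) (h' : Y * jm = jm * Y) :
    X * Y * jm = jm * (X * Y) := by
  rw [mul_assoc, h', ← mul_assoc, h, mul_assoc]

/-- the matrix over the extension -/
def cm (f : F →+* E) (i : E) (X : Matrix (ι ⊕ ι) (ι ⊕ ι) F) : Matrix ι ι E :=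
  X.toBlocks₁₁.map f + i • X.toBlocks₂₁.map f

variable {f : F →+* E} {i : E}

theorem cm_mul (hi : i * i = -1) {X : Matrix (ι ⊕ ι) (ι ⊕ ι) F} (h : X * jm = jm * X)
    (Y : Matrix (ι ⊕ ι) (ι ⊕ ι) F) : cm f i (X * Y) = cm f i X * cm f i Y := by
  obtain ⟨h1, h2⟩ := comm_blocks h
  have e : X * Y = fromBlocks (X.toBlocks₁₁ * Y.toBlocks₁₁ + X.toBlocks₁₂ * Y.toBlocks₂₁)
      (X.toBlocks₁₁ * Y.toBlocks₁₂ + X.toBlocks₁₂ * Y.toBlocks₂₂)
      (X.toBlocks₂₁ * Y.toBlocks₁₁ + X.toBlocks₂₂ * Y.toBlocks₂₁)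
      (X.toBlocks₂₁ * Y.toBlocks₁₂ + X.toBlocks₂₂ * Y.toBlocks₂₂) := by
    conv_lhs => rw [← fromBlocks_toBlocks X, ← fromBlocks_toBlocks Y, fromBlocks_multiply]
  have hn : ∀ Z : Matrix ι ι F, (-Z).map f = -(Z.map f) := fun Z => by ext a b; simp
  rw [e, h1, h2]
  simp only [cm, hn, toBlocks_fromBlocks₁₁, toBlocks_fromBlocks₂₁, Matrix.map_add f (map_add f),
    Matrix.map_mul, neg_mul, add_mul, mul_add, Matrix.smul_mul, Matrix.mul_smul, smul_smul, hi, smul_add,
    neg_smul, one_smul]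
  abel

theorem cm_smul (c : F) (X : Matrix (ι ⊕ ι) (ι ⊕ ι) F) : cm f i (c • X) = f c • cm f i X := by
  ext a b
  simp [cm, toBlocks₁₁, toBlocks₂₁, mul_add, mul_left_comm]

theorem cm_sub (X Y : Matrix (ι ⊕ ι) (ι ⊕ ι) F) : cm f i (X - Y) = cm f i X - cm f i Y := by
  ext a b
  simp [cm, toBlocks₁₁, toBlocks₂₁]
  ring

theorem cm_zero : cm f i (0 : Matrix (ι ⊕ ι) (ι ⊕ ι) F) = 0 := by
  ext a b
  simp [cm, toBlocks₁₁, toBlocks₂₁]

theorem cm_one : cm f i (1 : Matrix (ι ⊕ ι) (ι ⊕ ι) F) = 1 := by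
  ext a b
  simp [cm, toBlocks₁₁, toBlocks₂₁, Matrix.one_apply, apply_ite f]

theorem cm_blk_one (Y : Matrix ι ι F) : cm f i (blk 1 Y) = Y.map f := by
  simp [cm, blk]

theorem cm_blk_rot (Y : Matrix ι ι F) : cm f i (blk rot2 Y) = i • Y.map f := by
  simp [cm, blk, rot2]

theorem cm_transpose {X : Matrix (ι ⊕ ι) (ι ⊕ ι) F} (h : X * jm = jm * X) :
    cm f i Xᵀ = (cm f (-i) X)ᵀ := by
  conv_lhs => rw [eq_blocks h, fromBlocks_transpose]
  ext a b
  simp [cm]

/-- an isometry gives a pair of mutually inverse matrices -/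
theorem cm_inverse (hi : i * i = -1) {X : Matrix (ι ⊕ ι) (ι ⊕ ι) F} (h : X * jm = jm * X) (hX : Xᵀ * X = 1) :
    (cm f (-i) X)ᵀ * cm f i X = 1 := by
  rw [← cm_transpose h, ← cm_mul hi (comm_transpose h), hX, cm_one]

theorem ext_cm (h2 : (2 : F) ≠ 0) (hi : i * i = -1) {X Y : Matrix (ι ⊕ ι) (ι ⊕ ι) F} (hX : X * jm = jm * X)
    (hY : Y * jm = jm * Y) (e : cm f i X = cm f i Y) (e' : cm f (-i) X = cm f (-i) Y) : X = Y := by
  have h2E : (2 : E) ≠ 0 := by rw [← map_ofNat f 2]; exact fun h => h2 (f.injective (h.trans (map_zero f).symm))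
  have hi0 : i ≠ 0 := fun h => by rw [h, mul_zero] at hi; exact one_ne_zero (neg_eq_zero.1 hi.symm)
  have key : ∀ a b, X.toBlocks₁₁ a b = Y.toBlocks₁₁ a b ∧ X.toBlocks₂₁ a b = Y.toBlocks₂₁ a b := by
    intro a b
    have h1 := congrFun (congrFun e a) b
    have h1' := congrFun (congrFun e' a) b
    simp only [cm, Matrix.add_apply, Matrix.smul_apply, Matrix.map_apply, smul_eq_mul, neg_mul] at h1 h1'
    exact ⟨f.injective (mul_left_cancel₀ h2E (by linear_combination h1 + h1')),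
      f.injective (mul_left_cancel₀ (mul_ne_zero h2E hi0) (by linear_combination h1 - h1'))⟩
  rw [eq_blocks hX, eq_blocks hY, show X.toBlocks₁₁ = Y.toBlocks₁₁ from Matrix.ext fun a b => (key a b).1,
    show X.toBlocks₂₁ = Y.toBlocks₂₁ from Matrix.ext fun a b => (key a b).2]

/-- isometries commuting with the structure are determined by their matrix over the extension -/
theorem iso_ext (h2 : (2 : F) ≠ 0) (hi : i * i = -1) {X Y : Matrix (ι ⊕ ι) (ι ⊕ ι) F} (hX : X * jm = jm * X)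
    (hY : Y * jm = jm * Y) (hXi : Xᵀ * X = 1) (hYi : Yᵀ * Y = 1) (e : cm f i X = cm f i Y) : X = Y := by
  refine ext_cm h2 hi hX hY e (Matrix.transpose_inj.1 ?_)
  have h1 := cm_inverse (f := f) hi hX hXi
  have h1' := cm_inverse (f := f) hi hY hYi
  rw [← e] at h1'
  exact left_inv_eq_right_inv h1 ((mul_eq_one_comm.1 h1'))

/-- the structure as a unit -/
def jmU : GL (ι ⊕ ι) F where
  val := jm
  inv := -jm
  val_inv := by rw [mul_neg, jm_sq, neg_neg]
  inv_val := by rw [neg_mul, jm_sq, neg_neg]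

/-- the orthogonal matrices commuting with the structure -/
def cj : Subgroup (GL (ι ⊕ ι) F) :=
  isoGrp (RingHom.id F) 1 ⊓ Subgroup.centralizer ({jmU} : Set (GL (ι ⊕ ι) F))

theorem mem_cj {g : GL (ι ⊕ ι) F} : g ∈ cj ↔ g.valᵀ * g.val = 1 ∧ g.val * jm = jm * g.val := by
  rw [cj, Subgroup.mem_inf, Subgroup.mem_centralizer_singleton_iff, mem_isoGrp, Units.ext_iff]
  simp [jmU]

theorem iso_iff {Φ : Matrix (ι ⊕ ι) (ι ⊕ ι) F} (hΦ : Φ = 1 ∨ Φ = jm) {g : GL (ι ⊕ ι) F}
    (hg : g.val * jm = jm * g.val) : g ∈ isoGrp (RingHom.id F) Φ ↔ g.valᵀ * g.val = 1 := by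
  rw [mem_isoGrp]
  rcases hΦ with rfl | rfl
  · simp
  · simp only [RingHom.coe_id, Matrix.map_id]
    rw [mul_assoc, ← hg, ← mul_assoc]
    exact ⟨fun h => (jmU.isUnit.mul_left_inj).1 (h.trans (one_mul _).symm), fun h => by rw [h, one_mul]⟩

/-- the homomorphism to the group over the extension -/
def cmHom (f : F →+* E) (hi : i * i = -1) : (cj : Subgroup (GL (ι ⊕ ι) F)) →* GL ι E :=
  MonoidHom.toHomUnits
    { toFun := fun g => cm f i g.1.val
      map_one' := cm_one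
      map_mul' := fun g h => cm_mul hi (mem_cj.1 g.2).2 _ }

@[simp] theorem cmHom_val (hi : i * i = -1) (g : (cj : Subgroup (GL (ι ⊕ ι) F))) :
    (cmHom f hi g : Matrix ι ι E) = cm f i g.1.val := rfl

/-- the extension with its square root of `-1` -/
structure Ext (f : F →+* E) (σ : E →+* E) (i : E) (Ψ : Matrix ι ι E) : Prop where
  sq : i * i = -1
  fix : ∀ x, σ (f x) = f x
  kind : (Ψ = 0 ∧ ∀ x, ∃ y, f y = x) ∨ (Ψ = 1 ∧ σ i = -i ∧ ∀ x, σ x = x → ∃ y, f y = x)

variable {σ : E →+* E} {Ψ : Matrix ι ι E}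

theorem Ext.cm_map (hx : Ext f σ i Ψ) (hσi : σ i = -i) (X : Matrix (ι ⊕ ι) (ι ⊕ ι) F) :
    (cm f i X).map σ = cm f (-i) X := by
  ext a b
  simp [cm, hx.fix, hσi]

theorem Ext.cmHom_mem (hx : Ext f σ i Ψ) (g : (cj : Subgroup (GL (ι ⊕ ι) F))) :
    cmHom f hx.sq g ∈ isoGrp σ Ψ := by
  rcases hx.kind with ⟨rfl, -⟩ | ⟨rfl, hσi, -⟩
  · rw [isoGrp_zero]; trivial
  · rw [mem_isoGrp, mul_one, cmHom_val, hx.cm_map hσi]
    exact cm_inverse hx.sq (mem_cj.1 g.2).2 (mem_cj.1 g.2).1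

theorem Ext.exists_preimage (hx : Ext f σ i Ψ) (h2 : (2 : F) ≠ 0) {U : GL ι E} (hU : U ∈ isoGrp σ Ψ) :
    ∃ g, cmHom f hx.sq g = U := by
  have h2E : (2 : E) ≠ 0 := by rw [← map_ofNat f 2]; exact fun h => h2 (f.injective (h.trans (map_zero f).symm))
  have hi0 : i ≠ 0 := fun h => by
    have := hx.sq; rw [h, mul_zero] at this; exact one_ne_zero (neg_eq_zero.1 this.symm)
  set V : Matrix ι ι E := ((U⁻¹ : GL ι E) : Matrix ι ι E)ᵀ with hV
  have hrat : ∀ a b, (∃ y, f y = (2 : E)⁻¹ * (U.val a b + V a b)) ∧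
      ∃ y, f y = (2 * i)⁻¹ * (U.val a b - V a b) := by
    intro a b
    rcases hx.kind with ⟨-, h⟩ | ⟨rfl, hσi, h⟩
    · exact ⟨h _, h _⟩
    · have e : U.val.map σ = V := by
        rw [mem_isoGrp, mul_one] at hU
        rw [hV, ← transpose_transpose (U.val.map σ),
          left_inv_eq_right_inv hU (show U.val * (U⁻¹ : GL ι E).val = 1 by simp)]
      have e1 : σ (U.val a b) = V a b := congrFun (congrFun e a) b
      have e2 : σ (V a b) = U.val a b := by
        have hU' := isoGrp σ (1 : Matrix ι ι E) |>.inv_mem hU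
        rw [mem_isoGrp, mul_one] at hU'
        have e' := left_inv_eq_right_inv hU' (show (U⁻¹ : GL ι E).val * U.val = 1 by simp)
        have := congrFun (congrFun e' a) b
        simpa [hV] using this
      exact ⟨h _ (by rw [map_mul, map_inv₀, map_ofNat, map_add, e1, e2, add_comm]),
        h _ (by rw [map_mul, map_inv₀, map_mul, map_ofNat, map_sub, e1, e2, hσi, mul_neg, inv_neg, neg_mul,
          ← mul_neg, neg_sub])⟩
  choose P hP using fun a b => (hrat a b).1
  choose Q hQ using fun a b => (hrat a b).2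
  set X : Matrix (ι ⊕ ι) (ι ⊕ ι) F := fromBlocks (Matrix.of P) (-Matrix.of Q) (Matrix.of Q) (Matrix.of P) with hX
  have hc : X * jm = jm * X := comm_fromBlocks _ _
  have hd : cm f i X = U.val ∧ cm f (-i) X = V := by
    constructor <;> ext a b <;>
      simp only [hX, cm, toBlocks_fromBlocks₁₁, toBlocks_fromBlocks₂₁, Matrix.add_apply, Matrix.smul_apply,
        Matrix.map_apply, Matrix.of_apply, hP, hQ, smul_eq_mul] <;>
      field_simp <;> ring
  have hXi : Xᵀ * X = 1 := by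
    refine ext_cm (f := f) h2 hx.sq (comm_mul (comm_transpose hc) hc) (by rw [one_mul, mul_one]) ?_ ?_
    · rw [cm_mul hx.sq (comm_transpose hc), cm_transpose hc, cm_one, hd.1, hd.2, hV, transpose_transpose,
        ← Units.val_mul, inv_mul_cancel, Units.val_one]
    · have hi' : -i * -i = -1 := by rw [neg_mul_neg, hx.sq]
      rw [cm_mul hi' (comm_transpose hc), cm_transpose hc, cm_one, neg_neg, hd.1, hd.2, hV, ← transpose_mul,
        ← Units.val_mul, inv_mul_cancel, Units.val_one, transpose_one]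
  exact ⟨⟨⟨X, Xᵀ, mul_eq_one_comm.1 hXi, hXi⟩, mem_cj.2 ⟨hXi, hc⟩⟩, Units.ext hd.1⟩

theorem scalar_iso [Nonempty ι] {g : GL ι E} (hg : g ∈ isoGrp σ Ψ) {μ : E}
    (hμ : (g : Matrix ι ι E) = μ • 1) (hΨ : Ψ = 0 ∨ Ψ = 1) : σ μ * μ = 1 ∨ Ψ = 0 := by
  rcases hΨ with h | rfl
  · exact Or.inr h
  · rw [mem_isoGrp, hμ, map_smul', Matrix.map_one _ (map_zero σ) (map_one σ)] at hg
    simp only [transpose_smul, transpose_one, Matrix.smul_mul, mul_one, one_mul, smul_smul] at hg
    obtain ⟨a⟩ := ‹Nonempty ι›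
    exact Or.inl (by simpa using congrFun (congrFun hg a) a)

/-- a matrix with square zero shifted by one has determinant one -/
theorem det_one_add [Finite E] {N : Matrix ι ι E} (hN : N * N = 0) : (1 + N).det = 1 := by
  obtain ⟨p, _, hp⟩ : ∃ p, CharP E p ∧ p.Prime := ⟨ringChar E, ringChar.charP E, CharP.char_is_prime E _⟩
  haveI := Fact.mk hp
  have hpow : ∀ m : ℕ, (1 + N) ^ m = 1 + (m : E) • N := fun m => by
    induction m with
    | zero => simp
    | succ m ih =>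
      rw [pow_succ, ih, add_mul, one_mul, Matrix.smul_mul, mul_add, mul_one, hN, add_zero, Nat.cast_succ, add_smul,
        one_smul]
      abel
  have h1 : (1 + N).det ^ p = 1 ^ p := by
    rw [← Matrix.det_pow, hpow, CharP.cast_eq_zero, zero_smul, add_zero, Matrix.det_one, one_pow]
  exact frobenius_inj E p (by simpa [frobenius_def] using h1)

end Cent

namespace Sys

open Cent

variable {A ι F E : Type*} [AddCommGroup A] [Module (ZMod 2) A] [Fintype A] [Field F] [Field E] [Fintype ι]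
  [DecidableEq ι]

theorem map_sgn (f : F →+* E) (a : ZMod 2) : f (sgn F a) = sgn E a := by
  rcases z2_cases a with rfl | rfl <;> simp

/-- the system over a larger field -/
def mapField (S : Sys A ι F) (f : F →+* E) : Sys A ι E where
  e a := (S.e a).map f
  β := S.β
  two_ne := by rw [← map_ofNat f 2]; exact fun h => S.two_ne (f.injective (h.trans (map_zero f).symm))
  card_ne := by rw [← map_natCast f]; exact fun h => S.card_ne (f.injective (h.trans (map_zero f).symm))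
  e_zero := by rw [S.e_zero, Matrix.map_one _ (map_zero f) (map_one f)]
  e_mul a b := by
    rw [← Matrix.map_mul, S.e_mul, ← map_sgn f]
    ext x y
    simp
  trace_eq a ha := by
    simp only [Matrix.trace, Matrix.diag, Matrix.map_apply]
    rw [← map_sum]
    exact (congrArg f (S.trace_eq a ha)).trans (map_zero f)
  card_eq := S.card_eq
  nondeg := S.nondeg

theorem mapField_e (S : Sys A ι F) (f : F →+* E) (a : A) : (S.mapField f).e a = (S.e a).map f := rfl

theorem perp_bit (T : Sys (ZMod 2 × ZMod 2) (Fin 2) F) {a t : ZMod 2 × ZMod 2} (ha : a ≠ 0)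
    (h : T.ω a t = 0) : t = 0 ∨ t = a := by
  by_contra hc
  push Not at hc
  have key : ∀ a t b : ZMod 2 × ZMod 2, a ≠ 0 → t ≠ 0 → t ≠ a → b = 0 ∨ b = a ∨ b = t ∨ b = a + t := by decide
  refine ha (T.ω_nondeg fun b => ?_)
  rcases key a t b ha hc.1 hc.2 with rfl | rfl | rfl | rfl
  · exact map_zero _
  · exact T.ω_self _
  · exact h
  · rw [map_add, T.ω_self, h, add_zero]

/-- moving a monomial from the element to the carried pair -/
theorem carries_mul_u {S : Sys A ι F} {h : GL ι F} {m b b' : A} {c : F} (e : S.Carries (h * S.u m) b b' c) :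
    S.Carries h b b' (c * sgn F (S.ω m b)) := by
  have e' : (h : Matrix ι ι F) * S.e m * S.e b = c • (S.e b' * ((h : Matrix ι ι F) * S.e m)) := e
  show _ = _
  refine (S.u m).isUnit.mul_left_inj.1 ?_
  rw [u_val, mul_assoc, S.e_comm b m, S.ω_comm b m, Matrix.mul_smul, ← mul_assoc, e', Matrix.smul_mul, mul_assoc,
    smul_smul, mul_comm c]

/-- the monomials commuting with the structure over the extension -/
theorem cm_e (S₀ : Sys A ι F) (T : Sys (ZMod 2 × ZMod 2) (Fin 2) F) {a : ZMod 2 × ZMod 2} (hT : T.e a = rot2)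
    (f : F →+* E) (i : E) (ha : a ≠ 0) {b : (ZMod 2 × ZMod 2) × A} (hb : (dbl T S₀).ω (a, 0) b = 0) :
    cm f i ((dbl T S₀).e b) = (if b.1 = 0 then 1 else i) • (S₀.mapField f).e b.2 := by
  rw [dbl_ω, map_zero, LinearMap.zero_apply, add_zero] at hb
  rcases T.perp_bit ha hb with h | h
  · rw [if_pos h, dbl_e, h, T.e_zero, cm_blk_one, one_smul, mapField_e]
  · rw [if_neg (h ▸ ha), dbl_e, h, hT, cm_blk_rot, mapField_e]

/-- the alternatives for the centraliser of the complex structure -/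
theorem cent_dichotomy [Fintype E] (S₀ : Sys A ι F)
    {f : F →+* E} {σ : E →+* E} {i : E} {Ψ : Matrix ι ι E} (hx : Ext f σ i Ψ) (hk : Cx σ Ψ)
    (hD : (S₀.mapField f).Dich σ Ψ) (hA : 16 ≤ Fintype.card A) (T : Sys (ZMod 2 × ZMod 2) (Fin 2) F)
    {a : ZMod 2 × ZMod 2} (hT : T.e a = rot2) {Φ : Matrix (ι ⊕ ι) (ι ⊕ ι) F} (hΦ : Φ = 1 ∨ Φ = blk rot2 1)
    {H : Subgroup (GL (ι ⊕ ι) F)} (hyp : (dbl T S₀).RHyp Φ H) :
    (∀ h ∈ H, ∀ c, (dbl T S₀).Carries h (a, 0) (a, 0) c → ∀ b, (dbl T S₀).ω (a, 0) b = 0 →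
      ∃ b' c', (dbl T S₀).Carries h b b' c') ∨
    (∀ g ∈ isoGrp (RingHom.id F) Φ, g.val * blk rot2 1 = blk rot2 1 * g.val →
      (g.val - 1) * (g.val - 1) = 0 → g ∈ H) := by
  have h2 := S₀.two_ne
  have := S₀.nonempty
  set S := dbl T S₀ with hS
  set S' := S₀.mapField f with hS'
  have hΨ : Ψ = 0 ∨ Ψ = 1 := hk.imp (·.1) (·.1)
  have hι : 3 ≤ Fintype.card ι := by
    by_contra hc
    have := S₀.card_eq ▸ hA
    have : Fintype.card ι * Fintype.card ι ≤ 2 * 2 := Nat.mul_le_mul (by omega) (by omega)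
    omega
  have ha : a ≠ 0 := by
    rintro rfl
    rw [T.e_zero] at hT
    simpa [rot2] using congrFun (congrFun hT 0) 0
  have hq : T.q a = 1 := by
    have h1 := T.e_sq a
    have h3 : (rot2 : Matrix (Fin 2) (Fin 2) F) * rot2 = (-1 : F) • 1 := by
      ext x y; fin_cases x <;> fin_cases y <;> simp [rot2, Matrix.mul_apply, Fin.sum_univ_two]
    rw [hT, h3] at h1
    have := congrFun (congrFun h1 0) 0
    exact sgn_inj h2 (by simpa using this.symm)
  have hJ : S.e (a, 0) = jm := by rw [hS, dbl_e, hT, S₀.e_zero]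
  -- commuting monomials
  have hcomm : ∀ b, S.ω (a, 0) b = 0 → S.e b * jm = jm * S.e b := fun b hb => by
    rw [← hJ, S.e_comm, S.ω_comm, hb, sgn_zero, one_smul]
  have hcj : ∀ k ∈ isoGrp (RingHom.id F) Φ, k.val * jm = jm * k.val → k ∈ cj := fun k hk' hk'' =>
    mem_cj.2 ⟨(iso_iff hΦ hk'').1 hk', hk''⟩
  have hadjust : ∀ h ∈ H, ∀ c, S.Carries h (a, 0) (a, 0) c →
      ∃ m, (h * S.u m).val * jm = jm * (h * S.u m).val := by
    intro h hh c e
    have e' : h.val * jm = c • (jm * h.val) := hJ ▸ e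
    rcases mul_self_eq_one_iff.1 (hyp.carry_sq (hyp.le hh) e) with rfl | rfl
    · exact ⟨0, by rw [Units.val_mul, u_val, S.e_zero, mul_one, e', one_smul]⟩
    · obtain ⟨t, ht⟩ := T.exists_ω_one ha
      refine ⟨(t, 0), ?_⟩
      have hc : S.e (t, 0) * jm = (-1 : F) • (jm * S.e (t, 0)) := by
        rw [← hJ, S.e_comm, show S.ω (t, 0) (a, 0) = 1 by rw [hS, dbl_ω]; simp [T.ω_comm t a, ht], sgn_one]
      rw [Units.val_mul, u_val, mul_assoc, hc, Matrix.mul_smul, ← mul_assoc, e', Matrix.smul_mul, smul_smul,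
        neg_one_mul, neg_neg, one_smul, mul_assoc]
  let K₀ : Subgroup (GL ι E) := (H.subgroupOf cj).map (cmHom f hx.sq)
  have hK₀ : ∀ k ∈ H, ∀ (hk' : k ∈ cj), cmHom f hx.sq ⟨k, hk'⟩ ∈ K₀ := fun k hk' hk'' =>
    ⟨⟨k, hk''⟩, hk', rfl⟩
  have hK₀iso : K₀ ≤ isoGrp σ Ψ := by
    rintro _ ⟨k, -, rfl⟩
    exact hx.cmHom_mem k
  -- the images of normalising elements
  have himg : ∀ (k : GL (ι ⊕ ι) F) (hk' : k ∈ cj), S.Norm k →
      S'.Norm (cmHom f hx.sq ⟨k, hk'⟩) ∧ ∀ x, S'.img (cmHom f hx.sq ⟨k, hk'⟩) x = (S.img k (0, x)).2 := by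
    intro k hk' hkn
    have hkJ := (mem_cj.1 hk').2
    have hfix : S.img k (a, 0) = (a, 0) := img_eq (c := 1) (by rw [hJ, one_smul]; exact hkJ)
    have key : ∀ x, ∃ c : E, (cmHom f hx.sq ⟨k, hk'⟩).val * S'.e x =
        c • (S'.e (S.img k (0, x)).2 * (cmHom f hx.sq ⟨k, hk'⟩).val) := by
      intro x
      obtain ⟨c, -, e⟩ := hkn.img_spec (0, x)
      have hb0 : S.ω (a, 0) (0, x) = 0 := by rw [hS, dbl_ω]; simp
      have hb : S.ω (a, 0) (S.img k (0, x)) = 0 := by rw [← hfix, hkn.img_ω, hb0]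
      have e1 := congrArg (cm f i) e
      rw [cm_mul hx.sq hkJ, cm_smul, cm_mul hx.sq (hcomm _ hb), S₀.cm_e T hT f i ha hb0, S₀.cm_e T hT f i ha hb,
        if_pos rfl, one_smul, Matrix.smul_mul, smul_smul] at e1
      exact ⟨_, e1⟩
    exact ⟨fun x => ⟨_, key x⟩, fun x => img_eq (key x).choose_spec⟩
  -- the overgroup over the extension
  let K : Subgroup (GL ι E) :=
    { carrier := {g | ∃ k ∈ K₀, ∃ c : Eˣ, g = scal c k ∧ (σ c * c = 1 ∨ Ψ = 0)}
      one_mem' := ⟨1, K₀.one_mem, 1, Units.ext (by simp), Or.inl (by simp)⟩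
      mul_mem' := by
        rintro _ _ ⟨k, hk, c, rfl, hc⟩ ⟨l, hl, d, rfl, hd⟩
        refine ⟨k * l, K₀.mul_mem hk hl, c * d, scal_mul c d k l, ?_⟩
        rcases hc with hc | hc
        · rcases hd with hd | hd
          · exact Or.inl (by rw [Units.val_mul, map_mul, mul_mul_mul_comm, hc, hd, one_mul])
          · exact Or.inr hd
        · exact Or.inr hc
      inv_mem' := by
        rintro _ ⟨k, hk, c, rfl, hc⟩
        refine ⟨k⁻¹, K₀.inv_mem hk, c⁻¹, inv_eq_of_mul_eq_one_right ?_, hc.imp_left fun h => ?_⟩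
        · rw [scal_mul, mul_inv_cancel, mul_inv_cancel]
          exact Units.ext (by simp)
        · rw [Units.val_inv_eq_inv_val, map_inv₀, ← mul_inv, h, inv_one] }
  have hK : K₀ ≤ K := fun k hk => ⟨k, hk, 1, Units.ext (by simp), Or.inl (by simp)⟩
  have hKiso : K ≤ isoGrp σ Ψ := by
    rintro _ ⟨k, hk, c, rfl, hc⟩
    exact scal_mem_iso (hK₀iso hk) hc
  have hue : ∀ x, S.u (0, x) ∈ cj := fun x =>
    hcj _ (hyp.iso _) (hcomm _ (by rw [hS, dbl_ω]; simp))
  have hmono : ∀ x, S'.u x ∈ K₀ := fun x => by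
    have e : cmHom f hx.sq ⟨S.u (0, x), hue x⟩ = S'.u x := Units.ext (by
      rw [cmHom_val, u_val, u_val, S₀.cm_e T hT f i ha (by rw [dbl_ω]; simp), if_pos rfl, one_smul])
    exact e ▸ hK₀ _ (hyp.u_mem _) (hue x)
  -- the transvections
  have hlift : ∀ v, v ≠ 0 → ∃ k ∈ K₀, S'.Norm k ∧ ∀ x, S'.img k x = S'.τ v x := by
    intro v _
    set b : (ZMod 2 × ZMod 2) × A := (if S₀.q v = 0 then a else 0, v) with hb
    have hb0 : S.ω (a, 0) b = 0 := by
      rw [hS, dbl_ω, hb]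
      split_ifs <;> simp [T.ω_self]
    have hbq : S.q b = 1 := by
      rw [hS, dbl_q, hb]
      rcases z2_cases (S₀.q v) with h | h <;> simp [h, hq, T.q_zero]
    obtain ⟨h, hh, hhn, himgh⟩ := hyp.lift (a, 0) b (by rw [hS, dbl_q, hq, S₀.q_zero, add_zero]) hbq hb0
    have hfix : S.img h (a, 0) = (a, 0) := by
      rw [himgh]
      simp only [τ, S.ω_comm b, hb0, zero_smul, add_zero, S.ω_self]
    obtain ⟨c, -, e⟩ := hhn.img_spec (a, 0)
    rw [hfix] at e
    obtain ⟨m, hm⟩ := hadjust h hh c e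
    have hkH : h * S.u m ∈ H := H.mul_mem hh (hyp.u_mem m)
    have hkn : S.Norm (h * S.u m) := hhn.mul (S.u_mem m)
    obtain ⟨hn', hi'⟩ := himg _ (hcj _ (hyp.le hkH) hm) hkn
    refine ⟨_, hK₀ _ hkH (hcj _ (hyp.le hkH) hm), hn', fun x => ?_⟩
    rw [hi', img_mul hhn (S.u_mem m), img_u, himgh]
    have hw : S.ω b (0, x) = S₀.ω v x := by rw [hS, dbl_ω, hb]; simp
    simp only [τ, hw, Prod.snd_add, Prod.smul_snd, smul_zero, add_zero]
    rfl
  have hge : isoGrp σ Ψ ⊓ S'.norm ≤ K := by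
    rintro g ⟨hg, hgn⟩
    let P : (A → A) → Prop := fun γ => ∃ k ∈ K₀, S'.Norm k ∧ ∀ x, S'.img k x = γ x
    have hP : P (S'.img g) := S'.mem_of_τ_closed P ⟨1, K₀.one_mem, Norm.one, img_one⟩
      (fun γ v hv ⟨k, hk, hkn, hki⟩ => by
        obtain ⟨l, hl, hln, hli⟩ := hlift v hv
        exact ⟨l * k, K₀.mul_mem hl hk, hln.mul hkn, fun x => by rw [img_mul hln hkn, hki, hli]⟩)
      hgn.img_add hgn.img_ω
    obtain ⟨k, hk', hkn, hki⟩ := hP
    obtain ⟨v, μ, hμ, hv⟩ := (hkn.inv.mul hgn).eq_e fun x => by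
      rw [img_mul hkn.inv hgn, ← hki, ← img_mul hkn.inv hkn, inv_mul_cancel, img_one]
    have hs : scal (Units.mk0 μ hμ) (1 : GL ι E) ∈ isoGrp σ Ψ := by
      have h' : k⁻¹ * g * (S'.u v)⁻¹ = scal (Units.mk0 μ hμ) 1 := by
        rw [mul_inv_eq_iff_eq_mul]
        exact Units.ext (by rw [hv]; simp)
      rw [← h']
      exact Subgroup.mul_mem _ (Subgroup.mul_mem _ (Subgroup.inv_mem _ (hK₀iso hk')) hg)
        (Subgroup.inv_mem _ (hK₀iso (hmono v)))
    refine ⟨k * S'.u v, K₀.mul_mem hk' (hmono v), Units.mk0 μ hμ, Units.ext ?_, scalar_iso hs (by simp) hΨ⟩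
    rw [scal_val, Units.val_mul, Units.val_mk0, u_val, ← Matrix.mul_smul, ← hv, ← Units.val_mul,
      ← mul_assoc, mul_inv_cancel, one_mul]
  rcases hD K hge hKiso with hn | hbig
  · -- the normalising alternative
    refine Or.inl fun h hh c e b hb => ?_
    obtain ⟨m, hm⟩ := hadjust h hh c e
    set k := h * S.u m with hk'
    have hkH : k ∈ H := H.mul_mem hh (hyp.u_mem m)
    have hkc : k ∈ cj := hcj _ (hyp.le hkH) hm
    obtain ⟨y, c₁, he⟩ : ∃ (y : A) (c₁ : E), cm f i k.val * S'.e b.2 = c₁ • (S'.e y * cm f i k.val) :=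
      hn (hK (hK₀ k hkH hkc)) b.2
    set d : E := (if b.1 = 0 then 1 else i) * c₁ with hd
    have e2 : cm f i (k.val * S.e b) = d • (S'.e y * cm f i k.val) := by
      rw [cm_mul hx.sq hm, S₀.cm_e T hT f i ha hb, Matrix.mul_smul, he, smul_smul]
    have hd4 : d * d = 1 ∨ d * d = -1 := by
      have hd0 : d ≠ 0 := by
        refine mul_ne_zero ?_ (Norm.coef_ne S' (g := cmHom f hx.sq ⟨k, hkc⟩) he)
        split_ifs
        · exact one_ne_zero
        · exact fun h0 => by have := hx.sq; rw [h0, mul_zero] at this; exact one_ne_zero (neg_eq_zero.1 this.symm)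
      set μ : E := if b.1 = 0 then 1 else i with hμdef
      have e2' : cm f i k.val * (μ • S'.e b.2) = d • (S'.e y * cm f i k.val) := by
        rw [Matrix.mul_smul, he, smul_smul, hd]
      have e3 : cm f i k.val * (μ • S'.e b.2) * (μ • S'.e b.2) =
          d • (S'.e y * (d • (S'.e y * cm f i k.val))) := by
        rw [e2', Matrix.smul_mul, mul_assoc, e2']
      rw [mul_assoc (cm f i k.val), S'.smul_e_sq rfl, Matrix.mul_smul, mul_one, Matrix.mul_smul, smul_smul,
        ← mul_assoc (S'.e y) (S'.e y), S'.e_sq, Matrix.smul_mul, one_mul, smul_smul] at e3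
      have hne : cm f i k.val ≠ 0 := (cmHom f hx.sq ⟨k, hkc⟩).ne_zero
      have e4 := smul_left_injective E hne e3
      have hμ : μ * μ * (μ * μ) = 1 := by
        rw [hμdef]
        split_ifs
        · ring
        · rw [hx.sq]; ring
      refine mul_self_eq_one_iff.1 ?_
      have s1 := sgn_mul_self (F := E) (S'.q y)
      have s2 := sgn_mul_self (F := E) (S'.q b.2)
      linear_combination hμ + μ * μ * (μ * μ) * s2 - d * d * (d * d) * s1 -
        (μ * μ * sgn E (S'.q b.2) + d * d * sgn E (S'.q y)) * e4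
    obtain ⟨s, t, hs, ht, hdt⟩ : ∃ (s : F) (t : ZMod 2 × ZMod 2), s * s = 1 ∧ T.ω a t = 0 ∧
        d = f s * (if t = 0 then 1 else i) := by
      rcases hd4 with h' | h'
      · rcases mul_self_eq_one_iff.1 h' with h'' | h''
        · exact ⟨1, 0, mul_one 1, map_zero _, by rw [h'', if_pos rfl, map_one, mul_one]⟩
        · exact ⟨-1, 0, by ring, map_zero _, by rw [h'', if_pos rfl, map_neg, map_one, mul_one]⟩
      · rcases mul_self_eq_mul_self_iff.1 (h'.trans hx.sq.symm) with h'' | h''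
        · exact ⟨1, a, mul_one 1, T.ω_self a, by rw [h'', if_neg ha, map_one, one_mul]⟩
        · exact ⟨-1, a, by ring, T.ω_self a, by rw [h'', if_neg ha, map_neg, map_one, neg_one_mul]⟩
    have hb' : S.ω (a, 0) (t, y) = 0 := by rw [hS, dbl_ω]; simpa using ht
    have hbc : S.u b ∈ cj := hcj _ (hyp.iso b) (hcomm b hb)
    have hb'c : S.u (t, y) ∈ cj := hcj _ (hyp.iso _) (hcomm _ hb')
    have hfin : k.val * S.e b = s • (S.e (t, y) * k.val) := by
      refine iso_ext (f := f) h2 hx.sq (comm_mul hm (hcomm b hb)) ?_ ?_ ?_ ?_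
      · rw [Matrix.smul_mul, comm_mul (hcomm _ hb') hm, Matrix.mul_smul]
      · exact (mem_cj.1 (cj.mul_mem hkc hbc)).1
      · rw [transpose_smul, Matrix.smul_mul, Matrix.mul_smul, smul_smul, hs, one_smul]
        exact (mem_cj.1 (cj.mul_mem hb'c hkc)).1
      · rw [e2, cm_smul, cm_mul hx.sq (hcomm _ hb'), S₀.cm_e T hT f i ha hb', Matrix.smul_mul, smul_smul, hdt]
    exact ⟨_, _, carries_mul_u hfin⟩
  · -- the large alternative
    refine Or.inr fun g hg hgJ hg2 => ?_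
    have hnorm : ∀ x ∈ big σ Ψ, ∀ l ∈ K₀, x * l * x⁻¹ ∈ K₀ := by
      intro x hxb l hl
      obtain ⟨k, hk', c, rfl, -⟩ := hbig hxb
      have e : scal c k * l * (scal c k)⁻¹ = k * l * k⁻¹ := by
        rw [mul_inv_eq_iff_eq_mul]
        exact Units.ext (by simp [mul_assoc])
      rw [e]
      exact K₀.mul_mem (K₀.mul_mem hk' hl) (K₀.inv_mem hk')
    obtain ⟨v, hv⟩ : ∃ v : A, v ≠ 0 := Fintype.exists_ne_of_one_lt_card (by omega) 0
    obtain ⟨w, hw⟩ := S'.exists_ω_one hv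
    obtain ⟨l, hl, hln, hli⟩ := hlift w fun h0 => by rw [h0, map_zero] at hw; exact zero_ne_one hw
    have hux : ∀ x, S'.u x ∈ isoGrp σ Ψ := fun x => hK₀iso (hmono x)
    set x := ⁅l, S'.u v⁆ with hx'
    have hxK : x ∈ K₀ := by
      rw [hx', commutatorElement_def]
      exact K₀.mul_mem (K₀.mul_mem (K₀.mul_mem hl (hmono v)) (K₀.inv_mem hl)) (K₀.inv_mem (hmono v))
    have hxb : x ∈ big σ Ψ := ⟨hK₀iso hxK, MonoidHom.mem_ker.2 (by
      rw [hx', map_commutatorElement, commutatorElement_eq_one_iff_mul_comm]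
      exact mul_comm _ _)⟩
    have hns : ∀ c : E, (x : Matrix ι ι E) ≠ c • 1 := by
      intro c hc
      obtain ⟨c', hc', e'⟩ := hln.img_spec v
      have hlv : S'.img l v = v + w := by
        rw [hli, τ, S'.ω_comm, hw, one_smul]
      have e1 : x.val * S'.e v * l.val = l.val * S'.e v := by
        rw [← u_val, ← Units.val_mul, ← Units.val_mul, ← Units.val_mul, hx', commutatorElement_def]
        congr 1
        group
      rw [hc, Matrix.smul_mul, one_mul, Matrix.smul_mul, e', hlv] at e1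
      have e2 : c • S'.e v = c' • S'.e (v + w) := l.isUnit.mul_left_inj.1 (by rw [Matrix.smul_mul, Matrix.smul_mul, e1])
      have := (S'.smul_e_inj hc' e2.symm).1
      rw [add_eq_left] at this
      rw [this, map_zero] at hw
      exact zero_ne_one hw
    have hle : big σ Ψ ≤ K₀ := hk.big_le_of_normal hι K₀ hnorm hxK hxb hns
    have hgc : g ∈ cj := hcj g hg hgJ
    set u := cmHom f hx.sq ⟨g, hgc⟩ with hu
    have hu2 : (u.val - 1) * (u.val - 1) = 0 := by
      rw [hu, cmHom_val, ← cm_one (f := f) (i := i), ← cm_sub, ← cm_mul hx.sq (by rw [sub_mul, mul_sub, hgJ, one_mul,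
        mul_one]), hg2, cm_zero]
    have hub : u ∈ big σ Ψ := mem_big.2 ⟨hx.cmHom_mem _, by
      have := det_one_add hu2
      rwa [add_sub_cancel] at this⟩
    obtain ⟨k, hk', e⟩ := hle hub
    have : k.1 = g := Units.ext (iso_ext h2 hx.sq (mem_cj.1 k.2).2 hgJ (mem_cj.1 k.2).1 (mem_cj.1 hgc).1
      (congrArg Units.val e))
    exact this ▸ hk'

theorem mapField_u_mem (S₀ : Sys A ι F) (hu₀ : ∀ a, S₀.u a ∈ isoGrp (RingHom.id F) 1) {f : F →+* E}
    {σ : E →+* E} {i : E} {Ψ : Matrix ι ι E} (hx : Ext f σ i Ψ) (a : A) : (S₀.mapField f).u a ∈ isoGrp σ Ψ := by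
  rcases hx.kind with ⟨rfl, -⟩ | ⟨rfl, -, -⟩
  · rw [isoGrp_zero]; trivial
  · have h := mem_isoGrp.1 (hu₀ a)
    simp only [RingHom.coe_id, Matrix.map_id, u_val, mul_one] at h
    rw [mem_isoGrp, mul_one, u_val, mapField_e,
      show ((S₀.e a).map f).map σ = (S₀.e a).map f by ext x y; simp [hx.fix],
      ← Matrix.transpose_map, ← Matrix.map_mul, h, Matrix.map_one _ (map_zero f) (map_one f)]

/-- the alternatives over a prime field, given the complex dichotomy -/
theorem cent_dichotomy_of_prime [Fintype F] (hF : (Fintype.card F).Prime) (S₀ : Sys A ι F)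
    (hu₀ : ∀ a, S₀.u a ∈ isoGrp (RingHom.id F) 1)
    (hD : ∀ (S : Sys A ι F) (σ : F →+* F) (Ψ : Matrix ι ι F), Cx σ Ψ → (∀ a, S.u a ∈ isoGrp σ Ψ) → S.Dich σ Ψ)
    (hD' : ∀ (K : Type) [Field K] [Fintype K] (S : Sys A ι K) (σ : K →+* K) (Ψ : Matrix ι ι K), Cx σ Ψ →
      (∀ a, S.u a ∈ isoGrp σ Ψ) → S.Dich σ Ψ)
    (hA : 16 ≤ Fintype.card A) (T : Sys (ZMod 2 × ZMod 2) (Fin 2) F) {a : ZMod 2 × ZMod 2} (hT : T.e a = rot2)
    {Φ : Matrix (ι ⊕ ι) (ι ⊕ ι) F} (hΦ : Φ = 1 ∨ Φ = blk rot2 1) {H : Subgroup (GL (ι ⊕ ι) F)}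
    (hyp : (dbl T S₀).RHyp Φ H) :
    (∀ h ∈ H, ∀ c, (dbl T S₀).Carries h (a, 0) (a, 0) c → ∀ b, (dbl T S₀).ω (a, 0) b = 0 →
      ∃ b' c', (dbl T S₀).Carries h b b' c') ∨
    (∀ g ∈ isoGrp (RingHom.id F) Φ, g.val * blk rot2 1 = blk rot2 1 * g.val →
      (g.val - 1) * (g.val - 1) = 0 → g ∈ H) := by
  obtain ⟨p, hp⟩ : ∃ p, p = Fintype.card F := ⟨_, rfl⟩
  rw [← hp] at hF
  haveI := Fact.mk hF
  let e : ZMod p ≃+* F := ZMod.ringEquivOfPrime F hF hp.symm
  by_cases h3 : p % 4 = 3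
  · haveI : Fintype (GaloisField p 2) := Fintype.ofFinite _
    have hcard : Fintype.card (GaloisField p 2) = p ^ 2 := by
      rw [← Nat.card_eq_fintype_card, GaloisField.card p 2 two_ne_zero]
    let f : F →+* GaloisField p 2 := (algebraMap (ZMod p) (GaloisField p 2)).comp e.symm.toRingHom
    let σ : GaloisField p 2 →+* GaloisField p 2 := frobenius _ p
    obtain ⟨i, hi⟩ := FiniteField.isSquare_neg_one_iff.2
      (show Fintype.card (GaloisField p 2) % 4 ≠ 3 by rw [hcard, Nat.pow_mod, h3]; norm_num)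
    have hσi : σ i = -i := by
      obtain ⟨m, hm⟩ : ∃ m, p = 2 * (2 * m + 1) + 1 := ⟨p / 4, by omega⟩
      rw [show σ i = i ^ p from frobenius_def .., show i ^ p = i ^ (2 * (2 * m + 1) + 1) from congrArg (i ^ ·) hm]
      rw [pow_succ, pow_mul, sq, ← hi, Odd.neg_one_pow ⟨m, rfl⟩, neg_one_mul]
    have hfx : ∀ x, (f x) ^ p = f x := fun x => by
      have h' := FiniteField.pow_card x
      rw [← hp] at h'
      rw [← map_pow, h']
    have hfix : ∀ x, σ x = x → ∃ y, f y = x := by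
      classical
      intro x hx
      have hne := FiniteField.X_pow_card_sub_X_ne_zero (GaloisField p 2) hF.one_lt
      have hr : ∀ z, z ^ p = z → z ∈ ((Polynomial.X ^ p - Polynomial.X :
          Polynomial (GaloisField p 2))).roots.toFinset := fun z hz => by
        rw [Multiset.mem_toFinset, Polynomial.mem_roots hne]; simp [hz]
      have he : Finset.univ.image f = (Polynomial.X ^ p - Polynomial.X :
          Polynomial (GaloisField p 2)).roots.toFinset := by
        refine Finset.eq_of_subset_of_card_le (fun z hz => ?_) ?_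
        · obtain ⟨y, -, rfl⟩ := Finset.mem_image.1 hz
          exact hr _ (hfx y)
        · rw [Finset.card_image_of_injective _ f.injective, Finset.card_univ, ← hp]
          refine (Multiset.toFinset_card_le _).trans ((Polynomial.card_roots' _).trans ?_)
          rw [FiniteField.X_pow_card_sub_X_natDegree_eq _ hF.one_lt]
      have := hr x ((frobenius_def p x).symm.trans hx)
      rw [← he] at this
      obtain ⟨y, -, hy⟩ := Finset.mem_image.1 this
      exact ⟨y, hy⟩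
    have hx : Ext f σ i (1 : Matrix ι ι (GaloisField p 2)) :=
      ⟨hi.symm, fun x => (frobenius_def p (f x)).trans (hfx x), Or.inr ⟨rfl, hσi, hfix⟩⟩
    have hk : Cx σ (1 : Matrix ι ι (GaloisField p 2)) := Or.inr ⟨rfl, p, hF, h3, hcard, frobenius_def p⟩
    exact S₀.cent_dichotomy hx hk (hD' _ _ _ _ hk (S₀.mapField_u_mem hu₀ hx)) hA T hT hΦ hyp
  · obtain ⟨i, hi⟩ := FiniteField.isSquare_neg_one_iff.2 (show Fintype.card F % 4 ≠ 3 by rwa [← hp])
    have hp2 : p ≠ 2 := fun h2 => S₀.two_ne (by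
      have : ((Fintype.card F : ℕ) : F) = 0 := Nat.cast_card_eq_zero F
      rwa [← hp, h2] at this)
    have h1 : Fintype.card F % 4 = 1 := by
      have := hF.eq_two_or_odd.resolve_left hp2
      omega
    have hx : Ext (RingHom.id F) (RingHom.id F) i (0 : Matrix ι ι F) :=
      ⟨hi.symm, fun _ => rfl, Or.inl ⟨rfl, fun x => ⟨x, rfl⟩⟩⟩
    have hk : Cx (RingHom.id F) (0 : Matrix ι ι F) := Or.inl ⟨rfl, rfl, hp ▸ hF, h1⟩
    exact S₀.cent_dichotomy hx hk (hD _ _ _ hk (S₀.mapField_u_mem hu₀ hx)) hA T hT hΦ hyp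

end Sys

end Cfsg.Agent.Forms.Max.TwoGroup
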