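import Cfsg.Agent.Lib.Forms.Max.TwoGroup.RealTransport

/-!
# The two centraliser facts of the real kind along similar systems
-/

set_option autoImplicit false
set_option linter.unusedSectionVars false

namespace Cfsg.Agent.Forms.Max.TwoGroup

open Matrix

namespace Sys

namespace Sim

variable {A A' ι ι' F : Type*} [AddCommGroup A] [Module (ZMod 2) A] [Fintype A] [AddCommGroup A']
  [Module (ZMod 2) A'] [Fintype A'] [Field F] [Fintype ι] [DecidableEq ι] [Fintype ι'] [DecidableEq ι']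
  {S : Sys A ι F} {S' : Sys A' ι' F} {Φ : Matrix ι ι F} {Φ' : Matrix ι' ι' F} (T : Sim S S' Φ Φ')
  {H : Subgroup (GL ι F)}

/-- pulling back the alternative at a non-singular vector -/
theorem pull_J {a : A}
    (hJ : (∀ h ∈ T.push H, ∀ c, S'.Carries h (T.φ a) (T.φ a) c → ∀ b, S'.ω (T.φ a) b = 0 →
        ∃ b' c', S'.Carries h b b' c') ∨
      (∀ g ∈ isoGrp (RingHom.id F) Φ', g.val * S'.e (T.φ a) = S'.e (T.φ a) * g.val →
        (g.val - 1) * (g.val - 1) = 0 → g ∈ T.push H)) :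
    (∀ h ∈ H, ∀ c, S.Carries h a a c → ∀ b, S.ω a b = 0 → ∃ b' c', S.Carries h b b' c') ∨
      (∀ g ∈ isoGrp (RingHom.id F) Φ, g.val * S.e a = S.e a * g.val → (g.val - 1) * (g.val - 1) = 0 → g ∈ H) := by
  rcases hJ with hJ | hJ
  · refine Or.inl fun h hh c hc b hb => ?_
    obtain ⟨b', c', e⟩ := hJ _ (T.mem_push.2 hh) _ (T.carries hc) (T.φ b) (by rw [T.map_ω, hb])
    obtain ⟨b₀, rfl⟩ := T.φ.surjective b'
    obtain ⟨k, hk⟩ := T.carries_iff.1 ⟨c', e⟩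
    exact ⟨b₀, k, hk⟩
  · refine Or.inr fun g hg hgc hgu => T.mem_push.1 (hJ _ (T.mem_iso.2 hg) ?_ ?_)
    · rw [hom_val, T.map_e', Matrix.mul_smul, Matrix.smul_mul, ← map_mul, ← map_mul, hgc]
    · rw [hom_val, ← map_one T.E, ← map_sub, ← map_mul, hgu, map_zero]

/-- pulling back the reduction at a singular vector -/
theorem pull_Z {z : A}
    (hZ : (∀ r, S'.q r = 1 → ∀ h ∈ T.push H, (∃ c, S'.Carries h r r c) → S'.Norm h) →
      ∀ h ∈ T.push H, (∃ c, S'.Carries h (T.φ z) (T.φ z) c) → S'.Norm h)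
    (hns : ∀ r, S.q r = 1 → ∀ h ∈ H, (∃ c, S.Carries h r r c) → S.Norm h) :
    ∀ h ∈ H, (∃ c, S.Carries h z z c) → S.Norm h := fun h hh ⟨_, hc⟩ => by
  refine T.norm_iff.1 (hZ (fun r hr x hx hxc => ?_) _ (T.mem_push.2 hh) ⟨_, T.carries hc⟩)
  obtain ⟨r₀, rfl⟩ := T.φ.surjective r
  obtain ⟨x₀, rfl⟩ := T.hom.surjective x
  rw [T.map_q] at hr
  exact T.norm_iff.2 (hns r₀ hr x₀ (T.mem_push.1 hx) (T.carries_iff.1 hxc))

end Sim

end Sys

end Cfsg.Agent.Forms.Max.TwoGroup
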