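import Cfsg.Agent.Lib.Forms.Max.TwoGroup.Diag
import Cfsg.Agent.Lib.Forms.Max.TwoGroup.RealHyp
import Cfsg.Agent.Lib.Forms.Max.TwoGroup.Conj

/-!
# The centraliser of a singular monomial in the real kind

Over a doubled system an element of the overgroup which keeps the line of the diagonal bit is block
diagonal. The elements `diag 1 g` of the overgroup form a group `g` with monomials as its only
normalising members; a transfer argument shows that it consists of monomials.
-/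

set_option autoImplicit false
set_option linter.unusedSectionVars false

namespace Cfsg.Agent.Forms.Max.TwoGroup

open Matrix Module

namespace Sys.RealZ

variable {A ι F : Type*} [AddCommGroup A] [Module (ZMod 2) A] [Fintype A] [Field F] [Fintype ι]
  [DecidableEq ι]

/-- a self-normalising elementary abelian subgroup with three centraliser conditions is everything -/
theorem eq_top_of_selfNorm {Q : Type*} [Group Q] [Finite Q] (P : Subgroup Q)
    (hcom : ∀ p ∈ P, ∀ p' ∈ P, p * p' = p' * p) (hsq : ∀ p ∈ P, p ^ 2 = 1)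
    (hnorm : Subgroup.normalizer (P : Set Q) ≤ P) {a b c : Q} (hc : a * b = c) (ha : a ∈ P) (hb : b ∈ P)
    (fa : ∀ x, a * x = x * a → x ∈ P) (fb : ∀ x, b * x = x * b → x ∈ P)
    (fc : ∀ x, c * x = x * c → x ∈ P) : P = ⊤ := by
  haveI : Fact (Nat.Prime 2) := ⟨Nat.prime_two⟩
  have hPp : IsPGroup 2 P := fun p => ⟨1, Subtype.ext (by simpa using hsq p p.2)⟩
  obtain ⟨S, hPS⟩ := hPp.exists_le_sylow
  have hSP : (S : Subgroup Q) = P := by
    refine le_antisymm ?_ hPS
    by_contra hlt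
    haveI : Group.IsNilpotent S := S.2.isNilpotent
    have hne : P.subgroupOf S < ⊤ := lt_top_iff_ne_top.2 fun e => hlt (Subgroup.subgroupOf_eq_top.1 e)
    obtain ⟨q, hq, hqn⟩ := SetLike.exists_of_lt (Group.normalizerCondition_of_isNilpotent _ hne)
    refine hqn (Subgroup.mem_subgroupOf.2 (hnorm (Subgroup.mem_normalizer_iff.2
      fun r => ⟨fun hr => ?_, fun hr => ?_⟩)))
    · exact (Subgroup.mem_normalizer_iff.1 hq ⟨r, hPS hr⟩).1 hr
    · have hrS : r ∈ (S : Subgroup Q) := by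
        have := (S : Subgroup Q).mul_mem ((S : Subgroup Q).mul_mem
          ((S : Subgroup Q).inv_mem q.2) (hPS hr)) q.2
        simpa [mul_assoc] using this
      exact (Subgroup.mem_normalizer_iff.1 hq ⟨r, hrS⟩).2 hr
  have hS : Subgroup.normalizer ((S : Subgroup Q) : Set Q) ≤
      Subgroup.centralizer ((S : Subgroup Q) : Set Q) := by
    rw [hSP]
    exact fun p hp => Subgroup.mem_centralizer_iff.2 fun p' hp' => hcom p' hp' p (hnorm hp)
  set O := (MonoidHom.transferSylow S hS).ker with hO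
  have hfree : ∀ {e : Q}, (∀ x, e * x = x * e → x ∈ P) → ∀ o ∈ O, e * o = o * e → o = 1 :=
    fun he o ho h => Subgroup.disjoint_def.1 (MonoidHom.ker_transferSylow_disjoint S hS _ S.2) ho
      (hSP ▸ he o h)
  have hinv : ∀ {e : Q}, e ∈ P → (∀ x, e * x = x * e → x ∈ P) → ∀ o ∈ O, e * o * e⁻¹ = o⁻¹ := by
    intro e hep he o ho
    have he2 : e * e = 1 := by rw [← pow_two]; exact hsq _ hep
    let φ : O →* O := (MulAut.conjNormal e : MulAut O).toMonoidHom
    have hφ : MonoidHom.FixedPointFree φ := fun y hy => Subtype.ext (hfree he y y.2 (by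
      have := congrArg (fun z : O => (z : Q)) hy
      exact mul_inv_eq_iff_eq_mul.1 this))
    have h2 : Function.Involutive φ := fun y => Subtype.ext (by
      show e * (e * (y : Q) * e⁻¹) * e⁻¹ = y
      rw [inv_eq_of_mul_eq_one_right he2, ← mul_assoc, ← mul_assoc, he2, one_mul, mul_assoc, he2, mul_one])
    have := congrFun (MonoidHom.FixedPointFree.coe_eq_inv_of_involutive hφ h2) ⟨o, ho⟩
    exact congrArg Subtype.val this
  have hO1 : O = ⊥ := by
    refine (Subgroup.eq_bot_iff_forall _).2 fun o ho => hfree fc o ho ?_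
    have h1 := hinv hb fb o ho
    have h2 := hinv ha fa o⁻¹ (inv_mem ho)
    rw [inv_inv] at h2
    rw [← hc]
    calc a * b * o = a * (b * o * b⁻¹) * a⁻¹ * (a * b) := by group
      _ = o * (a * b) := by rw [h1, h2]
  have h := MonoidHom.ker_transferSylow_isComplement' S hS
  rw [← hO, hO1, Subgroup.isComplement'_bot_left] at h
  rw [← hSP, h]

section geometry

variable (S : Sys A ι F)

theorem one_add_one : (1 : ZMod 2) + 1 = 0 := rfl

theorem τ_fix {v x : A} (h : S.ω v x = 0) : S.τ v x = x := by simp [τ, h]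

theorem τ_mv {v x : A} (h : S.ω v x = 1) : S.τ v x = x + v := by simp [τ, h]

theorem τ_self (v : A) : S.τ v v = v := τ_fix S (S.ω_self v)

theorem τ_comm {a b : A} (h : S.ω a b = 0) (x : A) : S.τ a (S.τ b x) = S.τ b (S.τ a x) := by
  have h' : S.ω b a = 0 := by rw [S.ω_comm]; exact h
  simp only [τ, map_add, map_smul, h, h', smul_eq_mul, mul_zero, add_zero]
  abel

theorem ne_zero_of_q {a : A} (ha : S.q a = 1) : a ≠ 0 := fun h => by
  rw [h, q_zero] at ha; exact zero_ne_one ha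

theorem ne_of_ω {a b : A} (h : S.ω a b = 1) : a ≠ b := fun e => by
  rw [e, S.ω_self] at h; exact zero_ne_one h

theorem exists_perp_ne (hA : 16 ≤ Fintype.card A) (a b c : A) (h : 16 < Fintype.card A) (x : A) :
    ∃ r, r ≠ 0 ∧ r ≠ x ∧ S.ω a r = 0 ∧ S.ω b r = 0 ∧ S.ω c r = 0 := by
  classical
  obtain ⟨w, -, hw⟩ := Finset.exists_lt_card_fiber_of_mul_lt_card_of_maps_to (n := 2)
    (s := (Finset.univ : Finset A)) (t := (Finset.univ : Finset (ZMod 2 × ZMod 2 × ZMod 2)))
    (f := fun r => (S.ω a r, S.ω b r, S.ω c r)) (fun r _ => Finset.mem_univ _)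
    (by simp only [Finset.card_univ, Fintype.card_prod, ZMod.card]; omega)
  obtain ⟨u, v, z, hu, hv, hz, huv, huz, hvz⟩ := Finset.two_lt_card_iff.1 hw
  simp only [Finset.mem_filter, Finset.mem_univ, true_and] at hu hv hz
  have key : ∀ {r}, (S.ω a r, S.ω b r, S.ω c r) = w → r ≠ u → r + u ≠ 0 ∧ S.ω a (r + u) = 0 ∧
      S.ω b (r + u) = 0 ∧ S.ω c (r + u) = 0 := by
    intro r hr hne
    rw [← hu] at hr
    simp only [Prod.mk.injEq] at hr
    refine ⟨fun e => hne (eq_of_add_zero e), ?_, ?_, ?_⟩ <;>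
      simp only [map_add, hr.1, hr.2.1, hr.2.2, CharTwo.add_self_eq_zero]
  by_cases hx : v + u = x
  · obtain ⟨h0, h1⟩ := key hz (Ne.symm huz)
    exact ⟨z + u, h0, fun e => hvz (add_right_cancel (hx.trans e.symm)), h1⟩
  · obtain ⟨h0, h1⟩ := key hv (Ne.symm huv)
    exact ⟨v + u, h0, hx, h1⟩

/-- a non-singular vector orthogonal to a given one -/
theorem exists_ns_perp (hA : 16 ≤ Fintype.card A) {v : A} (hv : v ≠ 0) :
    ∃ a, S.q a = 1 ∧ S.ω v a = 0 := by
  obtain ⟨c, hc⟩ := S.exists_ω_one hv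
  obtain ⟨y, hy0, hy1, hy2, -⟩ := S.exists_perp₃ hA v c v
  have hyv : y ≠ v := fun e => by
    rw [e, S.ω_comm, hc] at hy2
    exact one_ne_zero hy2
  obtain ⟨d, hd1, hd2⟩ := S.exists_ω_one_zero hy0 hyv
  by_contra hno
  push Not at hno
  have hq : ∀ r, S.ω v r = 0 → S.q r = 0 := fun r hr => (z2_cases _).resolve_right fun e => hno r e hr
  have e := S.q_add y d
  rw [hq y hy1, hq d hd2, hq (y + d) (by rw [map_add, hy1, hd2, add_zero]), hd1] at e
  exact zero_ne_one (α := ZMod 2) (by simpa using e)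

theorem exists_ns (hA : 16 ≤ Fintype.card A) : ∃ a, S.q a = 1 := by
  obtain ⟨v, hv⟩ : ∃ v : A, v ≠ 0 := Fintype.exists_ne_of_one_lt_card (by omega) 0
  obtain ⟨a, ha, -⟩ := exists_ns_perp S hA hv
  exact ⟨a, ha⟩

/-- every non-zero vector is non-singular or the sum of two non-singular ones -/
theorem split (hA : 16 ≤ Fintype.card A) {v : A} (hv : v ≠ 0) :
    S.q v = 1 ∨ ∃ a b, S.q a = 1 ∧ S.q b = 1 ∧ S.ω a b = 0 ∧ a + b = v := by
  rcases z2_cases (S.q v) with h | h
  · obtain ⟨a, ha, hva⟩ := exists_ns_perp S hA hv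
    refine Or.inr ⟨a, a + v, ha, ?_, ?_, add_add_self a v⟩
    · rw [q_add, ha, h, S.ω_comm, hva, add_zero, add_zero]
    · rw [map_add, S.ω_self, S.ω_comm, hva, add_zero]
  · exact Or.inl h

/-- the non-singular vectors span -/
theorem ext_ns (hA : 16 ≤ Fintype.card A) {f f' : A → A} (hf : ∀ x y, f (x + y) = f x + f y)
    (hf' : ∀ x y, f' (x + y) = f' x + f' y) (h : ∀ a, S.q a = 1 → f a = f' a) (v : A) : f v = f' v := by
  by_cases hv : v = 0
  · have h0 : f 0 = 0 := by simpa using hf 0 0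
    have h0' : f' 0 = 0 := by simpa using hf' 0 0
    rw [hv, h0, h0']
  rcases split S hA hv with e | ⟨a, b, ha, hb, -, rfl⟩
  · exact h v e
  · rw [hf, hf', h a ha, h b hb]

/-- a product of two commuting non-singular transvections determines the pair -/
theorem pair_eq {a b c d : A} (ha : S.q a = 1) (hb : S.q b = 1) (hc : S.q c = 1) (hd : S.q d = 1)
    (hab : S.ω a b = 0) (hcd : S.ω c d = 0) (hne : a ≠ b)
    (h : ∀ x, S.τ a (S.τ b x) = S.τ c (S.τ d x)) : (a = c ∧ b = d) ∨ (a = d ∧ b = c) := by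
  have key : ∀ a b : A, S.q a = 1 → S.ω a b = 0 → a ≠ b →
      (∀ x, S.τ a (S.τ b x) = S.τ c (S.τ d x)) → a = c ∨ a = d := by
    intro a b ha hab hne h
    obtain ⟨x, hx1, hx2⟩ := S.exists_ω_one_zero (ne_zero_of_q S ha) hne
    have e := h x
    rw [τ_fix S hx2, τ_mv S hx1] at e
    simp only [τ, map_add, map_smul, hcd, smul_eq_mul, mul_zero, add_zero, add_assoc] at e
    have e' := add_left_cancel e
    rcases z2_cases (S.ω c x) with h1 | h1 <;> rcases z2_cases (S.ω d x) with h2 | h2 <;>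
      rw [h1, h2] at e' <;> simp only [zero_smul, one_smul, add_zero, zero_add] at e'
    · exact absurd e' (ne_zero_of_q S ha)
    · exact Or.inr e'
    · exact Or.inl e'
    · rw [e', q_add, hd, hc, S.ω_comm, hcd, add_zero, one_add_one] at ha
      exact absurd ha zero_ne_one
  have k1 := key a b ha hab hne h
  have k2 := key b a hb (by rw [S.ω_comm]; exact hab) (Ne.symm hne) fun x => by
    rw [← τ_comm S hab, h]
  rcases k1 with e | e <;> rcases k2 with e' | e'
  · exact absurd (e.trans e'.symm) hne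
  · exact Or.inl ⟨e, e'⟩
  · exact Or.inr ⟨e, e'⟩
  · exact absurd (e.trans e'.symm) hne

/-- two non-singular partners -/
theorem exists_two_partners (hA : 16 ≤ Fintype.card A) {a : A} (ha : S.q a = 1) :
    ∃ b b', S.q b = 1 ∧ S.q b' = 1 ∧ S.ω a b = 0 ∧ S.ω a b' = 0 ∧ b ≠ a ∧ b' ≠ a ∧ b ≠ b' := by
  obtain ⟨c, hc⟩ := S.exists_ω_one (ne_zero_of_q S ha)
  obtain ⟨x, hx0, hx1, hx2, -⟩ := S.exists_perp₃ hA a c a
  have hxa : x ≠ a := fun e => by
    rw [e, S.ω_comm, hc] at hx2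
    exact one_ne_zero hx2
  obtain ⟨d, hd1, hd2⟩ := S.exists_ω_one_zero hx0 hxa
  have mk : ∀ r, S.ω a r = 0 → r ≠ a → r ≠ 0 →
      ∃ b, S.q b = 1 ∧ S.ω a b = 0 ∧ b ≠ a ∧ (b = r ∨ b = r + a) := by
    intro r hr hra hr0
    rcases z2_cases (S.q r) with h | h
    · exact ⟨r + a, by rw [q_add, h, ha, S.ω_comm, hr, zero_add, add_zero],
        by rw [map_add, hr, S.ω_self, add_zero], fun e => hr0 (add_eq_right.1 e), Or.inr rfl⟩
    · exact ⟨r, h, hr, hra, Or.inl rfl⟩
  obtain ⟨b, hb, hab, hba, hbx⟩ := mk x hx1 hxa hx0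
  obtain ⟨b', hb', hab', hba', hbd⟩ := mk d hd2 (fun e => by
    rw [e, S.ω_comm, hx1] at hd1
    exact zero_ne_one hd1) (fun e => by
    rw [e, map_zero] at hd1
    exact zero_ne_one hd1)
  refine ⟨b, b', hb, hb', hab, hab', hba, hba', fun e => ?_⟩
  have hbx' : S.ω x b = 0 := by
    rcases hbx with rfl | rfl
    · exact S.ω_self _
    · rw [map_add, S.ω_self, S.ω_comm, hx1, add_zero]
  have hbd' : S.ω x b' = 1 := by
    rcases hbd with rfl | rfl
    · exact hd1
    · rw [map_add, hd1, S.ω_comm x a, hx1, add_zero]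
  rw [e, hbd'] at hbx'
  exact one_ne_zero hbx'

/-- a non-singular vector making an anisotropic pair with a given one -/
theorem exists_ns_one (hA : 16 ≤ Fintype.card A) {a : A} (ha : S.q a = 1) :
    ∃ b, S.q b = 1 ∧ S.ω a b = 1 := by
  obtain ⟨c, hc⟩ := S.exists_ω_one (ne_zero_of_q S ha)
  rcases z2_cases (S.q c) with hqc | hqc
  · obtain ⟨x, hx0, hx1, hx2, -⟩ := S.exists_perp₃ hA a c a
    obtain ⟨w, hw1, hw2, hw3⟩ : ∃ w, S.q w = 1 ∧ S.ω a w = 0 ∧ S.ω c w = 0 := by
      rcases z2_cases (S.q x) with hqx | hqx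
      · obtain ⟨z0, hz0⟩ := S.exists_ω_one hx0
        have hca : S.ω c a = 1 := by rw [S.ω_comm]; exact hc
        have hxa : S.ω x a = 0 := by rw [S.ω_comm]; exact hx1
        have hxc : S.ω x c = 0 := by rw [S.ω_comm]; exact hx2
        obtain ⟨z, hz⟩ : ∃ z, z = z0 + S.ω a z0 • c + S.ω c z0 • a := ⟨_, rfl⟩
        have e1 : S.ω a z = 0 := by
          simp [hz, map_add, map_smul, hc, S.ω_self, CharTwo.add_self_eq_zero]
        have e2 : S.ω c z = 0 := by
          simp [hz, map_add, map_smul, hca, S.ω_self, CharTwo.add_self_eq_zero]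
        have e3 : S.ω x z = 1 := by simp [hz, map_add, map_smul, hxa, hxc, hz0]
        rcases z2_cases (S.q z) with hqz | hqz
        · exact ⟨x + z, by rw [q_add, hqx, hqz, e3, add_zero, zero_add], by rw [map_add, hx1, e1, add_zero],
            by rw [map_add, hx2, e2, add_zero]⟩
        · exact ⟨z, hqz, e1, e2⟩
      · exact ⟨x, hqx, hx1, hx2⟩
    exact ⟨c + w, by rw [q_add, hqc, hw1, hw3, zero_add, add_zero], by rw [map_add, hc, hw2, add_zero]⟩
  · exact ⟨c, hqc, hc⟩

/-- a singular vector orthogonal to an anisotropic pair -/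
theorem exists_singular (hA : 16 ≤ Fintype.card A) (hb : 64 ≤ Fintype.card A ∨ ¬ S.Plus) {a d : A}
    (ha : S.q a = 1) (hd : S.q d = 1) (had : S.ω a d = 1) :
    ∃ y, y ≠ 0 ∧ S.q y = 0 ∧ S.ω a y = 0 ∧ S.ω d y = 0 := by
  classical
  by_contra hno
  push Not at hno
  have hq : ∀ r, r ≠ 0 → S.ω a r = 0 → S.ω d r = 0 → S.q r = 1 := fun r h0 h1 h2 =>
    (z2_cases _).resolve_left fun e => hno r h0 e h1 h2
  have hω : ∀ r r', r ≠ 0 → r' ≠ 0 → r ≠ r' → S.ω a r = 0 → S.ω d r = 0 → S.ω a r' = 0 → S.ω d r' = 0 →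
      S.ω r r' = 1 := by
    intro r r' h0 h0' hne h1 h2 h1' h2'
    have e := S.q_add r r'
    rw [hq r h0 h1 h2, hq r' h0' h1' h2', hq (r + r') (fun e => hne (eq_of_add_zero e))
      (by rw [map_add, h1, h1', add_zero]) (by rw [map_add, h2, h2', add_zero]), one_add_one, zero_add] at e
    exact e.symm
  obtain ⟨x, hx0, hx1, hx2, -⟩ := S.exists_perp₃ hA a d a
  have hsmall : ¬ 16 < Fintype.card A := by
    intro hbig
    obtain ⟨z, hz0, hzx, hz1, hz2, hz3⟩ := exists_perp_ne S hA a d x hbig x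
    rw [hω x z hx0 hz0 (Ne.symm hzx) hx1 hx2 hz1 hz2] at hz3
    exact one_ne_zero hz3
  have hP : S.Plus := by
    obtain ⟨z0, hz0⟩ := S.exists_ω_one hx0
    have hda : S.ω d a = 1 := by rw [S.ω_comm]; exact had
    have hxa : S.ω x a = 0 := by rw [S.ω_comm]; exact hx1
    have hxd : S.ω x d = 0 := by rw [S.ω_comm]; exact hx2
    obtain ⟨z, hz⟩ : ∃ z, z = z0 + S.ω a z0 • d + S.ω d z0 • a := ⟨_, rfl⟩
    have e1 : S.ω a z = 0 := by
      simp [hz, map_add, map_smul, had, S.ω_self, CharTwo.add_self_eq_zero]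
    have e2 : S.ω d z = 0 := by
      simp [hz, map_add, map_smul, hda, S.ω_self, CharTwo.add_self_eq_zero]
    have e3 : S.ω x z = 1 := by simp [hz, map_add, map_smul, hxa, hxd, hz0]
    have hzn : z ≠ 0 := fun e => by rw [e, map_zero] at e3; exact zero_ne_one e3
    have qx := hq x hx0 hx1 hx2
    have qz := hq z hzn e1 e2
    have u0 : S.q (a + x) = 0 := by rw [q_add, ha, qx, hx1, one_add_one, zero_add]
    have v0 : S.q (d + z) = 0 := by rw [q_add, hd, qz, e2, one_add_one, zero_add]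
    have huv : S.ω (a + x) (d + z) = 0 := by
      simp only [map_add, LinearMap.add_apply, had, e1, hxd, e3, add_zero, zero_add, one_add_one]
    refine ⟨Submodule.span (ZMod 2) {a + x, d + z}, ?_, ?_⟩
    · intro u hu
      obtain ⟨r, s, rfl⟩ := Submodule.mem_span_pair.1 hu
      rcases z2_cases r with rfl | rfl <;> rcases z2_cases s with rfl | rfl <;>
        simp only [zero_smul, one_smul, add_zero, zero_add, q_zero, u0, v0]
      rw [q_add, u0, v0, huv, add_zero, add_zero]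
    · have hli : LinearIndependent (ZMod 2) ![a + x, d + z] := by
        rw [LinearIndependent.pair_iff]
        intro r s hrs
        have h1 := congrArg (fun w => S.ω d w) hrs
        have h2 := congrArg (fun w => S.ω a w) hrs
        simp only [map_add, map_smul, hda, hx2, S.ω_self, e1, e2, hx1, had, map_zero, smul_eq_mul,
          add_zero, zero_add, mul_one, mul_zero] at h1 h2
        exact ⟨h1, h2⟩
      have h2 : finrank (ZMod 2) (Submodule.span (ZMod 2) ({a + x, d + z} : Set A)) = 2 := by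
        have h := finrank_span_eq_card hli
        have hr : Set.range ![a + x, d + z] = ({a + x, d + z} : Set A) := by
          ext r
          simp [Fin.exists_fin_two, eq_comm, or_comm]
        rw [hr, Fintype.card_fin] at h
        exact h
      have h4 : finrank (ZMod 2) A = 4 := by
        haveI : Module.Finite (ZMod 2) A := Module.Finite.of_finite
        have h16 : Nat.card A = 16 := by rw [Nat.card_eq_fintype_card]; omega
        rw [Module.natCard_eq_pow_finrank (K := ZMod 2) (V := A), Nat.card_zmod] at h16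
        exact Nat.pow_right_injective le_rfl (show 2 ^ finrank (ZMod 2) A = 2 ^ 4 by simpa using h16)
      rw [h2, h4]
  rcases hb with h | h
  · omega
  · exact h hP

/-- an involution with only singular fixed vectors makes the type plus -/
theorem plus_of_involution (f : A →ₗ[ZMod 2] A) (h2 : ∀ x, f (f x) = x) (hq : ∀ x, f x = x → S.q x = 0) :
    S.Plus := by
  haveI : Module.Finite (ZMod 2) A := Module.Finite.of_finite
  obtain ⟨g, hg⟩ : ∃ g : A →ₗ[ZMod 2] A, g = f + LinearMap.id := ⟨_, rfl⟩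
  have hker : ∀ x, x ∈ LinearMap.ker g ↔ f x = x := fun x => by
    rw [LinearMap.mem_ker, hg, LinearMap.add_apply, LinearMap.id_apply]
    exact ⟨eq_of_add_zero, fun e => by rw [e, add_self_zero]⟩
  have hsub : LinearMap.range g ≤ LinearMap.ker g := by
    rintro _ ⟨x, rfl⟩
    rw [hker, hg, LinearMap.add_apply, LinearMap.id_apply, map_add, h2, add_comm]
  have hrn := LinearMap.finrank_range_add_finrank_ker g
  have h1 := Submodule.finrank_mono hsub
  have hiso : ∀ x ∈ LinearMap.ker g, ∀ y ∈ LinearMap.ker g, S.ω x y = 0 := fun x hx y hy => by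
    have e := S.q_add x y
    rw [hq x ((hker x).1 hx), hq y ((hker y).1 hy), hq (x + y) (by
      rw [map_add, (hker x).1 hx, (hker y).1 hy])] at e
    simpa using e.symm
  let T : LinearMap.ker g →ₗ[ZMod 2] (LinearMap.ker g).dualAnnihilator :=
    LinearMap.codRestrict _ (LinearMap.comp S.ω (LinearMap.ker g).subtype) fun x =>
      (Submodule.mem_dualAnnihilator _).2 fun y hy => hiso x x.2 y hy
  have hT : Function.Injective T := fun x y e => by
    refine Subtype.ext (eq_of_add_zero (S.ω_nondeg fun b => ?_))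
    have e' : S.ω (x : A) b = S.ω (y : A) b := LinearMap.congr_fun (congrArg Subtype.val e) b
    rw [map_add, LinearMap.add_apply, e', CharTwo.add_self_eq_zero]
  have h3 := LinearMap.finrank_le_finrank_of_injective hT
  have h4 := Subspace.finrank_add_finrank_dualAnnihilator_eq (LinearMap.ker g)
  exact ⟨LinearMap.ker g, fun u hu => hq u ((hker u).1 hu), by omega⟩

theorem dp_q_apply (p : ZMod 2 × ZMod 2) (v : A) : S.dp.q (p, v) = p.2 * p.1 + S.q v := by
  rw [dbl_q]; congr 1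
  show cocycle 0 0 1 0 p p = _
  simp [cocycle]

theorem dp_ω_apply (p p' : ZMod 2 × ZMod 2) (v w : A) :
    S.dp.ω (p, v) (p', w) = p.2 * p'.1 + p'.2 * p.1 + S.ω v w := by
  rw [dbl_ω, ω_apply]; congr 1
  show cocycle 0 0 1 0 p p' + cocycle 0 0 1 0 p' p = _
  simp [cocycle]

theorem dp_q_emb (v : A) : S.dp.q (emb v) = S.q v := by
  rw [emb, dp_q_apply]; simp

theorem dp_ω_emb (v : A) (p : (ZMod 2 × ZMod 2) × A) : S.dp.ω (emb v) p = S.ω v p.2 := by
  obtain ⟨p, w⟩ := p
  rw [emb, dp_ω_apply]; simp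

theorem dp_τ_emb (c : A) (p : (ZMod 2 × ZMod 2) × A) : S.dp.τ (emb c) p = (p.1, S.τ c p.2) := by
  rw [τ, dp_ω_emb, τ]; simp [emb, Prod.ext_iff]

end geometry

section forms

variable {S : Sys A ι F} {Φ : Matrix ι ι F}

theorem img_inv {g : GL ι F} (hg : S.Norm g) (x : A) : S.img g⁻¹ (S.img g x) = x := by
  rw [← img_mul hg.inv hg, inv_mul_cancel, img_one]

theorem img_τ {g : GL ι F} (hg : S.Norm g) (v x : A) : S.img g (S.τ v x) = S.τ (S.img g v) (S.img g x) := by
  rcases z2_cases (S.ω v x) with h | h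
  · rw [τ_fix S h, τ_fix S (by rw [hg.img_ω, h])]
  · rw [τ_mv S h, τ_mv S (by rw [hg.img_ω, h]), hg.img_add]

/-- the image of a commutator with an element inducing two transvections -/
theorem img_comm {g n : GL ι F} (hg : S.Norm g) (hn : S.Norm n) {a b : A}
    (he : ∀ x, S.img n x = S.τ a (S.τ b x)) (x : A) :
    S.img (g * n * g⁻¹ * n⁻¹) x = S.τ (S.img g a) (S.τ (S.img g b) (S.τ b (S.τ a x))) := by
  have hninv : S.img n⁻¹ x = S.τ b (S.τ a x) := by
    conv_lhs => rw [show x = S.img n (S.τ b (S.τ a x)) by rw [he, τ_τ, τ_τ]]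
    rw [img_inv hn]
  rw [img_mul ((hg.mul hn).mul hg.inv) hn.inv, hninv, img_mul (hg.mul hn) hg.inv, img_mul hg hn, he, img_τ hg,
    img_τ hg, ← img_mul hg hg.inv, mul_inv_cancel, img_one]

/-- a monomial up to sign -/
def Mon (S : Sys A ι F) (g : GL ι F) : Prop :=
  ∃ (v : A) (s : F), (s = 1 ∨ s = -1) ∧ (g : Matrix ι ι F) = s • S.e v

theorem Mon.norm {g : GL ι F} (h : Mon S g) : S.Norm g ∧ ∀ a, S.img g a = a := by
  obtain ⟨v, s, -, hg⟩ := h
  have key : ∀ a, (g : Matrix ι ι F) * S.e a = sgn F (S.ω v a) • (S.e a * (g : Matrix ι ι F)) := fun a => by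
    rw [hg, Matrix.smul_mul, S.e_comm v a, Matrix.mul_smul, smul_smul, smul_smul, mul_comm]
  exact ⟨fun a => ⟨a, _, key a⟩, fun a => img_eq (key a)⟩

/-- isometries with the image of a pair of transvections -/
theorem exists_pair_lift (hu : ∀ a, S.u a ∈ isoGrp (RingHom.id F) Φ) {a b : A} (ha : S.q a = 1)
    (hb : S.q b = 1) : ∃ n ∈ isoGrp (RingHom.id F) Φ, S.Norm n ∧ ∀ x, S.img n x = S.τ a (S.τ b x) := by
  have hca : (1 : F) * 1 * sgn F (S.q a) = -1 := by rw [ha, sgn_one]; ring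
  have hcb : (-1 : F) * -1 * sgn F (S.q b) = -1 := by rw [hb, sgn_one]; ring
  have adj : ∀ {c : F} {v : A} (hc : c * c * sgn F (S.q v) = -1), c * c = 1 →
      Adjoint (RingHom.id F) Φ (S.tv c v hc : Matrix ι ι F)
        ((2 : F) • ((S.tv c v hc)⁻¹ : GL ι F).val) := by
    intro c v hc h1
    have h := (Adjoint.one (σ := RingHom.id F) (Φ := Φ)).add
      (S.adjoint_smul_e (hu v) (Or.inl h1) hc (neg_mul_neg 1 1 |>.trans (one_mul 1)))
    rw [neg_one_smul, ← sub_eq_add_neg] at h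
    rw [show ((S.tv c v hc)⁻¹ : GL ι F).val = (2 : F)⁻¹ • (1 - c • S.e v) from rfl, smul_smul,
      mul_inv_cancel₀ S.two_ne, one_smul]
    exact h
  have hP := (adj hca (one_mul 1)).mul (adj hcb (by ring))
  refine ⟨scal (Units.mk0 _ (inv_ne_zero S.two_ne)) (S.tv 1 a hca * S.tv (-1) b hcb),
    mem_iso_of_adjoint (hP.smul ((2 : F)⁻¹)) ?_, S.norm_scal ((S.tv_mem hca).mul (S.tv_mem hcb)) _, fun x => ?_⟩
  · rw [map_inv₀, map_ofNat, scal_val, Units.val_mk0, Units.val_mul]
    simp only [Matrix.smul_mul, Matrix.mul_smul, smul_smul]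
    rw [mul_assoc (((S.tv (-1) b hcb)⁻¹ : GL ι F).val), ← mul_assoc (((S.tv 1 a hca)⁻¹ : GL ι F).val),
      ← Units.val_mul (S.tv 1 a hca)⁻¹, inv_mul_cancel, Units.val_one, one_mul, ← Units.val_mul, inv_mul_cancel,
      Units.val_one]
    rw [show (2 : F)⁻¹ * ((2 : F)⁻¹ * (2 * 2)) = 1 by field_simp [S.two_ne], one_smul]
  · rw [S.img_scal ((S.tv_mem hca).mul (S.tv_mem hcb)), img_mul (S.tv_mem hca) (S.tv_mem hcb), S.img_tv, S.img_tv]
    rfl

/-- the whole isometry group satisfies the hypotheses of the real kind -/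
theorem rhyp (hunit : IsUnit Φ.det) (hu : ∀ a, S.u a ∈ isoGrp (RingHom.id F) Φ) :
    S.RHyp Φ (isoGrp (RingHom.id F) Φ) :=
  ⟨hunit, hu, le_rfl, hu, fun _ _ ha hb _ => exists_pair_lift hu ha hb⟩

theorem Mon.of_eq (hunit : IsUnit Φ.det) (hu : ∀ a, S.u a ∈ isoGrp (RingHom.id F) Φ) {g : GL ι F}
    (hg : g ∈ isoGrp (RingHom.id F) Φ) {v : A} {c : F} (e : (g : Matrix ι ι F) = c • S.e v) : Mon S g := by
  refine ⟨v, c, mul_self_eq_one_iff.1 ?_, e⟩
  refine (rhyp hunit hu).scalar_sq (g := g * (S.u v)⁻¹)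
    (Subgroup.mul_mem _ hg (Subgroup.inv_mem _ (hu v))) ?_
  rw [Units.val_mul, e, u_inv_val, Matrix.smul_mul, Matrix.mul_smul, S.e_sq, smul_smul, smul_smul,
    mul_assoc, sgn_mul_self, mul_one]

theorem Mon.of_img (hunit : IsUnit Φ.det) (hu : ∀ a, S.u a ∈ isoGrp (RingHom.id F) Φ) {g : GL ι F}
    (hg : g ∈ isoGrp (RingHom.id F) Φ) (hn : S.Norm g) (h : ∀ a, S.img g a = a) : Mon S g := by
  obtain ⟨v, c, -, e⟩ := hn.eq_e h
  exact Mon.of_eq hunit hu hg e

end forms

/-! ### The overgroup -/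

variable (S1 : Sys A ι F) {Φ : Matrix ι ι F} {H : Subgroup (GL (ι ⊕ ι) F)}

/-- the elements `g` with `diag 1 g` in the group -/
def low (H : Subgroup (GL (ι ⊕ ι) F)) : Subgroup (GL ι F) where
  carrier := {g | diag 1 g ∈ H}
  one_mem' := by
    show diag 1 (1 : GL ι F) ∈ H
    rw [diag_one]
    exact H.one_mem
  mul_mem' := fun {g g'} hg hg' => by
    show diag 1 (g * g') ∈ H
    rw [show diag 1 (g * g') = diag 1 g * diag 1 g' by rw [diag_mul, one_mul]]
    exact H.mul_mem hg hg'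
  inv_mem' := fun {g} hg => by
    show diag 1 g⁻¹ ∈ H
    rw [show diag 1 g⁻¹ = (diag 1 g)⁻¹ by rw [diag_inv, inv_one]]
    exact H.inv_mem hg

theorem mem_low {g : GL ι F} : g ∈ low H ↔ diag 1 g ∈ H := Iff.rfl

variable {S1}

section lowMon

variable (hyp : S1.dp.RHyp (dblΦ Φ) H)
include hyp

theorem unit₁ : IsUnit Φ.det := by
  have h := hyp.unit
  rw [dblΦ, det_fromBlocks_zero₂₁] at h
  exact isUnit_of_mul_isUnit_left h

theorem iso₁ (a : A) : S1.u a ∈ isoGrp (RingHom.id F) Φ := by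
  have h := hyp.iso (emb a)
  rw [show S1.dp.u (emb a) = diag (S1.u a) (S1.u a) from Units.ext (by rw [u_val, dp_e_emb, diag_val]; rfl),
    diag_mem_iso] at h
  exact h.1

theorem low_le {g : GL ι F} (hg : g ∈ low H) : g ∈ isoGrp (RingHom.id F) Φ :=
  ((diag_mem_iso (σ := RingHom.id F)).1 (hyp.le hg)).2

theorem swap_mem {g g' : GL ι F} (h : diag g g' ∈ H) : diag g' g ∈ H := by
  rw [← S1.u_xb_conj g g']
  exact H.mul_mem (H.mul_mem (hyp.u_mem _) h) (H.inv_mem (hyp.u_mem _))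

theorem low_conj {g k k' : GL ι F} (hg : g ∈ low H) (hk : diag k k' ∈ H) : k * g * k⁻¹ ∈ low H := by
  rw [mem_low, show diag 1 (k * g * k⁻¹) = diag k' k * diag 1 g * (diag k' k)⁻¹ by
    rw [diag_inv, diag_mul, diag_mul, mul_one, mul_inv_cancel]]
  exact H.mul_mem (H.mul_mem (swap_mem hyp hk) hg) (H.inv_mem (swap_mem hyp hk))

theorem u_ns_low {v : A} (hv : S1.q v = 1) : S1.u v ∈ low H := by
  have hq0 := dp_q_emb S1
  have hzv : S1.dp.q (((0, 1), v) : (ZMod 2 × ZMod 2) × A) = 1 := by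
    rw [dp_q_apply, hv, mul_zero, zero_add]
  have horth : S1.dp.ω (((0, 1), v) : (ZMod 2 × ZMod 2) × A) (emb v) = 0 := by
    rw [S1.dp.ω_comm, dp_ω_emb, S1.ω_self]
  obtain ⟨h, hh, hhn, hhi⟩ := hyp.lift _ (emb v) hzv ((hq0 v).trans hv) horth
  have hnorm : S1.dp.Norm (diag 1 (S1.u v)) :=
    S1.diag_one_mem (μ := 1) (v := v) (by rw [u_val, one_smul]) (Or.inl (one_mul 1))
  refine hyp.mem_of_img (b := emb v) ((hq0 v).trans hv)
    (diag_mem_iso.2 ⟨Subgroup.one_mem _, iso₁ hyp v⟩) hnorm hh hhn fun p => ?_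
  rw [hhi]
  obtain ⟨⟨a, b⟩, r⟩ := p
  have e2 : S1.dp.τ (emb v) (((a, b), r) : (ZMod 2 × ZMod 2) × A) = ((a, b), r + S1.ω v r • v) := by
    rw [dp_τ_emb]; rfl
  have e3 : S1.dp.ω (((0, 1), v) : (ZMod 2 × ZMod 2) × A) ((a, b), r + S1.ω v r • v) = a + S1.ω v r := by
    rw [dp_ω_apply, map_add, map_smul, S1.ω_self, smul_zero, add_zero]
    simp
  rw [e2, τ, e3]
  rcases z2_cases a with rfl | rfl
  · refine img_eq (c := 1) ?_
    rcases z2_cases (S1.ω v r) with h0 | h0 <;>
      simp [dp_e_bit₀, fromBlocks_multiply, S1.e_comm v r, h0, sgn_add, add_assoc, add_self_zero]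
  · refine img_eq (c := sgn F (S1.β r v) * sgn F (S1.ω v r)) ?_
    have h1 : S1.e v * S1.e r = (sgn F (S1.ω v r) * sgn F (S1.β r v)) • S1.e (r + v) := by
      rw [S1.e_comm v r, S1.e_mul, smul_smul]
    have h2 : S1.e (r + v) * S1.e v = (sgn F (S1.β r v) * sgn F (S1.q v)) • S1.e r := by
      rw [S1.e_mul, add_assoc, add_self_zero, add_zero, map_add, LinearMap.add_apply, sgn_add]; rfl
    have hpt : (((1, b), r + S1.ω v r • v) : (ZMod 2 × ZMod 2) × A) + (1 + S1.ω v r) • ((0, 1), v) =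
        ((1, b + (1 + S1.ω v r)), r + v) := by
      rcases z2_cases (S1.ω v r) with h0 | h0 <;> simp [h0, one_add_one, add_assoc]
    rw [hpt]
    simp only [dp_e_bit₁, diag_val, u_val, Units.val_one, fromBlocks_multiply, Matrix.mul_smul, Matrix.smul_mul,
      one_mul, mul_one, zero_mul, mul_zero, add_zero, zero_add, fromBlocks_smul, smul_zero, h1, h2, smul_smul,
      sgn_add, fromBlocks_inj, true_and, and_true, hv, sgn_one]
    refine ⟨?_, ?_⟩ <;> congr 1
    · have e := sgn_mul_self (F := F) (S1.β r v)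
      have e' := sgn_mul_self (F := F) (S1.ω v r)
      linear_combination -(sgn F b) * (sgn F (S1.β r v) * sgn F (S1.β r v)) * e' - sgn F b * e
    · ring

theorem mem_low_of_sign {g g' : GL ι F} (hA : 16 ≤ Fintype.card A) (hg : g ∈ low H) {s : F}
    (hs : s = 1 ∨ s = -1) (e : (g' : Matrix ι ι F) = s • (g : Matrix ι ι F)) : g' ∈ low H := by
  rcases hs with rfl | rfl
  · rw [one_smul] at e
    rwa [Units.ext e]
  · obtain ⟨a, ha⟩ := exists_ns S1 hA
    rw [neg_one_smul] at e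
    have h1 : g' = S1.u a * S1.u a * g := Units.ext (by
      rw [e, Units.val_mul, Units.val_mul, u_val, S1.e_sq, ha, sgn_one, neg_one_smul, neg_one_mul])
    rw [h1]
    exact mul_mem (mul_mem (u_ns_low hyp ha) (u_ns_low hyp ha)) hg

theorem mon_low (hA : 16 ≤ Fintype.card A) {g : GL ι F} (hg : Mon S1 g) : g ∈ low H := by
  obtain ⟨v, s, hs, e⟩ := hg
  by_cases hv : v = 0
  · rw [hv, S1.e_zero] at e
    exact mem_low_of_sign hyp hA (one_mem _) hs (by rw [e, Units.val_one])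
  rcases split S1 hA hv with h | ⟨a, b, ha, hb, -, rfl⟩
  · exact mem_low_of_sign hyp hA (u_ns_low hyp h) hs e
  · refine mem_low_of_sign hyp hA (mul_mem (u_ns_low hyp ha) (u_ns_low hyp hb))
      (s := s * sgn F (S1.β a b)) ?_ ?_
    · rcases hs with rfl | rfl <;> rcases z2_cases (S1.β a b) with h | h <;> simp [h]
    · rw [e, Units.val_mul, u_val, u_val, S1.e_mul, smul_smul, mul_assoc, sgn_mul_self, mul_one]

theorem exists_lift₁ {a b : A} (ha : S1.q a = 1) (hb : S1.q b = 1) (hab : S1.ω a b = 0) :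
    ∃ n, S1.Norm n ∧ (∀ x, S1.img n x = S1.τ a (S1.τ b x)) ∧ diag n n ∈ H := by
  obtain ⟨n, hn, hnn, hni⟩ := exists_pair_lift (iso₁ hyp) ha hb
  refine ⟨n, hnn, hni, ?_⟩
  have hq0 := dp_q_emb S1
  have hω0 := dp_ω_emb S1
  obtain ⟨h, hh, hhn, hhi⟩ := hyp.lift (emb a) (emb b) ((hq0 a).trans ha) ((hq0 b).trans hb)
    ((hω0 a (emb b)).trans hab)
  refine hyp.mem_of_img (b := emb a) ((hq0 a).trans ha) (diag_mem_iso.2 ⟨hn, hn⟩) (S1.diag_self_mem hnn) hh hhn
    fun p => ?_
  rw [hhi, S1.img_diag_self hnn, hni]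
  rw [dp_τ_emb, dp_τ_emb]

variable (hns : ∀ r, S1.dp.q r = 1 → ∀ h ∈ H, (∃ c, S1.dp.Carries h r r c) → S1.dp.Norm h)
include hns

/-- keeping the line of one non-singular monomial forces a monomial -/
theorem mon_of_carries (hA : 16 ≤ Fintype.card A) {g : GL ι F} (hg : g ∈ low H) {a : A} (ha : S1.q a = 1)
    {c : F} (hc : S1.Carries g a a c) : Mon S1 g := by
  have plus : ∀ {g : GL ι F}, g ∈ low H → S1.Carries g a a 1 → Mon S1 g := by
    intro g hg hc
    have hc' : (g : Matrix ι ι F) * S1.e a = S1.e a * (g : Matrix ι ι F) := by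
      rw [← one_smul F (S1.e a * (g : Matrix ι ι F))]; exact hc
    have hN : S1.dp.Norm (diag 1 g) := hns (emb a)
      ((dp_q_emb S1 a).trans ha) _ hg ⟨1, by
        show _ = (1 : F) • _
        simp [dp_e_emb, fromBlocks_multiply, hc']⟩
    obtain ⟨⟨⟨x, y⟩, r⟩, k, e⟩ := hN xb
    rcases z2_cases x with rfl | rfl
    · exfalso
      rw [dp_e_xb, dp_e_bit₀, diag_val, fromBlocks_multiply, fromBlocks_multiply, fromBlocks_smul,
        fromBlocks_inj] at e
      have := e.2.2.1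
      simp only [mul_one, mul_zero, zero_mul, add_zero, zero_add, smul_zero] at this
      haveI _hι := S1.nonempty
      exact g.ne_zero this
    · rw [dp_e_xb, dp_e_bit₁, diag_val, fromBlocks_multiply, fromBlocks_multiply, fromBlocks_smul,
        fromBlocks_inj] at e
      have := e.2.2.1
      simp only [mul_one, mul_zero, Units.val_one, add_zero, zero_add] at this
      exact Mon.of_eq (unit₁ hyp) (iso₁ hyp) (low_le hyp hg) this
  have hc2 : c * c = 1 := (rhyp (unit₁ hyp) (iso₁ hyp)).carry_sq (low_le hyp hg) hc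
  rcases mul_self_eq_one_iff.1 hc2 with rfl | rfl
  · exact plus hg hc
  · obtain ⟨w, hw⟩ := S1.exists_ω_one (ne_zero_of_q S1 ha)
    have hu := mon_low hyp hA (g := S1.u w) ⟨w, 1, Or.inl rfl, by rw [u_val, one_smul]⟩
    have hc' : (g : Matrix ι ι F) * S1.e a = (-1 : F) • (S1.e a * (g : Matrix ι ι F)) := hc
    have hm := plus (g := g * S1.u w) (mul_mem hg hu) (by
      show _ = (1 : F) • _
      rw [Units.val_mul, u_val, mul_assoc, S1.e_comm w a, S1.ω_comm, hw, sgn_one, Matrix.mul_smul, ← mul_assoc,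
        hc', Matrix.smul_mul, smul_smul, mul_assoc, show (-1 : F) * -1 = 1 by ring])
    obtain ⟨v, s, hs, e⟩ := hm
    refine Mon.of_eq (unit₁ hyp) (iso₁ hyp) (low_le hyp hg) (v := v + w)
      (c := s * sgn F (S1.q w) * sgn F (S1.β v w)) ?_
    rw [show g = g * S1.u w * (S1.u w)⁻¹ from (mul_inv_cancel_right _ _).symm, Units.val_mul, e, u_inv_val,
      Matrix.smul_mul, Matrix.mul_smul, S1.e_mul, smul_smul, smul_smul]

theorem mon_of_fix (hA : 16 ≤ Fintype.card A) {g : GL ι F} (hg : g ∈ low H) (hn : S1.Norm g) {a : A}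
    (ha : S1.q a = 1) (h : S1.img g a = a) : ∀ x, S1.img g x = x := by
  obtain ⟨c, -, e⟩ := hn.img_spec a
  rw [h] at e
  exact (mon_of_carries hyp hns hA hg ha e).norm.2

/-- the normalising elements of the lower group are monomials -/
theorem mon_of_norm (hA : 16 ≤ Fintype.card A) (hb : 64 ≤ Fintype.card A ∨ ¬ S1.Plus) {g : GL ι F}
    (hg : g ∈ low H) (hn : S1.Norm g) : Mon S1 g := by
  refine Mon.of_img (unit₁ hyp) (iso₁ hyp) (low_le hyp hg) hn ?_
  have hqk : ∀ {g : GL ι F}, g ∈ low H → S1.Norm g → ∀ a, S1.q (S1.img g a) = S1.q a := fun hg hn a => by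
    obtain ⟨c, -, e⟩ := hn.img_spec a
    exact ((rhyp (unit₁ hyp) (iso₁ hyp)).carry_q (low_le hyp hg) e).symm
  -- the commutator with a pair
  have comm : ∀ {g : GL ι F}, g ∈ low H → S1.Norm g → ∀ a b, S1.q a = 1 → S1.q b = 1 → S1.ω a b = 0 →
      ∃ δ ∈ low H, S1.Norm δ ∧
        ∀ x, S1.img δ x = S1.τ (S1.img g a) (S1.τ (S1.img g b) (S1.τ b (S1.τ a x))) := by
    intro g hg hn a b ha hb' hab
    obtain ⟨n, hnn, hni, hnH⟩ := exists_lift₁ hyp ha hb' hab
    refine ⟨g * n * g⁻¹ * n⁻¹, ?_, ((hn.mul hnn).mul hn.inv).mul hnn.inv, img_comm hn hnn hni⟩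
    rw [show g * n * g⁻¹ * n⁻¹ = g * (n * g⁻¹ * n⁻¹) by group]
    exact mul_mem hg (low_conj hyp (inv_mem hg) hnH)
  -- an orthogonal image forces triviality
  have f0 : ∀ {g : GL ι F}, g ∈ low H → S1.Norm g → ∀ a, S1.q a = 1 → S1.ω a (S1.img g a) = 0 →
      ∀ x, S1.img g x = x := by
    intro g hg hn a ha hω
    by_contra hne
    have nofix : ∀ r, S1.q r = 1 → S1.img g r ≠ r := fun r hr e => hne (mon_of_fix hyp hns hA hg hn hr e)
    set c := S1.img g a with hc
    have hqc : S1.q c = 1 := by rw [hc, hqk hg hn, ha]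
    have hac : c ≠ a := nofix a ha
    set e := S1.img g c with he
    have hqe : S1.q e = 1 := by rw [he, hqk hg hn, hqc]
    have hce : S1.ω c e = 0 := by rw [he, hc, hn.img_ω, ← hc, hω]
    obtain ⟨δ, hδ, hδn, hδi⟩ := comm hg hn a c ha hqc hω
    have hδfix : S1.img δ c = c := by
      rw [hδi, ← hc, ← he, τ_fix S1 (v := a) hω, τ_self, τ_fix S1 (v := e) (by rw [S1.ω_comm, hce]), τ_self]
    have hid := mon_of_fix hyp hns hA hδ hδn hqc hδfix
    have hmaps : ∀ x, S1.τ c (S1.τ e x) = S1.τ a (S1.τ c x) := fun x => by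
      have := hδi (S1.τ a (S1.τ c x))
      rw [hid, ← hc, ← he, τ_τ, τ_τ] at this
      exact this.symm
    have hea : e = a := by
      rcases pair_eq S1 hqc hqe ha hqc hce hω (fun h => nofix c hqc (he ▸ h.symm)) hmaps with ⟨h, -⟩ | ⟨-, h⟩
      · exact absurd h hac
      · exact h
    have hsq : ∀ x, S1.img g (S1.img g x) = x := fun x => by
      rw [← img_mul hn hn]
      exact mon_of_fix hyp hns hA (mul_mem hg hg) (hn.mul hn) ha (by rw [img_mul hn hn, ← hc, ← he, hea]) x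
    rcases hb with h64 | hP
    · obtain ⟨z, hz1, hz2⟩ := S1.exists_ω_one₂ (ne_zero_of_q S1 ha) (ne_zero_of_q S1 hqc)
      obtain ⟨r, hr0, hrx, hr1, hr2, hr3⟩ := exists_perp_ne S1 hA a c z (by omega) (a + c)
      have hra : r ≠ a := fun h => by rw [h, S1.ω_comm, hz1] at hr3; exact one_ne_zero hr3
      have hrc : r ≠ c := fun h => by rw [h, S1.ω_comm, hz2] at hr3; exact one_ne_zero hr3
      obtain ⟨b, hb1, hba, hbc, hab, hcb⟩ : ∃ b, S1.q b = 1 ∧ b ≠ a ∧ b ≠ c ∧ S1.ω a b = 0 ∧ S1.ω c b = 0 := by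
        rcases z2_cases (S1.q r) with hq | hq
        · exact ⟨r + a, by rw [q_add, hq, ha, S1.ω_comm, hr1, zero_add, add_zero],
            fun h => hr0 (add_eq_right.1 h), fun h => hrx (by rw [← h, add_comm r a, add_add_self]),
            by rw [map_add, hr1, S1.ω_self, add_zero], by rw [map_add, hr2, S1.ω_comm c a, hω, add_zero]⟩
        · exact ⟨r, hq, hra, hrc, hr1, hr2⟩
      set d := S1.img g b with hd
      have hqd : S1.q d = 1 := by rw [hd, hqk hg hn, hb1]
      have had : S1.ω a d = 0 := by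
        rw [hd, ← hn.img_ω, ← hc, hsq, hcb]
      have hcd : S1.ω c d = 0 := by rw [hd, hc, hn.img_ω, hab]
      obtain ⟨δ', hδ', hδn', hδi'⟩ := comm hg hn a b ha hb1 hab
      have hid' := mon_of_fix hyp hns hA hδ' hδn' ha (by
        rw [hδi', ← hc, ← hd, τ_self, τ_fix S1 (v := b) (by rw [S1.ω_comm, hab]),
          τ_fix S1 (v := d) (by rw [S1.ω_comm, had]), τ_fix S1 (v := c) (by rw [S1.ω_comm, hω])])
      have hmaps' : ∀ x, S1.τ c (S1.τ d x) = S1.τ a (S1.τ b x) := fun x => by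
        have := hδi' (S1.τ a (S1.τ b x))
        rw [hid', ← hc, ← hd, τ_τ, τ_τ] at this
        exact this.symm
      rcases pair_eq S1 hqc hqd ha hb1 hcd hab (fun h => hba (hn.img_inj (hc ▸ hd ▸ h)).symm) hmaps' with
        ⟨h, -⟩ | ⟨h, -⟩
      · exact hac h
      · exact hbc h.symm
    · exact hP (plus_of_involution S1 hn.lin hsq fun x hx => (z2_cases _).resolve_right fun hq => nofix x hq hx)
  by_contra hne
  have nofix : ∀ r, S1.q r = 1 → S1.img g r ≠ r := fun r hr e => hne (mon_of_fix hyp hns hA hg hn hr e)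
  obtain ⟨a, ha⟩ := exists_ns S1 hA
  have hω : S1.ω a (S1.img g a) = 1 := (z2_cases _).resolve_left fun e => hne (f0 hg hn a ha e)
  set d := S1.img g⁻¹ a with hd
  have hgd : S1.img g d = a := by rw [hd, ← img_mul hn hn.inv, mul_inv_cancel, img_one]
  have had : S1.ω a d = 1 := by
    rw [← hn.img_ω, hgd, S1.ω_comm]
    exact hω
  obtain ⟨y, hy0, hqy, hay, hdy⟩ := exists_singular S1 hA hb ha (by rw [hd, hqk (inv_mem hg) hn.inv, ha]) had
  have hgy : S1.ω a (S1.img g y) = 0 := by rw [← hgd, hn.img_ω, hdy]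
  have hqc : S1.q (a + y) = 1 := by rw [q_add, ha, hqy, hay, add_zero, add_zero]
  have hac : S1.ω a (a + y) = 0 := by rw [map_add, S1.ω_self, hay, add_zero]
  obtain ⟨δ, hδ, hδn, hδi⟩ := comm hg hn a (a + y) ha hqc hac
  have hδa : S1.img δ a = a + S1.img g y := by
    rw [hδi, τ_self, τ_fix S1 (v := a + y) (by rw [S1.ω_comm, hac]), hn.img_add,
      τ_mv S1 (v := S1.img g a + S1.img g y) (by rw [S1.ω_comm, map_add, hω, hgy, add_zero]),
      τ_mv S1 (v := S1.img g a) (by
        rw [map_add, map_add, S1.ω_comm _ a, hω, S1.ω_self, hn.img_ω, hay, add_zero, add_zero])]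
    rw [add_assoc, add_comm (S1.img g a) (S1.img g y), add_assoc, add_self_zero, add_zero]
  have := f0 hδ hδn a ha (by rw [hδa, map_add, S1.ω_self, hgy, add_zero]) a
  rw [hδa, add_eq_left] at this
  exact hy0 (hn.img_inj (by rw [this, hn.img_zero]))

end lowMon

/-- the signs in a group -/
def sgnSub (K : Subgroup (GL ι F)) : Subgroup K :=
  { carrier := {x | ∃ s : F, (s = 1 ∨ s = -1) ∧ ((x : GL ι F) : Matrix ι ι F) = s • 1}
    one_mem' := ⟨1, Or.inl rfl, by simp⟩
    mul_mem' := by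
      rintro x y ⟨s, hs, ex⟩ ⟨t, ht, ey⟩
      refine ⟨s * t, ?_, ?_⟩
      · rcases hs with rfl | rfl <;> rcases ht with rfl | rfl <;> simp
      · rw [Subgroup.coe_mul, Units.val_mul, ex, ey, Matrix.smul_mul, one_mul, smul_smul]
    inv_mem' := by
      rintro x ⟨s, hs, ex⟩
      refine ⟨s, hs, ?_⟩
      have hxx : (x : GL ι F) * (x : GL ι F) = 1 := Units.ext (by
        rw [Units.val_mul, ex, Matrix.smul_mul, one_mul, smul_smul, Units.val_one]
        rcases hs with rfl | rfl <;> simp)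
      rw [Subgroup.coe_inv, inv_eq_of_mul_eq_one_right hxx, ex] }

instance (K : Subgroup (GL ι F)) : (sgnSub K).Normal := ⟨by
  rintro x ⟨s, hs, ex⟩ y
  refine ⟨s, hs, ?_⟩
  rw [Subgroup.coe_mul, Subgroup.coe_mul, Units.val_mul, Units.val_mul, ex, Matrix.mul_smul, Matrix.smul_mul,
    mul_one, Subgroup.coe_inv, ← Units.val_mul, mul_inv_cancel, Units.val_one]⟩

/-- the monomials in a group -/
def monSub (S1 : Sys A ι F) (K : Subgroup (GL ι F)) : Subgroup K :=
  { carrier := {x | Mon S1 (x : GL ι F)}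
    one_mem' := ⟨0, 1, Or.inl rfl, by simp [S1.e_zero]⟩
    mul_mem' := by
      rintro x y ⟨v, s, hs, ex⟩ ⟨w, t, ht, ey⟩
      refine ⟨v + w, s * t * sgn F (S1.β v w), ?_, ?_⟩
      · rcases hs with rfl | rfl <;> rcases ht with rfl | rfl <;> rcases z2_cases (S1.β v w) with h | h <;>
          simp [h]
      · rw [Subgroup.coe_mul, Units.val_mul, ex, ey, Matrix.smul_mul, Matrix.mul_smul, S1.e_mul, smul_smul,
          smul_smul]
    inv_mem' := by
      rintro x ⟨v, s, hs, ex⟩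
      refine ⟨v, s * sgn F (S1.q v), ?_, ?_⟩
      · rcases hs with rfl | rfl <;> rcases z2_cases (S1.q v) with h | h <;> simp [h]
      · rw [Subgroup.coe_inv]
        have hxx : ((x : GL ι F) : Matrix ι ι F) * ((s * sgn F (S1.q v)) • S1.e v) = 1 := by
          rw [ex, Matrix.smul_mul, Matrix.mul_smul, S1.e_sq, smul_smul, smul_smul, mul_assoc, mul_assoc,
            sgn_mul_self]
          rcases hs with rfl | rfl <;> simp
        exact Units.inv_eq_of_mul_eq_one_right hxx }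

section lowMon2

variable (hyp : S1.dp.RHyp (dblΦ Φ) H)
include hyp
variable (hns : ∀ r, S1.dp.q r = 1 → ∀ h ∈ H, (∃ c, S1.dp.Carries h r r c) → S1.dp.Norm h)
include hns

/-- the lower group consists of monomials -/
theorem mon_of_low [Finite F] (hA : 16 ≤ Fintype.card A) (hb : 64 ≤ Fintype.card A ∨ ¬ S1.Plus) {g : GL ι F}
    (hg : g ∈ low H) : Mon S1 g := by
  classical
  let π := QuotientGroup.mk' (sgnSub (low H))
  have hZM : sgnSub (low H) ≤ monSub S1 (low H) := fun x ⟨s, hs, ex⟩ => ⟨0, s, hs, by rw [ex, S1.e_zero]⟩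
  have hcom : ∀ p ∈ (monSub S1 (low H)).map π, ∀ p' ∈ (monSub S1 (low H)).map π, p * p' = p' * p := by
    rintro _ ⟨x, ⟨v, s, -, ex⟩, rfl⟩ _ ⟨y, ⟨w, t, -, ey⟩, rfl⟩
    rw [← map_mul, ← map_mul]
    refine (QuotientGroup.mk'_eq_mk' (sgnSub (low H))).2 ⟨(x * y)⁻¹ * (y * x), ?_, mul_inv_cancel_left _ _⟩
    refine ⟨sgn F (S1.ω w v), ?_, ?_⟩
    · rcases z2_cases (S1.ω w v) with h | h <;> simp [h]
    · have e : ((y : GL ι F) : Matrix ι ι F) * ((x : GL ι F) : Matrix ι ι F) =
          sgn F (S1.ω w v) • (((x : GL ι F) : Matrix ι ι F) * ((y : GL ι F) : Matrix ι ι F)) := by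
        rw [ex, ey]
        simp only [Matrix.smul_mul, Matrix.mul_smul, smul_smul]
        rw [S1.e_comm w v, smul_smul]
        congr 1
        ring
      rw [Subgroup.coe_mul, Subgroup.coe_inv, Subgroup.coe_mul, Subgroup.coe_mul, Units.val_mul,
        Units.val_mul ((y : GL ι F)), e, Matrix.mul_smul, ← Units.val_mul ((x : GL ι F)), ← Units.val_mul,
        inv_mul_cancel, Units.val_one]
  have hsq : ∀ p ∈ (monSub S1 (low H)).map π, p ^ 2 = 1 := by
    rintro _ ⟨x, ⟨v, s, hs, ex⟩, rfl⟩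
    rw [← map_pow]
    refine (QuotientGroup.eq_one_iff _).2 ⟨sgn F (S1.q v), ?_, ?_⟩
    · rcases z2_cases (S1.q v) with h | h <;> simp [h]
    · rw [pow_two, Subgroup.coe_mul, Units.val_mul, ex, Matrix.smul_mul, Matrix.mul_smul, S1.e_sq, smul_smul,
        smul_smul]
      rcases hs with rfl | rfl <;> simp
  -- an element commuting with a monomial modulo signs carries its line
  have hcar : ∀ (x : low H) (m : low H) (v : A) (s : F), (s = 1 ∨ s = -1) →
      ((m : GL ι F) : Matrix ι ι F) = s • S1.e v → π x * π m = π m * π x →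
      ∃ c, S1.Carries (x : GL ι F) v v c := by
    intro x m v s hs em h
    rw [← map_mul, ← map_mul] at h
    obtain ⟨z, ⟨t, -, ez⟩, hz⟩ := (QuotientGroup.mk'_eq_mk' (sgnSub (low H))).1 h.symm
    refine ⟨t, ?_⟩
    have e := congrArg (fun y : low H => ((y : GL ι F) : Matrix ι ι F)) hz
    simp only [Subgroup.coe_mul, Units.val_mul, em, ez, Matrix.smul_mul, Matrix.mul_smul, mul_one, smul_smul] at e
    show _ = t • _
    rcases hs with rfl | rfl
    · rw [← one_smul F ((((x : GL ι F)) : Matrix ι ι F) * S1.e v), ← mul_one t]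
      exact e.symm
    · refine smul_right_injective _ (neg_ne_zero.2 one_ne_zero : (-1 : F) ≠ 0) ?_
      simp only [smul_smul]
      rw [← e, mul_comm]
  have hua : ∀ v, S1.u v ∈ low H := fun v => mon_low hyp hA ⟨v, 1, Or.inl rfl, by rw [u_val, one_smul]⟩
  obtain ⟨uu, huu⟩ : ∃ uu : A → low H, ∀ v, ((uu v : low H) : GL ι F) = S1.u v :=
    ⟨fun v => ⟨S1.u v, hua v⟩, fun _ => rfl⟩
  obtain ⟨e, he⟩ : ∃ e : A → low H ⧸ sgnSub (low H), ∀ v, e v = π (uu v) := ⟨_, fun _ => rfl⟩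
  have heP : ∀ v, e v ∈ (monSub S1 (low H)).map π := fun v =>
    ⟨uu v, ⟨v, 1, Or.inl rfl, by rw [huu, u_val, one_smul]⟩, (he v).symm⟩
  have hmemP : ∀ x : low H, π x ∈ (monSub S1 (low H)).map π → Mon S1 (x : GL ι F) := by
    rintro x ⟨y, hy, hyx⟩
    obtain ⟨z, hz, rfl⟩ := (QuotientGroup.mk'_eq_mk' (sgnSub (low H))).1 hyx
    exact (monSub S1 (low H)).mul_mem hy (hZM hz)
  have hnorm : Subgroup.normalizer (((monSub S1 (low H)).map π : Subgroup _) : Set (low H ⧸ sgnSub (low H))) ≤ (monSub S1 (low H)).map π := by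
    intro q hq
    obtain ⟨x, rfl⟩ := QuotientGroup.mk'_surjective (sgnSub (low H)) q
    refine ⟨x, mon_of_norm hyp hns hA hb x.2 fun v => ?_, rfl⟩
    have h1 := (Subgroup.mem_normalizer_iff.1 hq (e v)).1 (heP v)
    rw [he, ← map_inv, ← map_mul, ← map_mul] at h1
    obtain ⟨w, s, -, hw⟩ := hmemP _ h1
    rw [Subgroup.coe_mul, Subgroup.coe_mul, Subgroup.coe_inv, Units.val_mul, Units.val_mul, huu, u_val] at hw
    refine ⟨w, s, ?_⟩
    rw [← Matrix.smul_mul, ← hw, mul_assoc, ← Units.val_mul, inv_mul_cancel, Units.val_one, mul_one]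
  obtain ⟨a, ha⟩ := exists_ns S1 hA
  obtain ⟨b, hb1, hab⟩ := exists_ns_one S1 hA ha
  have hab' : e a * e b = e (a + b) := by
    rw [he, he, he, ← map_mul]
    refine (QuotientGroup.mk'_eq_mk' (sgnSub (low H))).2
      ⟨(uu a * uu b)⁻¹ * uu (a + b), ?_, mul_inv_cancel_left (uu a * uu b) (uu (a + b))⟩
    refine ⟨sgn F (S1.β a b), ?_, ?_⟩
    · rcases z2_cases (S1.β a b) with h | h <;> simp [h]
    · have h0 : S1.e (a + b) = sgn F (S1.β a b) • (S1.e a * S1.e b) := by
        rw [S1.e_mul, smul_smul, sgn_mul_self, one_smul]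
      simp only [Subgroup.coe_mul, Subgroup.coe_inv, Units.val_mul, huu, u_val, h0, Matrix.mul_smul]
      rw [← u_val, ← u_val, ← Units.val_mul, ← Units.val_mul, inv_mul_cancel, Units.val_one]
  have hfix : ∀ a, S1.q a = 1 → ∀ o, e a * o = o * e a → o ∈ (monSub S1 (low H)).map π := by
    intro a ha o h
    obtain ⟨x, rfl⟩ := QuotientGroup.mk'_surjective (sgnSub (low H)) o
    rw [he] at h
    obtain ⟨c, hc⟩ := hcar x (uu a) a 1 (Or.inl rfl) (by rw [huu, u_val, one_smul]) h.symm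
    exact ⟨x, mon_of_carries hyp hns hA x.2 ha hc, rfl⟩
  have htop := eq_top_of_selfNorm _ hcom hsq hnorm hab' (heP a) (heP b) (hfix a ha) (hfix b hb1)
    (hfix (a + b) (by rw [q_add, ha, hb1, hab, one_add_one, zero_add]))
  exact hmemP ⟨g, hg⟩ (by rw [htop]; exact Subgroup.mem_top _)

/-- the centraliser of the diagonal bit normalises -/
theorem norm_of_carries_zb [Finite F] (hA : 16 ≤ Fintype.card A) (hb : 64 ≤ Fintype.card A ∨ ¬ S1.Plus) :
    ∀ h ∈ H, (∃ c, S1.dp.Carries h zb zb c) → S1.dp.Norm h := by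
  have main : ∀ h ∈ H, S1.dp.Carries h zb zb 1 → S1.dp.Norm h := by
    intro h hh hc
    obtain ⟨g, g', rfl⟩ := eq_diag_of_comm (h := h) S1.two_ne (by
      rw [← S1.dp_e_zb]
      exact hc.trans (one_smul F _))
    have hmon : ∀ {k k' : GL ι F}, diag k k' ∈ H → S1.Norm k := fun {k k'} hk v => by
      obtain ⟨w, s, -, e⟩ := mon_of_low hyp hns hA hb
        (low_conj hyp (mon_low hyp hA (g := S1.u v) ⟨v, 1, Or.inl rfl, by rw [u_val, one_smul]⟩) hk)
      refine ⟨w, s, ?_⟩
      rw [Units.val_mul, Units.val_mul, u_val] at e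
      rw [← Matrix.smul_mul, ← e, mul_assoc, ← Units.val_mul, inv_mul_cancel, Units.val_one, mul_one]
    have hg := hmon hh
    have hg' := hmon (swap_mem hyp hh)
    obtain ⟨hgi, hgi'⟩ := (diag_mem_iso (σ := RingHom.id F)).1 (hyp.le hh)
    have hqk : ∀ {k : GL ι F}, k ∈ isoGrp (RingHom.id F) Φ → S1.Norm k → ∀ a, S1.q (S1.img k a) = S1.q a := by
      intro k hk hkn a
      obtain ⟨c, -, e⟩ := hkn.img_spec a
      exact ((rhyp (unit₁ hyp) (iso₁ hyp)).carry_q hk e).symm
    have hpair : ∀ a b, S1.q a = 1 → S1.q b = 1 → S1.ω a b = 0 → ∀ x,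
        S1.τ (S1.img g' a) (S1.τ (S1.img g' b) x) = S1.τ (S1.img g a) (S1.τ (S1.img g b) x) := by
      intro a b ha hb' hab
      obtain ⟨n, hnn, hni, hnH⟩ := exists_lift₁ hyp ha hb' hab
      obtain ⟨n1, hnn1, hni1, hnH1⟩ := exists_lift₁ hyp ((hqk hgi hg a).trans ha) ((hqk hgi hg b).trans hb')
        ((hg.img_ω a b).trans hab)
      have himg : ∀ {k : GL ι F}, S1.Norm k → ∀ x, S1.img (n1⁻¹ * (k * n * k⁻¹)) x =
          S1.img n1⁻¹ (S1.τ (S1.img k a) (S1.τ (S1.img k b) x)) := fun {k} hk x => by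
        rw [img_mul hnn1.inv ((hk.mul hnn).mul hk.inv), img_mul (hk.mul hnn) hk.inv, img_mul hk hnn, hni,
          img_τ hk, img_τ hk, ← img_mul hk hk.inv, mul_inv_cancel, img_one]
      have hH : diag (n1⁻¹ * (g * n * g⁻¹)) (n1⁻¹ * (g' * n * g'⁻¹)) ∈ H := by
        rw [← diag_mul, ← diag_inv n1 n1, ← diag_mul (g * n), ← diag_mul g g', ← diag_inv g g']
        exact H.mul_mem (H.inv_mem hnH1) (H.mul_mem (H.mul_mem hh hnH) (H.inv_mem hh))
      obtain ⟨hiso, -⟩ := (diag_mem_iso (σ := RingHom.id F)).1 (hyp.le hH)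
      have hm1 : Mon S1 (n1⁻¹ * (g * n * g⁻¹)) := Mon.of_img (unit₁ hyp) (iso₁ hyp) hiso
        (hnn1.inv.mul ((hg.mul hnn).mul hg.inv)) fun x => by rw [himg hg, ← hni1, img_inv hnn1]
      have h1 := H.mul_mem (H.inv_mem (swap_mem hyp (mon_low hyp hA hm1))) hH
      rw [diag_inv, diag_mul, inv_mul_cancel, inv_one, one_mul] at h1
      intro x
      have := (mon_of_low hyp hns hA hb h1).norm.2 x
      rw [himg hg'] at this
      have e := congrArg (S1.img n1) this
      rw [← img_mul hnn1 hnn1.inv, mul_inv_cancel, img_one, hni1] at e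
      exact e
    have hns1 : ∀ a, S1.q a = 1 → S1.img g' a = S1.img g a := by
      intro a ha
      obtain ⟨b, b', hb1, hb1', hab, hab', hba, hba', hbb⟩ := exists_two_partners S1 hA ha
      have key : ∀ b, S1.q b = 1 → S1.ω a b = 0 → b ≠ a →
          S1.img g' a = S1.img g a ∨ S1.img g' a = S1.img g b := fun b hb' hab hne => by
        rcases pair_eq S1 ((hqk hgi' hg' a).trans ha) ((hqk hgi' hg' b).trans hb') ((hqk hgi hg a).trans ha)
            ((hqk hgi hg b).trans hb') ((hg'.img_ω a b).trans hab) ((hg.img_ω a b).trans hab)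
            (fun h => hne (hg'.img_inj h).symm) (hpair a b ha hb' hab) with ⟨h, -⟩ | ⟨h, -⟩
        · exact Or.inl h
        · exact Or.inr h
      rcases key b hb1 hab hba with h | h
      · exact h
      rcases key b' hb1' hab' hba' with h' | h'
      · exact h'
      exact absurd (hg.img_inj (h.symm.trans h')) hbb
    have hm : Mon S1 (g⁻¹ * g') := Mon.of_img (unit₁ hyp) (iso₁ hyp) (Subgroup.mul_mem _ (Subgroup.inv_mem _ hgi) hgi')
      (hg.inv.mul hg') fun x => by
        rw [img_mul hg.inv hg', ext_ns S1 hA hg'.img_add hg.img_add hns1 x, img_inv hg]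
    obtain ⟨v, s, hs, e⟩ := hm
    rw [show diag g g' = diag g g * diag 1 (g⁻¹ * g') by rw [diag_mul, mul_one, mul_inv_cancel_left]]
    exact (S1.diag_self_mem hg).mul (S1.diag_one_mem e (Or.inl (by rcases hs with rfl | rfl <;> simp)))
  rintro h hh ⟨c, hc⟩
  rcases mul_self_eq_one_iff.1 (hyp.carry_sq (hyp.le hh) hc) with rfl | rfl
  · exact main h hh hc
  · have hω : S1.dp.ω xb zb = 1 := by
      rw [xb, zb, dp_ω_apply]; simp
    have hc' : (h : Matrix (ι ⊕ ι) (ι ⊕ ι) F) * S1.dp.e zb =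
        (-1 : F) • (S1.dp.e zb * (h : Matrix (ι ⊕ ι) (ι ⊕ ι) F)) := hc
    have hN := main (S1.dp.u xb * h) (H.mul_mem (hyp.u_mem _) hh) (by
      show _ = (1 : F) • _
      rw [Units.val_mul, u_val, mul_assoc, hc', Matrix.mul_smul, ← mul_assoc, S1.dp.e_comm xb zb, hω, sgn_one,
        Matrix.smul_mul, smul_smul, mul_assoc, show (-1 : F) * -1 = 1 by ring])
    rw [show h = (S1.dp.u xb)⁻¹ * (S1.dp.u xb * h) from (inv_mul_cancel_left _ _).symm]
    exact (S1.dp.u_mem xb).inv.mul hN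

end lowMon2

end Sys.RealZ

end Cfsg.Agent.Forms.Max.TwoGroup
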