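import Cfsg.Agent.Lib.Forms.Max.TwoGroup.RealJ
import Cfsg.Agent.Lib.Forms.Max.TwoGroup.RealZ
import Cfsg.Agent.Lib.Forms.Max.TwoGroup.RealMove
import Cfsg.Agent.Lib.Forms.Max.TwoGroup.RealFinal
import Cfsg.Agent.Lib.Forms.Max.TwoGroup.Dichotomy

/-!
# The dichotomy of the real kind for plus type

A system of plus type is similar to a doubled system of plus type with the standard form, in which the complex
structure and the diagonal sign matrix are the monomials of the two distinguished vectors.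
-/

set_option autoImplicit false
set_option linter.unusedSectionVars false

namespace Cfsg.Agent.Forms.Max.TwoGroup

open Matrix

variable {F : Type*} [Field F]

/-- systems of plus type of every dimension with orthogonal monomials -/
theorem exists_plus_sys (h2 : (2 : F) ≠ 0) (m : ℕ) :
    ∃ (κ : Type) (_ : Fintype κ) (_ : DecidableEq κ) (B : Type) (_ : AddCommGroup B) (_ : Module (ZMod 2) B)
      (_ : Fintype B) (S : Sys B κ F), Fintype.card B = 4 ^ m ∧ S.Plus ∧
      ∀ a : B, S.u a ∈ isoGrp (RingHom.id F) (1 : Matrix κ κ F) := by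
  induction m with
  | zero =>
    refine ⟨Unit, inferInstance, inferInstance, PUnit, inferInstance, inferInstance, inferInstance,
      { e := fun _ => 1, β := 0, two_ne := h2, card_ne := by simp, e_zero := rfl,
        e_mul := fun _ _ => by simp, trace_eq := fun a ha => absurd (Subsingleton.elim a 0) ha,
        card_eq := by simp, nondeg := fun a _ => Subsingleton.elim a 0 }, by simp, ⟨⊥, ?_, ?_⟩, fun a => ?_⟩
    · intro u _
      simp [Sys.q]
    · simp [Module.finrank_zero_of_subsingleton]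
    · simp [mem_isoGrp]
  | succ m ih =>
    obtain ⟨κ, _, _, B, _, _, _, S, hB, hp, hu⟩ := ih
    refine ⟨κ ⊕ κ, inferInstance, inferInstance, (ZMod 2 × ZMod 2) × B, inferInstance, inferInstance,
      inferInstance, S.dp, by rw [Sys.dp_card, hB, pow_succ]; ring,
      Sys.plus_dbl _ S (Sys.twoPlus_plus S.two_ne) hp, fun a => ?_⟩
    have h := S.dp_u_mem_iso hu a
    rwa [show dblΦ (1 : Matrix κ κ F) = 1 by simp [dblΦ, fromBlocks_one]] at h

namespace Sys

variable [Fintype F] {A : Type*} [AddCommGroup A] [Module (ZMod 2) A] [Fintype A] {ι : Type} [Fintype ι]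
  [DecidableEq ι] {S : Sys A ι F} {Φ : Matrix ι ι F} {H : Subgroup (GL ι F)}

/-- the dichotomy for plus type -/
theorem RHyp.dichotomy_plus (hF : (Fintype.card F).Prime) (hp : S.Plus) (hyp : S.RHyp Φ H)
    (hA : 256 ≤ Fintype.card A) :
    H ≤ S.norm ∨ ∀ r, S.q r = 1 → ∀ g ∈ isoGrp (RingHom.id F) Φ,
      g.val * S.e r = S.e r * g.val → (g.val - 1) * (g.val - 1) = 0 → g ∈ H := by
  classical
  obtain ⟨m, hm⟩ : ∃ m, Fintype.card A = 4 ^ m := by
    obtain ⟨m, hm⟩ := S.exists_finrank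
    have : Module.Finite (ZMod 2) A := Module.Finite.of_finite
    exact ⟨m, by rw [Module.card_eq_pow_finrank (K := ZMod 2) (V := A), ZMod.card, hm, pow_mul]; norm_num⟩
  obtain ⟨m, rfl⟩ : ∃ k, m = k + 1 := by
    rcases m with _ | m
    · simp at hm; omega
    · exact ⟨m, rfl⟩
  obtain ⟨κ, _, _, B, _, _, _, S₁, hB, hp₁, hu₁⟩ := exists_plus_sys S.two_ne (F := F) m
  have hB64 : 64 ≤ Fintype.card B := by rw [hB]; rw [hm, pow_succ] at hA; omega
  have hone : dblΦ (1 : Matrix κ κ F) = 1 := by simp [dblΦ, fromBlocks_one]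
  have hu' : ∀ a, S₁.dp.u a ∈ isoGrp (RingHom.id F) (1 : Matrix (κ ⊕ κ) (κ ⊕ κ) F) := fun a =>
    hone ▸ S₁.dp_u_mem_iso hu₁ a
  have hcard : Fintype.card ι = Fintype.card (κ ⊕ κ) := by
    have h1 := S.card_eq
    have h2 := S₁.card_eq
    rw [hm] at h1
    rw [hB] at h2
    refine Nat.pow_left_injective two_ne_zero ?_
    simp only [pow_two, Fintype.card_sum]
    rw [← h1, pow_succ, show (Fintype.card κ + Fintype.card κ) * (Fintype.card κ + Fintype.card κ) =
      4 * (Fintype.card κ * Fintype.card κ) by ring, ← h2]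
    ring
  obtain ⟨T⟩ := S.exists_sim S₁.dp hyp.unit (Φ' := 1) (by simp) hyp.iso hu' (Fintype.equivOfCardEq hcard)
    ⟨fun _ => plus_dbl _ S₁ (twoPlus_plus S₁.two_ne) hp₁, fun _ => hp⟩
  -- the distinguished vectors
  obtain ⟨a₀, ha₀⟩ := T.φ.surjective ((((1, 1) : ZMod 2 × ZMod 2), (0 : B)))
  obtain ⟨z₀, hz₀⟩ := T.φ.surjective (zb : (ZMod 2 × ZMod 2) × B)
  have hT : (twoPlus (F := F) S₁.two_ne).e (1, 1) = rot2 := by
    ext i j; fin_cases i <;> fin_cases j <;> simp [twoPlus, two, rot2]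
  have hqa : S.q a₀ = 1 := by
    rw [← T.map_q, ha₀]
    simp [q, twoPlus, two, cocycle, dp, dbl_β]
  have hqz : S.q z₀ = 0 := by
    rw [← T.map_q, hz₀]
    simp [q, twoPlus, two, cocycle, dp, dbl_β, zb]
  have hz0 : z₀ ≠ 0 := fun h => by rw [h, map_zero] at hz₀; simp [zb, Prod.ext_iff] at hz₀
  have hyp' := T.rhyp hyp (by simp) hqa
  refine hyp.le_norm_or_centralisers (by omega) hqa ?_ hz0 hqz ?_
  · refine T.pull_J ?_
    have he : S₁.dp.e ((1, 1), 0) = blk rot2 1 := by
      rw [show (((1, 1), 0) : (ZMod 2 × ZMod 2) × B) = (((1 : ZMod 2), (1 : ZMod 2)), (0 : B)) from rfl, dp, dbl_e]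
      simp only [hT, S₁.e_zero]
    rw [ha₀, he]
    exact cent_dichotomy_of_prime hF S₁ hu₁ (fun S' σ Ψ hk hu => S'.dich hk hu (by omega))
      (fun K _ _ S' σ Ψ hk hu => S'.dich hk hu (by omega)) (by omega) (twoPlus S₁.two_ne) hT (Or.inl rfl) hyp'
  · refine fun hns => T.pull_Z ?_ hns
    rw [hz₀]
    exact fun h' => RealZ.norm_of_carries_zb (S1 := S₁) (Φ := (1 : Matrix κ κ F)) (by rw [hone]; exact hyp') h'
      (by omega) (Or.inl hB64)

end Sys

end Cfsg.Agent.Forms.Max.TwoGroup
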