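import Cfsg.Agent.Lib.Forms.Max.TwoGroup.RealHyp
import Cfsg.Agent.Lib.Forms.Max.TwoGroup.Conj

/-!
# Transport along similar systems

An algebra isomorphism carrying monomials to monomials up to signs and isometries to isometries carries normalisers,
images and the real hypotheses. Two systems of the same type are similar.
-/

set_option autoImplicit false
set_option linter.unusedSectionVars false

namespace Cfsg.Agent.Forms.Max.TwoGroup

open Matrix

namespace Sys

variable {A A' ι ι' F : Type*} [AddCommGroup A] [Module (ZMod 2) A] [Fintype A] [AddCommGroup A']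
  [Module (ZMod 2) A'] [Fintype A'] [Field F] [Fintype ι] [DecidableEq ι] [Fintype ι'] [DecidableEq ι']

/-- similar systems -/
structure Sim (S : Sys A ι F) (S' : Sys A' ι' F) (Φ : Matrix ι ι F) (Φ' : Matrix ι' ι' F) where
  E : Matrix ι ι F ≃ₐ[F] Matrix ι' ι' F
  φ : A ≃ₗ[ZMod 2] A'
  c : A → F
  sq : ∀ a, c a * c a = 1
  map_q : ∀ a, S'.q (φ a) = S.q a
  map_e : ∀ a, E (S.e a) = c a • S'.e (φ a)
  map_iso : ∀ x : GL ι F, Units.mapEquiv E.toMulEquiv x ∈ isoGrp (RingHom.id F) Φ' ↔ x ∈ isoGrp (RingHom.id F) Φ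

namespace Sim

variable {S : Sys A ι F} {S' : Sys A' ι' F} {Φ : Matrix ι ι F} {Φ' : Matrix ι' ι' F} (T : Sim S S' Φ Φ')

/-- the isomorphism of the groups -/
def hom : GL ι F ≃* GL ι' F := Units.mapEquiv T.E.toMulEquiv

@[simp] theorem hom_val (x : GL ι F) : (T.hom x : Matrix ι' ι' F) = T.E (x : Matrix ι ι F) := rfl

theorem mem_iso {x : GL ι F} : T.hom x ∈ isoGrp (RingHom.id F) Φ' ↔ x ∈ isoGrp (RingHom.id F) Φ := T.map_iso x

theorem c_ne (a : A) : T.c a ≠ 0 := fun h => by simpa [h] using T.sq a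

theorem map_e' (a : A) : S'.e (T.φ a) = T.c a • T.E (S.e a) := by
  rw [T.map_e, smul_smul, T.sq, one_smul]

theorem map_ω (a b : A) : S'.ω (T.φ a) (T.φ b) = S.ω a b := by
  have h := T.map_q (a + b)
  rw [map_add, S'.q_add, S.q_add, T.map_q, T.map_q] at h
  exact add_left_cancel h

theorem carries {h : GL ι F} {a b : A} {k : F} (e : S.Carries h a b k) :
    S'.Carries (T.hom h) (T.φ a) (T.φ b) (k * T.c a * T.c b) := by
  have e' := congrArg T.E (show (h : Matrix ι ι F) * S.e a = k • (S.e b * (h : Matrix ι ι F)) from e)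
  rw [map_mul, map_smul, map_mul] at e'
  show (T.hom h : Matrix ι' ι' F) * S'.e (T.φ a) = _
  rw [hom_val, T.map_e', T.map_e', Matrix.mul_smul, e', Matrix.smul_mul, smul_smul, smul_smul,
    show T.c a * k = k * T.c a * T.c b * T.c b by rw [mul_assoc _ (T.c b) (T.c b), T.sq, mul_one, mul_comm]]

theorem carries_iff {h : GL ι F} {a b : A} :
    (∃ k, S'.Carries (T.hom h) (T.φ a) (T.φ b) k) ↔ ∃ k, S.Carries h a b k := by
  refine ⟨fun ⟨k, e⟩ => ⟨k * T.c a * T.c b, ?_⟩, fun ⟨k, e⟩ => ⟨_, T.carries e⟩⟩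
  have e' := congrArg T.E.symm (show T.E (h : Matrix ι ι F) * S'.e (T.φ a) =
    k • (S'.e (T.φ b) * T.E (h : Matrix ι ι F)) from e)
  rw [T.map_e', T.map_e', Matrix.mul_smul, Matrix.smul_mul, smul_smul, map_smul, map_smul, map_mul, map_mul,
    AlgEquiv.symm_apply_apply, AlgEquiv.symm_apply_apply, AlgEquiv.symm_apply_apply] at e'
  show (h : Matrix ι ι F) * S.e a = _
  have := congrArg (T.c a • ·) e'
  simp only [smul_smul, T.sq, one_smul] at this
  rw [this]
  congr 1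
  ring

theorem norm_iff {h : GL ι F} : S'.Norm (T.hom h) ↔ S.Norm h := by
  refine ⟨fun hn a => ?_, fun hn a' => ?_⟩
  · obtain ⟨b', k, e⟩ := hn (T.φ a)
    obtain ⟨b, rfl⟩ := T.φ.surjective b'
    obtain ⟨k', e'⟩ := T.carries_iff.1 ⟨k, e⟩
    exact ⟨b, k', e'⟩
  · obtain ⟨a, rfl⟩ := T.φ.surjective a'
    obtain ⟨b, k, e⟩ := hn a
    exact ⟨_, _, T.carries e⟩

theorem img_hom {h : GL ι F} (hn : S.Norm h) (a : A) : S'.img (T.hom h) (T.φ a) = T.φ (S.img h a) := by
  obtain ⟨k, -, e⟩ := hn.img_spec a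
  exact img_eq (T.carries e)

theorem hom_u (a : A) : ∃ k : F, k * k = 1 ∧ ((T.hom (S.u a) : GL ι' F) : Matrix ι' ι' F) = k • S'.e (T.φ a) :=
  ⟨T.c a, T.sq a, by rw [hom_val, u_val, T.map_e]⟩

/-- the image of an overgroup -/
def push (H : Subgroup (GL ι F)) : Subgroup (GL ι' F) := H.map T.hom.toMonoidHom

theorem mem_push {H : Subgroup (GL ι F)} {x : GL ι F} : T.hom x ∈ T.push H ↔ x ∈ H :=
  Subgroup.mem_map_iff_mem T.hom.injective

theorem push_le_push {H K : Subgroup (GL ι F)} : T.push H ≤ T.push K ↔ H ≤ K :=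
  Subgroup.map_le_map_iff_of_injective T.hom.injective

theorem push_iso : T.push (isoGrp (RingHom.id F) Φ) = isoGrp (RingHom.id F) Φ' := by
  ext y
  obtain ⟨x, rfl⟩ := T.hom.surjective y
  rw [mem_push, mem_iso]

theorem push_norm : T.push S.norm = S'.norm := by
  ext y
  obtain ⟨x, rfl⟩ := T.hom.surjective y
  rw [mem_push, mem_norm, mem_norm, T.norm_iff]

theorem rhyp {H : Subgroup (GL ι F)} (hyp : S.RHyp Φ H) (hΦ' : IsUnit Φ'.det) {b : A} (hb : S.q b = 1) :
    S'.RHyp Φ' (T.push H) := by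
  have hu : ∀ a, S'.u (T.φ a) ∈ T.push H := fun a => by
    obtain ⟨k, hk, e⟩ := T.hom_u a
    rcases mul_self_eq_one_iff.1 hk with rfl | rfl
    · rw [show S'.u (T.φ a) = T.hom (S.u a) from Units.ext (by rw [e, one_smul, u_val])]
      exact T.mem_push.2 (hyp.u_mem a)
    · rw [show S'.u (T.φ a) = T.hom (-1 * S.u a) from Units.ext (by
        have e' : T.E (S.e a) = (-1 : F) • S'.e (T.φ a) := e
        simp [e'])]
      exact T.mem_push.2 (H.mul_mem (hyp.neg_one_mem hb) (hyp.u_mem a))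
  refine ⟨hΦ', ?_, ?_, ?_, ?_⟩
  · intro a'
    obtain ⟨a, rfl⟩ := T.φ.surjective a'
    obtain ⟨x, hx, e⟩ := Subgroup.mem_map.1 (hu a)
    exact e ▸ T.mem_iso.2 (hyp.le hx)
  · exact T.push_iso ▸ T.push_le_push.2 hyp.le
  · intro a'
    obtain ⟨a, rfl⟩ := T.φ.surjective a'
    exact hu a
  · intro a' b' ha hb' hab
    obtain ⟨a, rfl⟩ := T.φ.surjective a'
    obtain ⟨d, rfl⟩ := T.φ.surjective b'
    rw [T.map_q] at ha hb'
    rw [T.map_ω] at hab
    obtain ⟨h, hh, hn, hi⟩ := hyp.lift a d ha hb' hab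
    refine ⟨T.hom h, T.mem_push.2 hh, T.norm_iff.2 hn, fun x' => ?_⟩
    obtain ⟨x, rfl⟩ := T.φ.surjective x'
    rw [T.img_hom hn, hi]
    simp only [τ, map_add, map_smul, T.map_ω, smul_eq_mul]

end Sim

/-- systems of the same type with invariant forms are similar -/
theorem exists_sim (S : Sys A ι F) (S' : Sys A' ι' F) {Φ : Matrix ι ι F} {Φ' : Matrix ι' ι' F} (hΦ : IsUnit Φ.det)
    (hΦ' : IsUnit Φ'.det) (hu : ∀ a, S.u a ∈ isoGrp (RingHom.id F) Φ)
    (hu' : ∀ a, S'.u a ∈ isoGrp (RingHom.id F) Φ') (ε : ι ≃ ι') (ht : S.Plus ↔ S'.Plus) :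
    Nonempty (Sim S S' Φ Φ') := by
  obtain ⟨φ, g, c, hq, hc, h⟩ := S.exists_conj_of_type S' ε ht
  obtain ⟨l, hl, hl'⟩ := S.form_conj ((S'.comap φ).reindex ε) (σ := RingHom.id F) hΦ
    (Φ' := Φ'.submatrix ε ε) (by rwa [Matrix.det_submatrix_equiv_self]) hu (fun a => by
      have h1 := mem_isoGrp.1 (hu' (φ a))
      rw [u_val] at h1
      rw [mem_isoGrp, u_val, reindex_e, comap_e]
      simp only [RingHom.coe_id, Matrix.map_id] at h1 ⊢
      rw [Matrix.transpose_submatrix, Matrix.submatrix_mul_equiv, Matrix.submatrix_mul_equiv, h1])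
    (g := g) (c := c) hc h
  simp only [RingHom.coe_id, Matrix.map_id] at hl'
  let E : Matrix ι ι F ≃ₐ[F] Matrix ι' ι' F :=
    (AlgEquiv.ofLinearEquiv
      { toFun := fun X => (g : Matrix ι ι F) * X * ((g⁻¹ : GL ι F) : Matrix ι ι F)
        map_add' := fun X Y => by rw [mul_add, add_mul]
        map_smul' := fun k X => by rw [Matrix.mul_smul, Matrix.smul_mul, RingHom.id_apply]
        invFun := fun X => ((g⁻¹ : GL ι F) : Matrix ι ι F) * X * (g : Matrix ι ι F)
        left_inv := fun X => by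
          simp only [← mul_assoc, Units.inv_mul, one_mul]
          rw [mul_assoc, Units.inv_mul, mul_one]
        right_inv := fun X => by
          simp only [← mul_assoc, Units.mul_inv, one_mul]
          rw [mul_assoc, Units.mul_inv, mul_one] }
      (by simp) fun X Y => by
        show (g : Matrix ι ι F) * (X * Y) * ((g⁻¹ : GL ι F) : Matrix ι ι F) = _ * _
        simp only [LinearEquiv.coe_mk, LinearMap.coe_mk, AddHom.coe_mk, mul_assoc]
        rw [← mul_assoc ((g⁻¹ : GL ι F) : Matrix ι ι F) (g : Matrix ι ι F), Units.inv_mul, one_mul]).trans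
      (Matrix.reindexAlgEquiv F F ε)
  refine ⟨⟨E, φ, c, hc, hq, fun a => ?_, fun x => ?_⟩⟩
  · show (((g : Matrix ι ι F) * S.e a * ((g⁻¹ : GL ι F) : Matrix ι ι F)).submatrix ε.symm ε.symm) = _
    rw [h a, Matrix.smul_mul, mul_assoc, Units.mul_inv, mul_one, Matrix.submatrix_smul, Pi.smul_apply, Pi.smul_apply,
      Matrix.submatrix_submatrix]
    simp
  · rw [mem_isoGrp, mem_isoGrp]
    simp only [RingHom.coe_id, Matrix.map_id]
    show (((g : Matrix ι ι F) * (x : Matrix ι ι F) * ((g⁻¹ : GL ι F) : Matrix ι ι F)).submatrix ε.symm ε.symm)ᵀ * Φ' *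
      (((g : Matrix ι ι F) * (x : Matrix ι ι F) * ((g⁻¹ : GL ι F) : Matrix ι ι F)).submatrix ε.symm ε.symm) = Φ' ↔ _
    have hg1 : ((g⁻¹ : GL ι F) : Matrix ι ι F)ᵀ * (g : Matrix ι ι F)ᵀ = 1 := by
      rw [← Matrix.transpose_mul, Units.mul_inv, Matrix.transpose_one]
    have hg2 : (g : Matrix ι ι F)ᵀ * ((g⁻¹ : GL ι F) : Matrix ι ι F)ᵀ = 1 := by
      rw [← Matrix.transpose_mul, Units.inv_mul, Matrix.transpose_one]
    have eΦ : Φ'.submatrix ε ε = l • (((g⁻¹ : GL ι F) : Matrix ι ι F)ᵀ * Φ * ((g⁻¹ : GL ι F) : Matrix ι ι F)) := by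
      rw [← Matrix.smul_mul, ← Matrix.mul_smul, ← hl']
      simp only [← mul_assoc, hg1, one_mul]
      rw [mul_assoc, Units.mul_inv, mul_one]
    have e0 : Φ' = (Φ'.submatrix ε ε).submatrix ε.symm ε.symm := by simp
    conv_lhs => rw [e0, Matrix.transpose_submatrix, Matrix.submatrix_mul_equiv, Matrix.submatrix_mul_equiv]
    rw [← Matrix.reindex_apply, ← Matrix.reindex_apply, (Matrix.reindex ε ε).injective.eq_iff, eΦ]
    constructor
    · intro e1
      have e3 := congrArg (fun Y => (g : Matrix ι ι F)ᵀ * Y * (g : Matrix ι ι F)) e1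
      simp only [Matrix.transpose_mul, Matrix.mul_smul, Matrix.smul_mul] at e3
      have e4 := smul_right_injective (Matrix ι ι F) hl e3
      simp only [← mul_assoc, hg2, one_mul] at e4
      simpa only [mul_assoc, Units.inv_mul, mul_one, ← mul_assoc ((g⁻¹ : GL ι F) : Matrix ι ι F) (g : Matrix ι ι F),
        ← mul_assoc ((g⁻¹ : GL ι F) : Matrix ι ι F)ᵀ (g : Matrix ι ι F)ᵀ, hg1,
        ← mul_assoc (g : Matrix ι ι F)ᵀ ((g⁻¹ : GL ι F) : Matrix ι ι F)ᵀ, hg2, one_mul] using e4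
    · intro e1
      rw [Matrix.mul_smul, Matrix.smul_mul]
      congr 1
      conv_rhs => rw [← e1]
      simp only [Matrix.transpose_mul, mul_assoc]
      simp only [← mul_assoc ((g⁻¹ : GL ι F) : Matrix ι ι F) (g : Matrix ι ι F), Units.inv_mul, one_mul,
        ← mul_assoc (g : Matrix ι ι F)ᵀ ((g⁻¹ : GL ι F) : Matrix ι ι F)ᵀ, hg2]

end Sys

end Cfsg.Agent.Forms.Max.TwoGroup
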