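import Cfsg.Agent.Lib.Forms.Max.TwoGroup.SpGlue
import Cfsg.Agent.Lib.Forms.Max.TwoGroup.RealFinal
import Cfsg.Agent.Lib.Forms.Max.TwoGroup.RealJ
import Cfsg.Agent.Lib.Forms.Max.TwoGroup.RealZ
import Cfsg.Agent.Lib.Forms.Max.TwoGroup.RealTransport
import Cfsg.Agent.Lib.Forms.Max.TwoGroup.RealGenSymp
import Cfsg.Agent.Lib.Forms.Max.TwoGroup.Dichotomy

/-!
# The normaliser of `2^{1+6}_-` is maximal in `Sp_8(p)`
-/

set_option autoImplicit false
set_option linter.unusedSectionVars false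

namespace Cfsg.Agent.Forms.Max.TwoGroup

open Matrix

variable {F : Type*} [Field F]

namespace Sys

theorem blk_u_mem_iso {A ι : Type*} [AddCommGroup A] [Module (ZMod 2) A] [Fintype A] [Fintype ι] [DecidableEq ι]
    (T : Sys (ZMod 2 × ZMod 2) (Fin 2) F) (S : Sys A ι F) {Ψ : Matrix (Fin 2) (Fin 2) F} {Φ : Matrix ι ι F}
    (hT : ∀ a, T.u a ∈ isoGrp (RingHom.id F) Ψ) (hS : ∀ a, S.u a ∈ isoGrp (RingHom.id F) Φ)
    (p : (ZMod 2 × ZMod 2) × A) : (dbl T S).u p ∈ isoGrp (RingHom.id F) (blk Ψ Φ) := by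
  have h1 := mem_isoGrp.1 (hT p.1)
  have h3 := mem_isoGrp.1 (hS p.2)
  simp only [u_val, RingHom.coe_id, Matrix.map_id] at h1 h3
  rw [mem_isoGrp]
  simp only [u_val, RingHom.coe_id, Matrix.map_id, dbl_e]
  rw [blk_transpose, blk_mul, blk_mul, h1, h3]

theorem twoPlus_iso (h2 : (2 : F) ≠ 0) (a : ZMod 2 × ZMod 2) :
    (twoPlus h2).u a ∈ isoGrp (RingHom.id F) (1 : Matrix (Fin 2) (Fin 2) F) := by
  rw [mem_isoGrp]
  simp only [u_val, RingHom.coe_id, Matrix.map_id]
  obtain ⟨x, y⟩ := a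
  rcases z2_cases x with rfl | rfl <;> rcases z2_cases y with rfl | rfl <;>
    ext i j <;> fin_cases i <;> fin_cases j <;> simp [twoPlus, two, Matrix.mul_apply, Fin.sum_univ_two]

theorem twoMinus_iso (h2 : (2 : F) ≠ 0) (a b : F) (h : a * a + b * b = -1) (p : ZMod 2 × ZMod 2) :
    (twoMinus h2 a b h).u p ∈ isoGrp (RingHom.id F) (rot2 : Matrix (Fin 2) (Fin 2) F) := by
  rw [mem_isoGrp]
  simp only [u_val, RingHom.coe_id, Matrix.map_id]
  obtain ⟨x, y⟩ := p
  rcases z2_cases x with rfl | rfl <;> rcases z2_cases y with rfl | rfl <;>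
    ext i j <;> fin_cases i <;> fin_cases j <;> simp [twoMinus, two, rot2, refl2, Matrix.mul_apply, Fin.sum_univ_two] <;>
    first | ring1 | linear_combination h | linear_combination -h

theorem isUnit_blk_rot2 {ι : Type*} [Fintype ι] [DecidableEq ι] :
    IsUnit (blk rot2 (1 : Matrix ι ι F)).det := by
  have h : blk (-rot2) (1 : Matrix ι ι F) * blk rot2 1 = 1 := by
    rw [blk_mul, mul_one, ← blk_one]
    congr 1
    ext i j; fin_cases i <;> fin_cases j <;> simp [rot2, Matrix.mul_apply, Fin.sum_univ_two]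
  exact Matrix.isUnit_det_of_left_inverse h

variable {A ι : Type*} [AddCommGroup A] [Module (ZMod 2) A] [Fintype A] [Fintype ι] [DecidableEq ι] (S : Sys A ι F)

/-- a normalising element fixing more than three quarters of the space is trivial -/
theorem eq_one_of_fix {g : GL ι F} (hg : S.Norm g) (U : Submodule F (ι → F))
    (hU : ∀ x ∈ U, (g : Matrix ι ι F) *ᵥ x = x) (hdim : 3 * Fintype.card ι < 4 * Module.finrank F U) : g = 1 := by
  have key : ∀ (v : A) (k : F) (W : Submodule F (ι → F)), v ≠ 0 → (∀ x ∈ W, (k • S.e v) *ᵥ x = x) →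
      2 * Module.finrank F W ≤ Fintype.card ι := by
    intro v k W hv hW
    obtain ⟨d, hd⟩ := S.exists_ω_one hv
    let f : (ι → F) →ₗ[F] (ι → F) := Matrix.mulVecLin (S.e d)
    have hf : Function.Injective f := fun x y e => by
      have e' : S.e d *ᵥ x = S.e d *ᵥ y := e
      have := congrArg (fun z => (sgn F (S.q d) • S.e d) *ᵥ z) e'
      simpa [mulVec_mulVec, S.e_sq, smul_smul, sgn_mul_self] using this
    have hdis : W ⊓ W.map f = ⊥ := by
      rw [Submodule.eq_bot_iff]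
      rintro y ⟨hy, x, hx, rfl⟩
      have e1 := hW _ hy
      have e2 : (k • S.e v) *ᵥ (S.e d *ᵥ x) = -(S.e d *ᵥ ((k • S.e v) *ᵥ x)) := by
        rw [mulVec_mulVec, mulVec_mulVec, Matrix.smul_mul, S.e_comm v d, hd, sgn_one, neg_one_smul, smul_neg,
          Matrix.mul_smul, neg_mulVec]
      have e3 : f x = -f x := by
        conv_lhs => rw [← e1]
        show (k • S.e v) *ᵥ (S.e d *ᵥ x) = -(S.e d *ᵥ x)
        rw [e2, hW x hx]
      have e4 : (2 : F) • f x = 0 := by rw [two_smul]; nth_rewrite 2 [e3]; exact add_neg_cancel _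
      exact (smul_eq_zero.1 e4).resolve_left S.two_ne
    have h1 := Submodule.finrank_sup_add_finrank_inf_eq W (W.map f)
    rw [hdis, finrank_bot, add_zero, ← LinearEquiv.finrank_eq (Submodule.equivMapOfInjective f hf W)] at h1
    have h3 := Submodule.finrank_le (W ⊔ W.map f)
    rw [Module.finrank_fintype_fun_eq_card] at h3
    omega
  have himg : ∀ a, S.img g a = a := by
    intro a
    by_contra hne
    obtain ⟨c, -, e⟩ := hg.img_spec a
    let f : (ι → F) →ₗ[F] (ι → F) := Matrix.mulVecLin (S.e a)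
    let W : Submodule F (ι → F) := U ⊓ U.comap f
    have hW : ∀ x ∈ W, ((sgn F (S.q a) * c * sgn F (S.β a (S.img g a))) • S.e (a + S.img g a)) *ᵥ x = x := by
      rintro x ⟨hx, hfx⟩
      have e' := congrArg (· *ᵥ x) e
      simp only [← mulVec_mulVec, Matrix.smul_mulVec, hU x hx] at e'
      rw [hU (S.e a *ᵥ x) hfx] at e'
      have e2 : (sgn F (S.q a) • S.e a) *ᵥ (S.e a *ᵥ x) = x := by
        rw [mulVec_mulVec, Matrix.smul_mul, S.e_sq, smul_smul, sgn_mul_self, one_smul, one_mulVec]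
      conv_rhs => rw [← e2, e']
      rw [mulVec_smul, mulVec_mulVec, Matrix.smul_mul, S.e_mul]
      simp only [Matrix.smul_mulVec, smul_smul]
      congr 1
      ring
    have h1 := key _ _ W (fun h => hne (eq_of_add_zero h).symm) hW
    have hf : Function.Injective f := fun x y e => by
      have e' : S.e a *ᵥ x = S.e a *ᵥ y := e
      have := congrArg (fun z => (sgn F (S.q a) • S.e a) *ᵥ z) e'
      simpa [mulVec_mulVec, S.e_sq, smul_smul, sgn_mul_self] using this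
    have h3 : Module.finrank F (U.comap f) = Module.finrank F U := by
      have hs : Function.Surjective f := LinearMap.injective_iff_surjective.1 hf
      rw [LinearEquiv.finrank_eq (Submodule.equivMapOfInjective f hf (U.comap f)),
        Submodule.map_comap_eq_of_surjective hs]
    have h4 := Submodule.finrank_sup_add_finrank_inf_eq U (U.comap f)
    have h5 := Submodule.finrank_le (U ⊔ U.comap f)
    rw [Module.finrank_fintype_fun_eq_card] at h5
    change Module.finrank F _ + Module.finrank F W = _ at h4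
    omega
  obtain ⟨v, c, -, hv⟩ := hg.eq_e himg
  rcases eq_or_ne v 0 with rfl | hv0
  · rw [S.e_zero] at hv
    obtain ⟨x, hx, hx0⟩ : ∃ x ∈ U, x ≠ 0 := Submodule.exists_mem_ne_zero_of_ne_bot fun h => by
      rw [h, finrank_bot] at hdim; omega
    have := hU x hx
    rw [hv, Matrix.smul_mulVec, one_mulVec] at this
    have hc : c = 1 := by
      by_contra hc
      exact hx0 ((smul_eq_zero.1 (show (c - 1) • x = 0 by rw [sub_smul, this, one_smul, sub_self])).resolve_left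
        (sub_ne_zero.2 hc))
    exact Units.ext (by rw [hv, hc, one_smul, Units.val_one])
  · have := key v c U hv0 fun x hx => by rw [← hv]; exact hU x hx
    omega

end Sys

/-- the normaliser of a minus system is maximal among the isometries -/
theorem spEight_dichotomy [Fintype F] (hp : (Fintype.card F).Prime) (S : Sys (Fin (2 * 3) → ZMod 2) (Fin 4 ⊕ Fin 4) F)
    (hu : ∀ a, S.u a ∈ isoGrp (RingHom.id F) (Matrix.J (Fin 4) F)) (hminus : ¬ S.Plus)
    {M : Subgroup (GL (Fin 4 ⊕ Fin 4) F)} (hN : S.norm ⊓ isoGrp (RingHom.id F) (Matrix.J (Fin 4) F) ≤ M)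
    (hle : M ≤ isoGrp (RingHom.id F) (Matrix.J (Fin 4) F)) :
    M ≤ S.norm ∨ isoGrp (RingHom.id F) (Matrix.J (Fin 4) F) ≤ M := by
  classical
  have h2 := S.two_ne
  obtain ⟨a, b, hab⟩ := Bases.exists_sq_add_sq h2 (one_ne_zero : (1 : F) ≠ 0) one_ne_zero (-1)
  have hab' : a * a + b * b = -1 := by linear_combination hab
  have hJsq : Matrix.J (Fin 4) F * Matrix.J (Fin 4) F = -1 := Matrix.J_squared _ _
  have hΦ : IsUnit (Matrix.J (Fin 4) F).det :=
    Matrix.isUnit_det_of_left_inverse (B := -Matrix.J (Fin 4) F) (by rw [neg_mul, hJsq, neg_neg])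
  have hyp : S.RHyp (Matrix.J (Fin 4) F) M := Sys.rhyp_of_norm hΦ hu hle (by rwa [inf_comm])
  -- the presentation with a complex structure
  let T := twoMinus h2 a b hab'
  let S₀ := Sys.dbl (twoPlus h2) (twoPlus (F := F) h2)
  have hu₀ : ∀ x, S₀.u x ∈ isoGrp (RingHom.id F) (1 : Matrix (Fin 2 ⊕ Fin 2) (Fin 2 ⊕ Fin 2) F) := fun x => by
    have := Sys.blk_u_mem_iso _ _ (Sys.twoPlus_iso h2) (Sys.twoPlus_iso h2) x
    rwa [blk_one] at this
  have h0p : S₀.Plus := Sys.plus_dbl _ _ (Sys.twoPlus_plus h2) (Sys.twoPlus_plus h2)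
  obtain ⟨T₁⟩ := S.exists_sim (Sys.dbl T S₀) hΦ (Φ' := blk rot2 1) Sys.isUnit_blk_rot2 hu
    (Sys.blk_u_mem_iso T S₀ (Sys.twoMinus_iso h2 a b hab') hu₀)
    (Fintype.equivOfCardEq (by simp)) (iff_of_false hminus (Sys.not_plus_dbl h2 a b hab' S₀ h0p))
  set c₀ : (ZMod 2 × ZMod 2) × ((ZMod 2 × ZMod 2) × (ZMod 2 × ZMod 2)) := (((1 : ZMod 2), (0 : ZMod 2)), 0) with hc₀
  have hTe : T.e ((1 : ZMod 2), (0 : ZMod 2)) = rot2 := by simp [T, twoMinus, two]
  have hce : (Sys.dbl T S₀).e c₀ = blk rot2 1 := by rw [Sys.dbl_e, hTe, S₀.e_zero]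
  have hcq : (Sys.dbl T S₀).q c₀ = 1 := by
    rw [Sys.dbl_q, S₀.q_zero, add_zero]
    simp [T, Sys.q, twoMinus, two, cocycle, hc₀]
  set a₀ := T₁.φ.symm c₀ with ha₀'
  have hφ : T₁.φ a₀ = c₀ := T₁.φ.apply_symm_apply _
  have ha₀ : S.q a₀ = 1 := by rw [← T₁.map_q, hφ, hcq]
  have hA₀ : 16 ≤ Fintype.card ((ZMod 2 × ZMod 2) × (ZMod 2 × ZMod 2)) := by simp
  have hJ : (∀ h ∈ M, ∀ c, S.Carries h a₀ a₀ c → ∀ b, S.ω a₀ b = 0 → ∃ b' c', S.Carries h b b' c') ∨
      (∀ g ∈ isoGrp (RingHom.id F) (Matrix.J (Fin 4) F), g.val * S.e a₀ = S.e a₀ * g.val →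
        (g.val - 1) * (g.val - 1) = 0 → g ∈ M) := by
    rcases Sys.cent_dichotomy_of_prime hp S₀ hu₀ (fun S σ Ψ hk hu => S.dich hk hu hA₀)
      (fun K _ _ S σ Ψ hk hu => S.dich hk hu hA₀) hA₀ T hTe (Or.inr rfl)
      (T₁.rhyp hyp Sys.isUnit_blk_rot2 ha₀) with h | h
    · left
      intro g hg c hc x hx
      obtain ⟨b', c', e⟩ := h (T₁.hom g) (T₁.mem_push.2 hg) _ (hφ ▸ T₁.carries hc) (T₁.φ x)
        (by show (Sys.dbl T S₀).ω c₀ _ = 0; rw [← hφ, T₁.map_ω, hx])
      obtain ⟨y, rfl⟩ := T₁.φ.surjective b'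
      obtain ⟨k, e'⟩ := T₁.carries_iff.1 ⟨c', e⟩
      exact ⟨y, k, e'⟩
    · right
      intro g hg hgc hgu
      refine T₁.mem_push.1 (h _ (T₁.mem_iso.2 hg) ?_ ?_)
      · have e := congrArg T₁.E hgc
        rw [map_mul, map_mul, T₁.map_e, hφ, hce, Matrix.mul_smul, Matrix.smul_mul] at e
        exact smul_right_injective (Matrix _ _ F) (T₁.c_ne a₀) e
      · have e := congrArg T₁.E hgu
        rw [map_mul, map_sub, map_one, map_zero] at e
        exact e
  -- the presentation with a diagonal bit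
  let S₁ := Sys.dbl T (twoPlus (F := F) h2)
  have hu₁ : ∀ x, S₁.u x ∈ isoGrp (RingHom.id F) (blk rot2 (1 : Matrix (Fin 2) (Fin 2) F)) :=
    Sys.blk_u_mem_iso T _ (Sys.twoMinus_iso h2 a b hab') (Sys.twoPlus_iso h2)
  have h1m : ¬ S₁.Plus := Sys.not_plus_dbl h2 a b hab' _ (Sys.twoPlus_plus h2)
  have hdm : ¬ S₁.dp.Plus := fun hc => by
    have e := Sys.gauss_of_plus _ hc
    rw [Sys.gauss_dbl, Sys.gauss_dbl, Sys.gauss_twoMinus] at e
    have e1 := Sys.gauss_of_plus _ (Sys.twoPlus_plus (F := F) h2)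
    nlinarith [mul_pos e1 e1]
  have hΦ₁ : IsUnit (dblΦ (blk rot2 (1 : Matrix (Fin 2) (Fin 2) F))).det := by
    rw [dblΦ, Matrix.det_fromBlocks_zero₂₁]
    exact Sys.isUnit_blk_rot2.mul Sys.isUnit_blk_rot2
  obtain ⟨T₂⟩ := S.exists_sim S₁.dp hΦ hΦ₁ hu (S₁.dp_u_mem_iso hu₁) (Fintype.equivOfCardEq (by simp))
    (iff_of_false hminus hdm)
  set z₀ := T₂.φ.symm Sys.zb with hz₀'
  have hψ : T₂.φ z₀ = Sys.zb := T₂.φ.apply_symm_apply _
  have hz₀ : z₀ ≠ 0 := fun e => by
    rw [e, map_zero] at hψ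
    exact absurd (congrArg (fun p => p.1.2) hψ) (by simp [Sys.zb])
  have hqz : S.q z₀ = 0 := by
    rw [← T₂.map_q, hψ]
    simp [Sys.q, Sys.dp, Sys.dbl, Sys.zb, twoPlus, two, cocycle]
  have hZ : (∀ r, S.q r = 1 → ∀ h ∈ M, (∃ c, S.Carries h r r c) → S.Norm h) →
      ∀ h ∈ M, (∃ c, S.Carries h z₀ z₀ c) → S.Norm h := by
    intro cns g hg hc
    have hns : ∀ r, S₁.dp.q r = 1 → ∀ h ∈ T₂.push M, (∃ c, S₁.dp.Carries h r r c) → S₁.dp.Norm h := by
      intro r hr y hy hc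
      obtain ⟨r', rfl⟩ := T₂.φ.surjective r
      obtain ⟨y', rfl⟩ := T₂.hom.surjective y
      rw [T₂.map_q] at hr
      exact T₂.norm_iff.2 (cns r' hr y' (T₂.mem_push.1 hy) (T₂.carries_iff.1 hc))
    refine T₂.norm_iff.1 (Sys.RealZ.norm_of_carries_zb (T₂.rhyp hyp hΦ₁ ha₀) hns hA₀ (Or.inr h1m) _
      (T₂.mem_push.2 hg) ?_)
    rw [← hψ]
    exact T₂.carries_iff.2 hc
  refine (hyp.le_norm_or_centralisers (by simp) ha₀ hJ hz₀ hqz hZ).imp id fun h => ?_
  have a0 : a₀ ≠ 0 := fun e => by rw [e, S.q_zero] at ha₀; exact zero_ne_one ha₀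
  obtain ⟨r, hr, -, hrq⟩ := S.exists_pairing_both (by simp) a0 a0 1
  have hq3 : S.q (a₀ + r) = 1 := by rw [S.q_add, ha₀, hrq, hr]; decide
  have sk : ∀ x, S.q x = 1 → S.e x * S.e x = -1 ∧
      (S.e x)ᵀ * Matrix.J (Fin 4) F = -(Matrix.J (Fin 4) F * S.e x) := fun x hx => by
    refine ⟨by rw [S.e_sq, hx, sgn_one, neg_one_smul], ?_⟩
    have e := adjoint_inv (hu x)
    rw [Sys.u_inv_val, Sys.u_val, hx, sgn_one, neg_one_smul] at e
    rw [Adjoint, RingHom.coe_id, Matrix.map_id, mul_neg] at e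
    exact e
  refine isoGrp_le_of_centralisers h2 (by simp) (Matrix.J_transpose _ _) ((Matrix.isUnit_iff_isUnit_det _).2 hΦ)
    (sk a₀ ha₀) (sk r hrq) ?_ fun X hX g hg hgc hgu => ?_
  · rw [S.e_comm r a₀, S.ω_comm, hr, sgn_one, neg_one_smul]
  · rcases hX with rfl | rfl | rfl
    · exact h a₀ ha₀ g hg hgc hgu
    · exact h r hrq g hg hgc hgu
    · rw [S.e_mul, Matrix.mul_smul, Matrix.smul_mul] at hgc
      exact h _ hq3 g hg (smul_right_injective (Matrix _ _ F) (sgn_ne_zero _) hgc) hgu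

/-- the normaliser of `2^{1+6}_-` is maximal in `Sp_8(p)` -/
theorem spEight_maximal [Fintype F] (p : ℕ) (R : Subgroup (GL (Fin 4 ⊕ Fin 4) F)) (hp : p.Prime) (hodd : Odd p)
    (hcard : Fintype.card F = p) (hR : Cfsg.Geo.IsSymplecticTypeGroup 2 R)
    (habs : Cfsg.Geo.ActsAbsolutelyIrreducibly (Cfsg.Geo.matrixSet R)) (hle : R ≤ Cfsg.spGL 4 F)
    (h128 : Nat.card R = 128) (hcen : Nat.card (Subgroup.center R) = 2) (hmin : Cfsg.Geo.IsOfMinusType 3 R) :
    Cfsg.Geo.IsMaximalIn (Cfsg.spGL 4 F) (Cfsg.Geo.subgroupNormalizer R ⊓ Cfsg.spGL 4 F) := by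
  classical
  have h2 : (2 : F) ≠ 0 := Classical.OrthForms.two_ne_zero_of_odd (hcard ▸ hodd)
  obtain ⟨S, hu, hminus, e⟩ := exists_sys_spEight R h2 hR habs hle h128 hcen hmin
  rw [e, spGL_eq_isoGrp]
  refine ⟨lt_of_le_of_ne inf_le_right fun heq => ?_, fun M hN hM => ?_⟩
  · let v : Fin 4 ⊕ Fin 4 → F := Pi.single (Sum.inr 0) 1
    let t : GL (Fin 4 ⊕ Fin 4) F := Aschbacher.spTrv v 1
    have ht : t ∈ isoGrp (RingHom.id F) (Matrix.J (Fin 4) F) := by
      rw [← spGL_eq_isoGrp, Symp.mem_spGL_iff]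
      intro x y
      rw [Symp.spTrv_apply, Symp.spTrv_apply]
      simp only [map_add, map_smul, LinearMap.add_apply, LinearMap.smul_apply, smul_eq_mul, Symp.B_self, one_mul]
      rw [Symp.B_swap y v]
      ring
    have htn : S.Norm t := by
      rw [← heq] at ht
      exact ht.1
    let U := LinearMap.ker (LinearMap.flip (SympStd.sympB 4 F) v)
    have h7 : 7 ≤ Module.finrank F U := by
      have h1 := LinearMap.finrank_range_add_finrank_ker (LinearMap.flip (SympStd.sympB 4 F) v)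
      have h3 := Submodule.finrank_le (LinearMap.range (LinearMap.flip (SympStd.sympB 4 F) v))
      rw [Module.finrank_self] at h3
      rw [Module.finrank_fintype_fun_eq_card] at h1
      simp only [Fintype.card_sum, Fintype.card_fin] at h1
      show 7 ≤ Module.finrank F (LinearMap.ker _)
      omega
    have h1 := S.eq_one_of_fix htn U (fun x hx => by
      have hx' : SympStd.sympB 4 F x v = 0 := hx
      rw [Symp.spTrv_apply, hx', mul_zero, zero_smul, add_zero]) (by simp; omega)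
    have h3 := Symp.spTrv_apply v 1 (Pi.single (Sum.inl (0 : Fin 4)) (1 : F))
    rw [show (Aschbacher.spTrv v 1 : GL (Fin 4 ⊕ Fin 4) F) = 1 from h1, Units.val_one, one_mulVec] at h3
    have h4 := congrFun h3 (Sum.inr 0)
    simp [v, SympStd.sympB, Matrix.J, Matrix.toBilin'_single] at h4
  · rcases spEight_dichotomy (hcard ▸ hp) S hu hminus hN hM with h | h
    · exact Or.inl (le_antisymm (le_inf h hM) hN)
    · exact Or.inr (le_antisymm hM h)

end Cfsg.Agent.Forms.Max.TwoGroup
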