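import Cfsg.Agent.Lib.Forms.Max.TwoGroup.RealOrth
import Cfsg.Agent.Lib.Forms.Max.TwoGroup.RealBig
import Cfsg.Agent.Lib.Forms.Max.TwoGroup.SpEight

/-!
# The dichotomy of the real kind for minus type

A system of minus type is similar to the quaternion system times a plus system, and to the double of a smaller minus
system.
-/

set_option autoImplicit false
set_option linter.unusedSectionVars false

namespace Cfsg.Agent.Forms.Max.TwoGroup

open Matrix

namespace Sys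

variable {F : Type*} [Field F] [Fintype F] {A : Type*} [AddCommGroup A] [Module (ZMod 2) A] [Fintype A] {ι : Type}
  [Fintype ι] [DecidableEq ι] {S : Sys A ι F} {Φ : Matrix ι ι F} {H : Subgroup (GL ι F)}

/-- the dichotomy for minus type -/
theorem RHyp.dichotomy_minus (hF : (Fintype.card F).Prime) (hm : ¬ S.Plus) (hyp : S.RHyp Φ H)
    (hA : 64 ≤ Fintype.card A) (hs : Φᵀ = -Φ) : H ≤ S.norm ∨ isoGrp (RingHom.id F) Φ ≤ H := by
  classical
  have h2 := S.two_ne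
  obtain ⟨a, b, hab⟩ := Bases.exists_sq_add_sq h2 (one_ne_zero : (1 : F) ≠ 0) one_ne_zero (-1)
  have hab' : a * a + b * b = -1 := by linear_combination hab
  obtain ⟨n, hn⟩ : ∃ n, Fintype.card A = 4 ^ n := by
    obtain ⟨n, hn⟩ := S.exists_finrank
    have : Module.Finite (ZMod 2) A := Module.Finite.of_finite
    exact ⟨n, by rw [Module.card_eq_pow_finrank (K := ZMod 2) (V := A), ZMod.card, hn, pow_mul]; norm_num⟩
  obtain ⟨n, rfl⟩ : ∃ k, n = k + 2 := by
    rcases n with _ | _ | n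
    · simp at hn; omega
    · simp at hn; omega
    · exact ⟨n, rfl⟩
  have card_eq' : ∀ {κ B : Type} [Fintype κ] [DecidableEq κ] [AddCommGroup B] [Module (ZMod 2) B] [Fintype B]
      (T : Sys B κ F), Fintype.card B = 4 ^ (n + 1) → Fintype.card ι = Fintype.card (κ ⊕ κ) := by
    intro κ B _ _ _ _ _ T hB
    have h1 := S.card_eq
    have h3 := T.card_eq
    rw [hn] at h1
    rw [hB] at h3
    refine Nat.pow_left_injective two_ne_zero ?_
    simp only [pow_two, Fintype.card_sum]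
    rw [← h1, show (Fintype.card κ + Fintype.card κ) * (Fintype.card κ + Fintype.card κ) =
      4 * (Fintype.card κ * Fintype.card κ) by ring, ← h3]
    ring
  obtain ⟨κ₀, _, _, B₀, _, _, _, S₀, hB₀, hp₀, hu₀⟩ := exists_plus_sys h2 (F := F) (n + 1)
  obtain ⟨κ₂, _, _, B₂, _, _, _, S₂, hB₂, hp₂, hu₂⟩ := exists_plus_sys h2 (F := F) n
  have hA₀ : 16 ≤ Fintype.card B₀ := by rw [hB₀]; rw [hn, pow_succ] at hA; omega
  -- the presentation with a complex structure
  let T := twoMinus h2 a b hab'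
  obtain ⟨T₁⟩ := S.exists_sim (dbl T S₀) hyp.unit (Φ' := blk rot2 1) isUnit_blk_rot2 hyp.iso
    (blk_u_mem_iso T S₀ (twoMinus_iso h2 a b hab') hu₀) (Fintype.equivOfCardEq (card_eq' S₀ hB₀))
    (iff_of_false hm (not_plus_dbl h2 a b hab' S₀ hp₀))
  obtain ⟨a₀, ha⟩ := T₁.φ.surjective ((((1, 0) : ZMod 2 × ZMod 2), (0 : B₀)))
  have hTe : T.e ((1 : ZMod 2), (0 : ZMod 2)) = rot2 := by simp [T, twoMinus, two]
  have ha₀ : S.q a₀ = 1 := by
    rw [← T₁.map_q, ha, dbl_q, S₀.q_zero, add_zero]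
    simp [T, q, twoMinus, two, cocycle]
  -- the presentation with a diagonal bit
  let S₁ := dbl T S₂
  have hA₁ : 16 ≤ Fintype.card ((ZMod 2 × ZMod 2) × B₂) := by
    rw [hn, pow_succ, pow_succ] at hA
    simp only [Fintype.card_prod, ZMod.card, hB₂]
    omega
  have hu₁ : ∀ x, S₁.u x ∈ isoGrp (RingHom.id F) (blk rot2 (1 : Matrix κ₂ κ₂ F)) :=
    blk_u_mem_iso T S₂ (twoMinus_iso h2 a b hab') hu₂
  have hdm : ¬ S₁.dp.Plus := fun hc => by
    have e := gauss_of_plus _ hc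
    rw [gauss_dbl, gauss_dbl, gauss_twoMinus] at e
    nlinarith [mul_pos (gauss_of_plus _ (twoPlus_plus (F := F) h2)) (gauss_of_plus _ hp₂)]
  have hΦ₁ : IsUnit (dblΦ (blk rot2 (1 : Matrix κ₂ κ₂ F))).det := by
    rw [dblΦ, Matrix.det_fromBlocks_zero₂₁]
    exact isUnit_blk_rot2.mul isUnit_blk_rot2
  obtain ⟨T₂⟩ := S.exists_sim S₁.dp hyp.unit hΦ₁ hyp.iso (S₁.dp_u_mem_iso hu₁)
    (Fintype.equivOfCardEq (card_eq' S₁ (by simp [Fintype.card_prod, hB₂, pow_succ]; ring)))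
    (iff_of_false hm hdm)
  obtain ⟨z₀, hz⟩ := T₂.φ.surjective (zb : (ZMod 2 × ZMod 2) × ((ZMod 2 × ZMod 2) × B₂))
  have hz₀ : z₀ ≠ 0 := fun h => by rw [h, map_zero] at hz; simp [zb, Prod.ext_iff] at hz
  have hqz : S.q z₀ = 0 := by
    rw [← T₂.map_q, hz]
    simp [q, dp, dbl_β, zb, twoPlus, two, cocycle]
  refine (hyp.le_norm_or_centralisers hA ha₀ (T₁.pull_J ?_) hz₀ hqz fun hns => T₂.pull_Z ?_ hns).imp id
    fun h => hyp.iso_le hA hs ha₀ h
  · have he : (dbl T S₀).e ((1, 0), 0) = blk rot2 1 := by rw [dbl_e]; simp only [hTe, S₀.e_zero]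
    rw [ha, he]
    exact cent_dichotomy_of_prime hF S₀ hu₀ (fun S' σ Ψ hk hu => S'.dich hk hu hA₀)
      (fun K _ _ S' σ Ψ hk hu => S'.dich hk hu hA₀) hA₀ T hTe (Or.inr rfl) (T₁.rhyp hyp isUnit_blk_rot2 ha₀)
  · rw [hz]
    exact fun h' => RealZ.norm_of_carries_zb (T₂.rhyp hyp hΦ₁ ha₀) h' hA₁
      (Or.inr (not_plus_dbl h2 a b hab' S₂ hp₂))

end Sys

end Cfsg.Agent.Forms.Max.TwoGroup
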