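import Cfsg.Agent.Lib.Forms.Max.TwoGroup.Kind
import Cfsg.Agent.Lib.Forms.Max.TwoGroup.GenUnitary

/-!
# The induction step of the complex kind

For an overgroup of the normalising isometries of a doubled system the centraliser of the diagonal sign matrix projects
onto the centraliser level. Either the projection contains all determinant one isometries, and then so does the
overgroup, or that centraliser normalises.
-/

set_option autoImplicit false
set_option linter.unusedSectionVars false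

namespace Cfsg.Agent.Forms.Max.TwoGroup

open Matrix

variable {A F : Type*} [Field F] [AddCommGroup A] [Module (ZMod 2) A] [Fintype A]
variable {ι : Type} [Fintype ι] [DecidableEq ι]

/-- the second block -/
def inrHom : GL ι F →* GL (ι ⊕ ι) F where
  toFun g := diag 1 g
  map_one' := diag_one
  map_mul' g h := by rw [diag_mul, one_mul]

@[simp] theorem inrHom_apply (g : GL ι F) : inrHom g = diag 1 g := rfl

/-- the part of the overgroup in the second block -/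
def lowL (H : Subgroup (GL (ι ⊕ ι) F)) : Subgroup (GL ι F) := H.comap inrHom

theorem mem_lowL {H : Subgroup (GL (ι ⊕ ι) F)} {g : GL ι F} : g ∈ lowL H ↔ diag 1 g ∈ H := Iff.rfl

/-- the projection to the first block -/
def lowK (H : Subgroup (GL (ι ⊕ ι) F)) : Subgroup (GL ι F) where
  carrier := {g | ∃ g', diag g g' ∈ H}
  one_mem' := ⟨1, by rw [diag_one]; exact H.one_mem⟩
  mul_mem' := fun ⟨g', hg⟩ ⟨h', hh⟩ => ⟨g' * h', by rw [← diag_mul]; exact H.mul_mem hg hh⟩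
  inv_mem' := fun ⟨g', hg⟩ => ⟨g'⁻¹, by rw [← diag_inv]; exact H.inv_mem hg⟩

theorem mem_lowK {H : Subgroup (GL (ι ⊕ ι) F)} {g : GL ι F} : g ∈ lowK H ↔ ∃ g', diag g g' ∈ H := Iff.rfl

namespace Sys

theorem dp_u_mem_iso (S : Sys A ι F) {σ : F →+* F} {Φ : Matrix ι ι F} (hu : ∀ a, S.u a ∈ isoGrp σ Φ)
    (p : (ZMod 2 × ZMod 2) × A) : S.dp.u p ∈ isoGrp σ (dblΦ Φ) := by
  obtain ⟨⟨a, b⟩, r⟩ := p
  have h := mem_isoGrp.1 (hu r)
  rw [u_val] at h
  have hs : σ (sgn F b) = sgn F b := by rcases z2_cases b with rfl | rfl <;> simp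
  rw [mem_isoGrp, u_val]
  rcases z2_cases a with rfl | rfl <;>
    simp [dp_e_bit₀, dp_e_bit₁, dblΦ, fromBlocks_map, fromBlocks_transpose, fromBlocks_multiply, map_smul', hs,
      smul_smul, sgn_mul_self, h, Matrix.map_zero]

/-- `diag 1 g` normalises only for monomials up to fourth roots of unity -/
theorem eq_e_of_diag_one (S : Sys A ι F) {g : GL ι F} (hg : S.dp.Norm (diag 1 g)) :
    ∃ (μ : F) (v : A), (g : Matrix ι ι F) = μ • S.e v ∧ (μ * μ = 1 ∨ μ * μ = -1) := by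
  have := S.nonempty
  obtain ⟨⟨⟨a, b⟩, r⟩, c, e⟩ := hg ((1, 0), 0)
  rcases z2_cases a with rfl | rfl
  · exfalso
    rw [dp_e_bit₁, dp_e_bit₀] at e
    simp [fromBlocks_multiply, fromBlocks_smul, fromBlocks_inj, S.e_zero, g.ne_zero] at e
  · rw [dp_e_bit₁, dp_e_bit₁] at e
    simp [fromBlocks_multiply, fromBlocks_smul, fromBlocks_inj, S.e_zero, smul_smul] at e
    obtain ⟨e1, e2⟩ := e
    refine ⟨c, r, e2, ?_⟩
    rw [e2, Matrix.mul_smul, smul_smul, S.e_sq, smul_smul] at e1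
    have h1 : c * sgn F b * c * sgn F (S.q r) = 1 := by
      obtain ⟨i⟩ := ‹Nonempty ι›
      have h2 := congrFun (congrFun e1 i) i
      simpa using h2.symm
    rcases z2_cases b with rfl | rfl <;> rcases z2_cases (S.q r) with hq | hq <;> simp [hq] at h1
    exacts [Or.inl h1, Or.inr (by linear_combination -h1), Or.inr (by linear_combination -h1), Or.inl h1]

variable {S : Sys A ι F} {σ : F →+* F} {Φ : Matrix ι ι F} {H : Subgroup (GL (ι ⊕ ι) F)}

theorem dp_ω_zb (S : Sys A ι F) (p : (ZMod 2 × ZMod 2) × A) : S.dp.ω zb p = p.1.1 := by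
  unfold dp zb
  rw [dbl_ω, map_zero, LinearMap.zero_apply, add_zero, ω_apply]
  obtain ⟨⟨a, b⟩, r⟩ := p
  rcases z2_cases a with rfl | rfl <;> rcases z2_cases b with rfl | rfl <;> simp [twoPlus, two, cocycle]

/-- the hypotheses of one step -/
structure StepHyp [Fintype F] (S : Sys A ι F) (σ : F →+* F) (Φ : Matrix ι ι F) (H : Subgroup (GL (ι ⊕ ι) F)) :
    Prop where
  kind : Cx σ Φ
  iso : ∀ a, S.u a ∈ isoGrp σ Φ
  ge : isoGrp σ (dblΦ Φ) ⊓ S.dp.norm ≤ H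
  le : H ≤ isoGrp σ (dblΦ Φ)

namespace StepHyp

variable [Fintype F]

theorem u_mem (hyp : S.StepHyp σ Φ H) (p : (ZMod 2 × ZMod 2) × A) : S.dp.u p ∈ H :=
  hyp.ge ⟨S.dp_u_mem_iso hyp.iso p, S.dp.u_mem p⟩

theorem swap_mem (hyp : S.StepHyp σ Φ H) {g g' : GL ι F} (h : diag g g' ∈ H) : diag g' g ∈ H := by
  rw [← S.u_xb_conj]
  exact H.mul_mem (H.mul_mem (hyp.u_mem _) h) (H.inv_mem (hyp.u_mem _))

theorem lowL_le (hyp : S.StepHyp σ Φ H) : lowL H ≤ lowK H := fun _ hg => ⟨1, hyp.swap_mem hg⟩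

theorem lowK_iso (hyp : S.StepHyp σ Φ H) : lowK H ≤ isoGrp σ Φ := fun _ ⟨_, hg⟩ => (diag_mem_iso.1 (hyp.le hg)).1

theorem le_lowK (hyp : S.StepHyp σ Φ H) : isoGrp σ Φ ⊓ S.norm ≤ lowK H := fun g hg =>
  ⟨g, hyp.ge ⟨diag_mem_iso.2 ⟨hg.1, hg.1⟩, S.diag_self_mem hg.2⟩⟩

theorem lowL_normal (hyp : S.StepHyp σ Φ H) {g : GL ι F} (hg : g ∈ lowK H) {l : GL ι F} (hl : l ∈ lowL H) :
    g * l * g⁻¹ ∈ lowL H := by
  obtain ⟨g', hg'⟩ := hg
  have := H.mul_mem (H.mul_mem (hyp.swap_mem hg') hl) (H.inv_mem (hyp.swap_mem hg'))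
  rw [diag_inv, inrHom_apply, diag_mul, diag_mul, mul_one, mul_inv_cancel] at this
  exact this

theorem mono_mem (hyp : S.StepHyp σ Φ H) {g : GL ι F} (hgi : g ∈ isoGrp σ Φ) {v : A} {μ : F}
    (hg : (g : Matrix ι ι F) = μ • S.e v) (hμ : μ * μ = 1 ∨ μ * μ = -1) : g ∈ lowL H :=
  hyp.ge ⟨diag_mem_iso.2 ⟨Subgroup.one_mem _, hgi⟩, S.diag_one_mem hg hμ⟩

/-- if the projection contains the determinant one isometries then so do both blocks -/
theorem blocks_mem (hyp : S.StepHyp σ Φ H) (hn : 3 ≤ Fintype.card ι) (hbig : big σ Φ ≤ lowK H) {g : GL ι F}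
    (hg : g ∈ big σ Φ) : diag 1 g ∈ H ∧ diag g 1 ∈ H := by
  obtain ⟨v, hv⟩ : ∃ v : A, v ≠ 0 := by
    refine Fintype.exists_ne_of_one_lt_card ?_ 0
    rw [S.card_eq]
    calc 1 < 3 * 3 := by norm_num
      _ ≤ _ := Nat.mul_le_mul hn hn
  obtain ⟨μ, x, hx, hxe, hμ⟩ := S.exists_big_e hyp.kind hyp.iso hv
  have hμ0 : μ ≠ 0 := fun h => by
    have := S.nonempty
    exact x.ne_zero (by rw [hxe, h, zero_smul])
  have hle : big σ Φ ≤ lowL H := hyp.kind.big_le_of_normal hn (lowL H) (fun a ha l hl => hyp.lowL_normal (hbig ha) hl)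
    (hyp.mono_mem hx.1 hxe hμ) hx fun c => by rw [hxe]; exact S.e_ne_scalar hv hμ0 c
  exact ⟨hle hg, hyp.swap_mem (hle hg)⟩

end StepHyp

end Sys

/-! ### Two levels -/

section two

variable {κ : Type} [Fintype κ] [DecidableEq κ]

/-- exchanging the two bits of a quarter -/
def qswap : (κ ⊕ κ) ⊕ (κ ⊕ κ) ≃ (κ ⊕ κ) ⊕ (κ ⊕ κ) where
  toFun
    | .inl (.inl i) => .inl (.inl i)
    | .inl (.inr i) => .inr (.inl i)
    | .inr (.inl i) => .inl (.inr i)
    | .inr (.inr i) => .inr (.inr i)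
  invFun
    | .inl (.inl i) => .inl (.inl i)
    | .inl (.inr i) => .inr (.inl i)
    | .inr (.inl i) => .inl (.inr i)
    | .inr (.inr i) => .inr (.inr i)
  left_inv := by rintro ((i | i) | (i | i)) <;> rfl
  right_inv := by rintro ((i | i) | (i | i)) <;> rfl

/-- the permutation matrix of the exchange -/
def qmat : Matrix ((κ ⊕ κ) ⊕ (κ ⊕ κ)) ((κ ⊕ κ) ⊕ (κ ⊕ κ)) F :=
  fromBlocks (fromBlocks 1 0 0 0) (fromBlocks 0 0 1 0) (fromBlocks 0 1 0 0) (fromBlocks 0 0 0 1)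

theorem qmat_sq : (qmat : Matrix ((κ ⊕ κ) ⊕ (κ ⊕ κ)) _ F) * qmat = 1 := by
  simp [qmat, fromBlocks_multiply, fromBlocks_add, ← fromBlocks_one]

theorem qmat_eq : (qmat : Matrix ((κ ⊕ κ) ⊕ (κ ⊕ κ)) _ F) = (1 : Matrix _ _ F).submatrix qswap id := by
  ext ((i | i) | (i | i)) ((j | j) | (j | j)) <;> simp [qmat, qswap, Matrix.one_apply]

/-- the element -/
def sw : GL ((κ ⊕ κ) ⊕ (κ ⊕ κ)) F := ⟨qmat, qmat, qmat_sq, qmat_sq⟩

@[simp] theorem sw_val : (sw (κ := κ) (F := F)).val = qmat := rfl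

@[simp] theorem sw_inv : (sw : GL ((κ ⊕ κ) ⊕ (κ ⊕ κ)) F)⁻¹ = sw := rfl

theorem sw_conj_val (g : GL ((κ ⊕ κ) ⊕ (κ ⊕ κ)) F) :
    (sw * g * sw⁻¹).val = g.val.submatrix qswap qswap := by
  rw [sw_inv, Units.val_mul, Units.val_mul, sw_val, qmat_eq]
  ext i j
  rw [Matrix.mul_apply, Finset.sum_eq_single (qswap j)]
  · simp [Matrix.mul_apply, Matrix.one_apply]
    rcases j with (j | j) | (j | j) <;> simp [qswap]
  · intro b _ hb
    have : (1 : Matrix _ _ F).submatrix qswap id b j = 0 := by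
      rw [Matrix.submatrix_apply, Matrix.one_apply_ne]
      intro e
      refine hb ?_
      rcases b with (b | b) | (b | b) <;> rcases j with (j | j) | (j | j) <;> simp [qswap] at e ⊢ <;> exact e
    rw [this, mul_zero]
  · simp

theorem sw_conj_diag (a b c d : GL κ F) :
    sw * diag (diag a b) (diag c d) * sw⁻¹ = diag (diag a c) (diag b d) :=
  Units.ext (by simp [qmat, fromBlocks_multiply, fromBlocks_add])

theorem sw_mem_iso (σ : F →+* F) (Φ : Matrix κ κ F) : sw ∈ isoGrp σ (dblΦ (dblΦ Φ)) := by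
  simp [mem_isoGrp, qmat, dblΦ, fromBlocks_map, fromBlocks_transpose, fromBlocks_multiply, fromBlocks_add,
    Matrix.map_zero]

namespace Sys

variable {B : Type*} [AddCommGroup B] [Module (ZMod 2) B] [Fintype B] (S₀ : Sys B κ F)

theorem sw_norm : S₀.dp.dp.Norm sw := fun p => by
  refine ⟨(p.2.1, (p.1, p.2.2)), 1, ?_⟩
  rw [one_smul, dbl_e, dbl_e, dbl_e, dbl_e, sw_val]
  simp [qmat, blk, fromBlocks_multiply, fromBlocks_smul, fromBlocks_add, smul_smul]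
  repeat' constructor
  all_goals rw [mul_comm]

variable [Fintype F] {σ : F →+* F} {Φ : Matrix κ κ F} {H : Subgroup (GL ((κ ⊕ κ) ⊕ (κ ⊕ κ)) F)}

theorem quarter (hyp : S₀.dp.StepHyp σ (dblΦ Φ) H) {ga gb : GL κ F} (h : diag ga gb ∈ lowL H) :
    diag 1 ga ∈ lowK H ∧ diag 1 gb ∈ lowK H := by
  have hsw : sw ∈ H := hyp.ge ⟨sw_mem_iso σ Φ, S₀.sw_norm⟩
  have e := H.mul_mem (H.mul_mem hsw h) (H.inv_mem hsw)
  rw [inrHom_apply, ← diag_one, sw_conj_diag] at e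
  exact ⟨⟨_, e⟩, ⟨_, hyp.swap_mem e⟩⟩

/-- the elements of the second block fixing the diagonal sign matrix act trivially on the sections -/
theorem local_zb (hyp : S₀.dp.StepHyp σ (dblΦ Φ) H) (hsmall : lowK H ≤ S₀.dp.norm) {l : GL (κ ⊕ κ) F}
    (hl : l ∈ lowL H) (hc : S₀.dp.Carries l zb zb 1) (x : (ZMod 2 × ZMod 2) × B) (hx : S₀.dp.ω zb x = 0) :
    S₀.dp.img l x = x ∨ S₀.dp.img l x = x + zb := by
  obtain ⟨⟨a, b⟩, r⟩ := x
  obtain ⟨ga, gb, rfl⟩ := eq_diag_of_comm S₀.two_ne (h := l) (by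
    have e : (l : Matrix _ _ F) * S₀.dp.e zb = (1 : F) • (S₀.dp.e zb * (l : Matrix _ _ F)) := hc
    rwa [dp_e_zb, one_smul] at e)
  have ha : a = 0 := by rwa [dp_ω_zb] at hx
  subst ha
  obtain ⟨h1, h2⟩ := quarter S₀ hyp hl
  obtain ⟨μ, va, ea, -⟩ := S₀.eq_e_of_diag_one (hsmall h1)
  obtain ⟨ν, vb, eb, -⟩ := S₀.eq_e_of_diag_one (hsmall h2)
  have e : S₀.dp.img (diag ga gb) ((0, b), r) = ((0, b + (S₀.ω va r + S₀.ω vb r)), r) := by
    refine img_eq (c := sgn F (S₀.ω va r)) ?_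
    simp [dp_e_bit₀, fromBlocks_multiply, fromBlocks_smul, ea, eb, sgn_add, smul_smul, S₀.e_comm va r,
      S₀.e_comm vb r]
    refine ⟨?_, ?_⟩ <;> congr 1
    · ring
    · linear_combination -(sgn F b * ν * sgn F (S₀.ω vb r)) * sgn_mul_self (F := F) (S₀.ω va r)
  rw [e]
  rcases z2_cases (S₀.ω va r + S₀.ω vb r) with h | h <;> rw [h]
  · exact Or.inl (by rw [add_zero])
  · exact Or.inr (by ext <;> simp [zb])

theorem xb_ω_zb : S₀.dp.ω xb zb = 1 := by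
  rw [ω_comm, dp_ω_zb]; rfl

theorem dp_card_four (hB : 4 ≤ Fintype.card B) : 16 ≤ Fintype.card ((ZMod 2 × ZMod 2) × B) := by
  rw [dp_card]; omega

/-- the images of the second block are trivial -/
theorem img_lowL (hyp : S₀.dp.StepHyp σ (dblΦ Φ) H) (hB : 4 ≤ Fintype.card B) (hsmall : lowK H ≤ S₀.dp.norm)
    {l : GL (κ ⊕ κ) F} (hl : l ∈ lowL H) (x : (ZMod 2 × ZMod 2) × B) : S₀.dp.img l x = x := by
  have hN : ∀ g ∈ lowL H, S₀.dp.Norm g := fun g hg => hsmall (hyp.lowL_le hg)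
  have hz : (zb : (ZMod 2 × ZMod 2) × B) ≠ 0 := by simp [zb]
  refine S₀.dp.eq_id_of_local (dp_card_four hB) {γ | ∃ g ∈ lowL H, S₀.dp.img g = γ} ?_ ?_ ?_ ?_ ⟨l, hl, rfl⟩ x
  · rintro _ ⟨g, hg, rfl⟩
    exact (hN g hg).img_add
  · rintro _ ⟨g, hg, rfl⟩
    exact (hN g hg).img_ω
  · rintro _ ⟨g, hg, rfl⟩ v -
    obtain ⟨t, ht, -, himg⟩ := S₀.dp.exists_τ_lift hyp.kind hyp.iso v
    refine ⟨g * (t * g⁻¹ * t⁻¹),
      Subgroup.mul_mem _ hg (hyp.lowL_normal (hyp.le_lowK ht) (Subgroup.inv_mem _ hg)), funext fun y => ?_⟩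
    have hti : ∀ z, S₀.dp.img t⁻¹ z = S₀.dp.τ v z := fun z => by
      have hzz : z = S₀.dp.img t (S₀.dp.τ v z) := by rw [himg, τ_τ]
      conv_lhs => rw [hzz]
      rw [← img_mul ht.2.inv ht.2, inv_mul_cancel, img_one]
    have hgi : S₀.dp.img g (S₀.dp.img g⁻¹ (S₀.dp.τ v y)) = S₀.dp.τ v y := by
      rw [← img_mul (hN g hg) (hN g hg).inv, mul_inv_cancel, img_one]
    rw [img_mul (hN g hg) ((ht.2.mul (hN g hg).inv).mul ht.2.inv), img_mul (ht.2.mul (hN g hg).inv) ht.2.inv,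
      img_mul ht.2 (hN g hg).inv, hti, himg]
    generalize hw : S₀.dp.img g⁻¹ (S₀.dp.τ v y) = w at hgi
    rw [← hgi]
    rcases z2_cases (S₀.dp.ω v w) with h | h <;> simp only [τ, (hN g hg).img_ω, h, zero_smul, one_smul, add_zero]
    rw [(hN g hg).img_add]
  · rintro _ ⟨g, hg, rfl⟩ r hr hfix y hy
    obtain ⟨n, hn, hnr⟩ := S₀.dp.trans_cx hyp.kind hyp.iso hr hz
    have hn' : n ∈ lowK H := hyp.le_lowK hn
    -- move `r` to the diagonal sign vector and correct the sign by a monomial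
    set g₁ := n * g * n⁻¹ with hg₁
    have hg₁L : g₁ ∈ lowL H := hyp.lowL_normal hn' hg
    have hg₁img : ∀ z, S₀.dp.img g₁ (S₀.dp.img n z) = S₀.dp.img n (S₀.dp.img g z) := fun z => by
      rw [hg₁, ← img_mul (hn.2.mul (hN g hg) |>.mul hn.2.inv) hn.2, inv_mul_cancel_right,
        img_mul hn.2 (hN g hg)]
    have hfix₁ : S₀.dp.img g₁ zb = zb := by rw [← hnr, hg₁img, hfix]
    obtain ⟨c, hc0, hc⟩ := (hN g₁ hg₁L).img_spec zb
    rw [hfix₁] at hc
    have hc2 : c * c = 1 := by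
      have h2 : g₁.val * (S₀.dp.e zb * S₀.dp.e zb) = (c * c) • ((S₀.dp.e zb * S₀.dp.e zb) * g₁.val) := by
        rw [← mul_assoc, hc, Matrix.smul_mul, mul_assoc, hc, Matrix.mul_smul, smul_smul, ← mul_assoc]
      rw [S₀.dp.e_sq, Matrix.mul_smul, Matrix.smul_mul, mul_one, one_mul, smul_smul] at h2
      have := S₀.dp.nonempty
      have h3 : (sgn F (S₀.dp.q zb) - c * c * sgn F (S₀.dp.q zb)) • g₁.val = 0 := by
        rw [sub_smul, h2, sub_self]
      have h4 := (smul_eq_zero.1 h3).resolve_right g₁.ne_zero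
      exact (mul_right_cancel₀ (sgn_ne_zero (F := F) (S₀.dp.q zb)) (by linear_combination h4)).symm
    obtain ⟨m, hm, hmimg, hmc⟩ : ∃ m ∈ lowL H, (∀ z, S₀.dp.img m z = z) ∧
        S₀.dp.Carries (m * g₁) zb zb 1 := by
      rcases mul_self_eq_one_iff.1 hc2 with rfl | rfl
      · exact ⟨1, Subgroup.one_mem _, img_one, by rw [one_mul]; exact hc⟩
      · obtain ⟨μ, m, hm, hme, hμ⟩ := S₀.dp.exists_big_e hyp.kind hyp.iso
          (v := (xb : (ZMod 2 × ZMod 2) × B)) (by simp [xb])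
        have hmc : ∀ z, m.val * S₀.dp.e z =
            sgn F (S₀.dp.ω xb z) • (S₀.dp.e z * m.val) := fun z => by
          rw [hme, Matrix.smul_mul, S₀.dp.e_comm, Matrix.mul_smul, smul_comm]
        refine ⟨m, hyp.mono_mem hm.1 hme hμ, fun z => img_eq (hmc z), ?_⟩
        show _ = (1 : F) • _
        rw [Units.val_mul, mul_assoc, hc, Matrix.mul_smul, ← mul_assoc, hmc, xb_ω_zb, sgn_one, Matrix.smul_mul,
          smul_smul, mul_assoc]
        norm_num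
    have hyz : S₀.dp.ω zb (S₀.dp.img n y) = 0 := by rw [← hnr, hn.2.img_ω]; exact hy
    have key := local_zb S₀ hyp hsmall (Subgroup.mul_mem _ hm hg₁L) hmc _ hyz
    rw [img_mul (hN m hm) (hN g₁ hg₁L), hmimg, hg₁img] at key
    rcases key with key | key
    · exact Or.inl (hn.2.img_inj key)
    · refine Or.inr (hn.2.img_inj (key.trans ?_))
      rw [hn.2.img_add, hnr]

/-- the second block consists of monomials up to fourth roots of unity -/
theorem mono_lowL (hyp : S₀.dp.StepHyp σ (dblΦ Φ) H) (hB : 4 ≤ Fintype.card B) (hsmall : lowK H ≤ S₀.dp.norm)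
    {l : GL (κ ⊕ κ) F} (hl : l ∈ lowL H) : S₀.dp.dp.Norm (diag 1 l) := by
  obtain ⟨v, μ, hμ0, hv⟩ := (hsmall (hyp.lowL_le hl) : S₀.dp.Norm l).eq_e (img_lowL S₀ hyp hB hsmall hl)
  refine S₀.dp.diag_one_mem hv ?_
  -- a scalar in the second block
  obtain ⟨μ₀, x, hx, hxe, hμ₀⟩ : ∃ (μ₀ : F) (x : GL (κ ⊕ κ) F), x ∈ lowL H ∧
      (x : Matrix _ _ F) = μ₀ • S₀.dp.e v ∧ (μ₀ * μ₀ = 1 ∨ μ₀ * μ₀ = -1) := by
    by_cases hv0 : v = 0
    · exact ⟨1, 1, Subgroup.one_mem _, by rw [hv0, S₀.dp.e_zero, one_smul, Units.val_one], Or.inl (one_mul 1)⟩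
    · obtain ⟨μ₀, x, hx, hxe, hμ₀⟩ := S₀.dp.exists_big_e hyp.kind hyp.iso hv0
      exact ⟨μ₀, x, hyp.mono_mem hx.1 hxe hμ₀, hxe, hμ₀⟩
  have h0 : μ₀ ≠ 0 := fun h => by rcases hμ₀ with h' | h' <;> simp [h] at h'
  let ν : Fˣ := Units.mk0 (μ / μ₀) (div_ne_zero hμ0 h0)
  have hν : diag (scal ν (1 : GL κ F)) (scal ν 1) = x⁻¹ * l := by
    rw [eq_inv_mul_iff_mul_eq]
    refine Units.ext ?_
    rw [Units.val_mul, hxe, hv, diag_val, scal_val, Units.val_one,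
      show fromBlocks ((ν : F) • (1 : Matrix κ κ F)) 0 0 ((ν : F) • (1 : Matrix κ κ F)) = (ν : F) • 1 by
        simp [← fromBlocks_one, fromBlocks_smul],
      Matrix.mul_smul, mul_one, smul_smul]
    congr 1
    show μ / μ₀ * μ₀ = μ
    field_simp
  obtain ⟨μ', v', e, hμ'⟩ := S₀.eq_e_of_diag_one
    (hsmall (quarter S₀ hyp (hν ▸ Subgroup.mul_mem _ (Subgroup.inv_mem _ hx) hl)).1)
  rw [scal_val, Units.val_one, ← S₀.e_zero] at e
  have hee := (S₀.smul_e_inj ν.ne_zero e).2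
  have hm : μ * μ = μ' * μ' * (μ₀ * μ₀) := by
    rw [← hee]
    show μ * μ = μ / μ₀ * (μ / μ₀) * (μ₀ * μ₀)
    field_simp
  rcases hμ₀ with h1 | h1 <;> rcases hμ' with h2 | h2 <;> rw [hm, h1, h2] <;> simp

/-- the centraliser of the diagonal sign matrix normalises -/
theorem cent_zb (hyp : S₀.dp.StepHyp σ (dblΦ Φ) H) (hB : 4 ≤ Fintype.card B) (hsmall : lowK H ≤ S₀.dp.norm)
    {h : GL ((κ ⊕ κ) ⊕ (κ ⊕ κ)) F} (hh : h ∈ H) {c : F} (hc : S₀.dp.dp.Carries h zb zb c) : S₀.dp.dp.Norm h := by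
  have hcomm : ∀ h ∈ H, h.val * S₀.dp.dp.e zb = S₀.dp.dp.e zb * h.val →
      S₀.dp.dp.Norm h := fun h hh e => by
    rw [dp_e_zb] at e
    obtain ⟨g, g', rfl⟩ := eq_diag_of_comm S₀.two_ne e
    have hg : S₀.dp.Norm g := hsmall ⟨g', hh⟩
    have hgi : g ∈ isoGrp σ (dblΦ Φ) := (diag_mem_iso.1 (hyp.le hh)).1
    have hd : diag g g ∈ H := hyp.ge ⟨diag_mem_iso.2 ⟨hgi, hgi⟩, S₀.dp.diag_self_mem hg⟩
    have hl : g⁻¹ * g' ∈ lowL H := by
      have := H.mul_mem (H.inv_mem hd) hh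
      rwa [diag_inv, diag_mul, inv_mul_cancel] at this
    have := (S₀.dp.diag_self_mem hg).mul (mono_lowL S₀ hyp hB hsmall hl)
    rwa [diag_mul, mul_one, mul_inv_cancel_left] at this
  have h' : h.val * S₀.dp.dp.e zb = c • (S₀.dp.dp.e zb * h.val) := hc
  have hc2 : c * c = 1 := by
    have h2 : h.val * (S₀.dp.dp.e zb * S₀.dp.dp.e zb) =
        (c * c) • ((S₀.dp.dp.e zb * S₀.dp.dp.e zb) * h.val) := by
      rw [← mul_assoc, h', Matrix.smul_mul, mul_assoc, h', Matrix.mul_smul, smul_smul, ← mul_assoc]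
    rw [dp_e_zb, fromBlocks_multiply] at h2
    simp [fromBlocks_one] at h2
    have := S₀.dp.dp.nonempty
    have h3 : (1 - c * c) • h.val = 0 := by rw [sub_smul, one_smul, ← h2, sub_self]
    exact (sub_eq_zero.1 ((smul_eq_zero.1 h3).resolve_right h.ne_zero)).symm
  rcases mul_self_eq_one_iff.1 hc2 with rfl | rfl
  · exact hcomm h hh (by rwa [one_smul] at h')
  · have := (S₀.dp.dp.u_mem xb).inv.mul (hcomm (S₀.dp.dp.u xb * h) (H.mul_mem (hyp.u_mem xb) hh) (by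
      rw [Units.val_mul, mul_assoc, h', Matrix.mul_smul, ← mul_assoc, u_val, S₀.dp.dp.e_comm xb zb,
        S₀.dp.xb_ω_zb, sgn_one, Matrix.smul_mul, smul_smul, mul_assoc]
      norm_num))
    rwa [inv_mul_cancel_left] at this

end Sys

end two

end Cfsg.Agent.Forms.Max.TwoGroup
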