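import Cfsg.Agent.Lib.Forms.Max.TwoGroup.Step

/-!
# The large case of the induction step

When the projection to one block contains all determinant one isometries the overgroup contains the groups of the four
halves, hence all determinant one isometries.
-/

set_option autoImplicit false
set_option linter.unusedSectionVars false

namespace Cfsg.Agent.Forms.Max.TwoGroup

open Matrix

variable {F : Type*} [Field F] {ι κ : Type} [Fintype ι] [DecidableEq ι] [Fintype κ] [DecidableEq κ]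

/-- an element supported on a block -/
theorem supp_diag {g : GL (ι ⊕ ι) F} (hdet : g.val.det = 1) (x : Bool) (hs : Supp Sum.isRight x g.val) :
    ∃ g₀ : GL ι F, g₀.val.det = 1 ∧ (g = diag 1 g₀ ∨ g = diag g₀ 1) := by
  cases x
  · have e : g.val = fromBlocks g.val.toBlocks₁₁ 0 0 (1 : Matrix ι ι F) := by
      ext (i | i) (j | j)
      · rfl
      all_goals
        rw [hs _ _ (by simp)]
        simp [Matrix.one_apply]
    have hd : g.val.toBlocks₁₁.det = 1 := by rw [← hdet, e, det_fromBlocks_zero₂₁]; simp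
    exact ⟨GeneralLinearGroup.mkOfDetNeZero _ (hd.symm ▸ one_ne_zero), hd, Or.inr (Units.ext e)⟩
  · have e : g.val = fromBlocks (1 : Matrix ι ι F) 0 0 g.val.toBlocks₂₂ := by
      ext (i | i) (j | j)
      pick_goal 4
      · rfl
      all_goals
        rw [hs _ _ (by simp)]
        simp [Matrix.one_apply]
    have hd : g.val.toBlocks₂₂.det = 1 := by rw [← hdet, e, det_fromBlocks_zero₂₁]; simp
    exact ⟨GeneralLinearGroup.mkOfDetNeZero _ (hd.symm ▸ one_ne_zero), hd, Or.inl (Units.ext e)⟩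

namespace Sys

variable {B : Type*} [AddCommGroup B] [Module (ZMod 2) B] [Fintype B] (S₀ : Sys B κ F)
variable [Fintype F] {σ : F →+* F} {Φ : Matrix κ κ F} {H : Subgroup (GL ((κ ⊕ κ) ⊕ (κ ⊕ κ)) F)}

theorem big_case (hyp : S₀.dp.StepHyp σ (dblΦ Φ) H) (hκ : 2 ≤ Fintype.card κ)
    (hbig : big σ (dblΦ Φ) ≤ lowK H) : big σ (dblΦ (dblΦ Φ)) ≤ H := by
  have hn : 3 ≤ Fintype.card (κ ⊕ κ) := by rw [Fintype.card_sum]; omega
  have hP : ∀ g ∈ big σ (dblΦ (dblΦ Φ)), ∀ x, Supp Sum.isRight x g.val → g ∈ H := fun g hg x hs => by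
    obtain ⟨hgi, hgd⟩ := mem_big.1 hg
    obtain ⟨g₀, hd, rfl | rfl⟩ := supp_diag hgd x hs
    · exact (hyp.blocks_mem hn hbig (mem_big.2 ⟨(diag_mem_iso.1 hgi).2, hd⟩)).1
    · exact (hyp.blocks_mem hn hbig (mem_big.2 ⟨(diag_mem_iso.1 hgi).1, hd⟩)).2
  have hcase : (dblΦ (dblΦ Φ) = 0 ∧ σ = RingHom.id F) ∨
      (dblΦ (dblΦ Φ) = 1 ∧ (∀ a, σ (σ a) = a) ∧ σ ≠ RingHom.id F) := by
    obtain ⟨i, hi, hσ⟩ := hyp.kind.dbl.exists_i
    rcases id hyp.kind.dbl with ⟨h0, hid, -⟩ | ⟨h1, -⟩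
    · exact Or.inl ⟨h0, hid⟩
    · refine Or.inr ⟨h1, hyp.kind.dbl.invol, fun h => ?_⟩
      rcases hσ with h0 | h0
      · have := S₀.dp.dp.nonempty
        rw [h1] at h0
        exact one_ne_zero h0
      · have h2 : (2 : F) * i = 0 := by rw [h, RingHom.id_apply] at h0; linear_combination h0
        have hi0 : i ≠ 0 := fun e => by rw [e, mul_zero] at hi; exact one_ne_zero (neg_eq_zero.1 hi.symm)
        exact mul_ne_zero S₀.two_ne hi0 h2
  obtain ⟨u, v, huv⟩ := Fintype.one_lt_card_iff.1 (show 1 < Fintype.card κ by omega)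
  refine isoGrp_le_of_halves σ _ hcase (fun i => i.isRight) (fun i => (qswap i).isRight) ?_ ?_
  · rintro (_ | _) (_ | _)
    exacts [⟨.inl (.inl u), .inl (.inl v), by simpa using huv, ⟨rfl, rfl⟩, rfl, rfl⟩,
      ⟨.inl (.inr u), .inl (.inr v), by simpa using huv, ⟨rfl, rfl⟩, rfl, rfl⟩,
      ⟨.inr (.inl u), .inr (.inl v), by simpa using huv, ⟨rfl, rfl⟩, rfl, rfl⟩,
      ⟨.inr (.inr u), .inr (.inr v), by simpa using huv, ⟨rfl, rfl⟩, rfl, rfl⟩]
  · rintro g hg ⟨x, hs | hs⟩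
    · exact hP g hg x hs
    · have hsw : sw ∈ H := hyp.ge ⟨sw_mem_iso σ Φ, S₀.sw_norm⟩
      have hswi : (sw : GL ((κ ⊕ κ) ⊕ (κ ⊕ κ)) F) ∈ isoGrp σ (dblΦ (dblΦ Φ)) := sw_mem_iso σ Φ
      obtain ⟨hgi, hgd⟩ := mem_big.1 hg
      have h1 : sw * g * sw⁻¹ ∈ H := by
        refine hP _ (mem_big.2 ⟨Subgroup.mul_mem _ (Subgroup.mul_mem _ hswi hgi) (Subgroup.inv_mem _ hswi), ?_⟩) x
          fun i j hij => ?_
        · rw [sw_conj_val, det_submatrix_equiv_self, hgd]
        · rw [sw_conj_val, Matrix.submatrix_apply]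
          have hqq : ∀ i : (κ ⊕ κ) ⊕ (κ ⊕ κ), qswap (qswap i) = i := by
            rintro ((i | i) | (i | i)) <;> rfl
          rw [hs (qswap i) (qswap j) (by simpa [hqq] using hij)]
          simp
      have h2 := H.mul_mem (H.mul_mem (H.inv_mem hsw) h1) hsw
      rwa [show sw⁻¹ * (sw * g * sw⁻¹) * sw = g by group] at h2

end Sys

end Cfsg.Agent.Forms.Max.TwoGroup
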