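import Cfsg.Agent.Lib.Forms.Max.TwoGroup.StepBig

/-!
# The setting reached by the small case of the induction step, and standard systems
-/

set_option autoImplicit false
set_option linter.unusedSectionVars false

namespace Cfsg.Agent.Forms.Max.TwoGroup

open Matrix

variable {F : Type*} [Field F]

namespace Sys

section conj

variable {A ι : Type*} [AddCommGroup A] [Module (ZMod 2) A] [Fintype A] [Fintype ι] [DecidableEq ι] (S : Sys A ι F)

/-- moving a fixed line by conjugation -/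
theorem Carries.conj {h n : GL ι F} {a b : A} {c d : F} (hn : S.Carries n a b d) (hh : S.Carries h a a c) :
    S.Carries (n * h * n⁻¹) b b c := by
  have hd : d ≠ 0 := Norm.coef_ne S hn
  have hn' : n.val * S.e a = d • (S.e b * n.val) := hn
  have hh' : h.val * S.e a = c • (S.e a * h.val) := hh
  have hb : S.e b = d⁻¹ • (n.val * S.e a * n⁻¹.val) := by
    rw [hn', Matrix.smul_mul, smul_smul, inv_mul_cancel₀ hd, one_smul, mul_assoc, ← Units.val_mul, mul_inv_cancel,
      Units.val_one, mul_one]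
  show (n * h * n⁻¹).val * S.e b = c • (S.e b * (n * h * n⁻¹).val)
  rw [hb, Units.val_mul, Units.val_mul, Matrix.mul_smul, Matrix.smul_mul, smul_comm c]
  congr 1
  calc n.val * h.val * n⁻¹.val * (n.val * S.e a * n⁻¹.val)
      = n.val * (h.val * S.e a) * n⁻¹.val := by
        simp only [mul_assoc]; rw [← mul_assoc n⁻¹.val, ← Units.val_mul, inv_mul_cancel, Units.val_one, one_mul]
    _ = c • (n.val * S.e a * h.val * n⁻¹.val) := by
        rw [hh', Matrix.mul_smul, Matrix.smul_mul]; simp only [mul_assoc]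
    _ = _ := by
        congr 1
        simp only [mul_assoc, Units.inv_mul_cancel_left]

end conj

variable {κ : Type} [Fintype κ] [DecidableEq κ] {B : Type*} [AddCommGroup B] [Module (ZMod 2) B] [Fintype B]
  (S₀ : Sys B κ F) [Fintype F] {σ : F →+* F} {Φ : Matrix κ κ F} {H : Subgroup (GL ((κ ⊕ κ) ⊕ (κ ⊕ κ)) F)}

theorem cent_all (hyp : S₀.dp.StepHyp σ (dblΦ Φ) H) (hB : 4 ≤ Fintype.card B) (hsmall : lowK H ≤ S₀.dp.norm)
    {a : (ZMod 2 × ZMod 2) × ((ZMod 2 × ZMod 2) × B)} (ha : a ≠ 0) {h : GL ((κ ⊕ κ) ⊕ (κ ⊕ κ)) F} (hh : h ∈ H)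
    {c : F} (hc : S₀.dp.dp.Carries h a a c) : S₀.dp.dp.Norm h := by
  have hu := S₀.dp.dp_u_mem_iso hyp.iso
  obtain ⟨n, hn, hna⟩ := S₀.dp.dp.trans_cx hyp.kind.dbl hu ha (b := zb) (by simp [zb])
  obtain ⟨d, -, hd⟩ := hn.2.img_spec a
  rw [hna] at hd
  have hnH : n ∈ H := hyp.ge hn
  have := cent_zb S₀ hyp hB hsmall (H.mul_mem (H.mul_mem hnH hh) (H.inv_mem hnH))
    (Carries.conj S₀.dp.dp hd hc)
  have h2 := (hn.2.inv.mul this).mul hn.2
  rwa [show n⁻¹ * (n * h * n⁻¹) * n = h by group] at h2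

/-- the small case gives the setting of the overgroup arguments -/
theorem setting_dp (hyp : S₀.dp.StepHyp σ (dblΦ Φ) H) (hB : 4 ≤ Fintype.card B) (hsmall : lowK H ≤ S₀.dp.norm) :
    S₀.dp.dp.Setting (fun _ => 0) H where
  u_mem := hyp.u_mem
  carry _ _ _ _ _ _ := rfl
  trans a b ha hb _ := by
    obtain ⟨n, hn, e⟩ := S₀.dp.dp.trans_cx hyp.kind.dbl (S₀.dp.dp_u_mem_iso hyp.iso) ha hb
    exact ⟨n, hyp.ge hn, hn.2, e⟩
  cent a ha h hh := fun ⟨_, hc⟩ => cent_all S₀ hyp hB hsmall ha hh hc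
  kind := Or.inl fun v _ => by
    obtain ⟨g, hg, hfix, himg⟩ := S₀.dp.dp.exists_τ_lift hyp.kind.dbl (S₀.dp.dp_u_mem_iso hyp.iso) v
    exact ⟨g, hyp.ge hg, hg.2, hfix, himg⟩

/-- a pair lift with distinct vectors -/
theorem exists_pair_lift (hyp : S₀.dp.StepHyp σ (dblΦ Φ) H) :
    ∃ (c d : F) (v w : (ZMod 2 × ZMod 2) × ((ZMod 2 × ZMod 2) × B)) (hp : S₀.dp.dp.Pair c d v w),
      v ≠ 0 ∧ w ≠ 0 ∧ v ≠ w ∧ scal 1 hp.pr ∈ H := by
  refine ⟨1, 1, zb, emb zb, ⟨?_, ?_, ?_⟩, by simp [zb], by simp [emb, zb], by simp [emb, zb], ?_⟩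
  · rw [one_mul, one_mul, zb, dbl_q]
    simp [q, twoPlus, two, cocycle]
  · rw [one_mul, one_mul, emb, dbl_q, zb, dbl_q]
    simp [q, twoPlus, two, cocycle]
  · rw [dp_ω_zb]; simp [emb]
  · refine hyp.ge ⟨?_, S₀.dp.dp.norm_scal (Pair.pr_mem _) 1⟩
    refine scal_mem_iso (pr_mem_iso S₀.dp.dp (S₀.dp.dp_u_mem_iso hyp.iso) _ ?_ ?_) ?_ <;>
      exact Or.inl (by simp)

end Sys

/-- systems of every dimension with monomials preserving the standard forms -/
theorem exists_std_sys (h2 : (2 : F) ≠ 0) (m : ℕ) :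
    ∃ (κ : Type) (_ : Fintype κ) (_ : DecidableEq κ) (B : Type) (_ : AddCommGroup B) (_ : Module (ZMod 2) B)
      (_ : Fintype B) (S : Sys B κ F), Fintype.card B = 4 ^ m ∧
      ∀ (σ : F →+* F) (a : B), S.u a ∈ isoGrp σ (1 : Matrix κ κ F) := by
  induction m with
  | zero =>
    refine ⟨Unit, inferInstance, inferInstance, PUnit, inferInstance, inferInstance, inferInstance,
      { e := fun _ => 1, β := 0, two_ne := h2, card_ne := by simp, e_zero := rfl,
        e_mul := fun _ _ => by simp, trace_eq := fun a ha => absurd (Subsingleton.elim a 0) ha,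
        card_eq := by simp, nondeg := fun a _ => Subsingleton.elim a 0 }, by simp, fun σ a => ?_⟩
    simp [mem_isoGrp]
  | succ m ih =>
    obtain ⟨κ, _, _, B, _, _, _, S, hB, hu⟩ := ih
    refine ⟨κ ⊕ κ, inferInstance, inferInstance, (ZMod 2 × ZMod 2) × B, inferInstance, inferInstance,
      inferInstance, S.dp, by rw [Sys.dp_card, hB, pow_succ]; ring, fun σ a => ?_⟩
    have h := S.dp_u_mem_iso (hu σ) a
    rwa [show dblΦ (1 : Matrix κ κ F) = 1 by simp [dblΦ, fromBlocks_one]] at h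

end Cfsg.Agent.Forms.Max.TwoGroup
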